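import Mathlib.LinearAlgebra.Matrix.Kronecker
import Mathlib.LinearAlgebra.Matrix.ToLin
import Mathlib.LinearAlgebra.Matrix.DotProduct
import Mathlib.LinearAlgebra.Dual.Lemmas
import Mathlib.LinearAlgebra.Dimension.Constructions
import Mathlib.Tactic

/-!
One tensor slot: matrices on `Fin m × ρ`, the columns `u ⊗ 1` and the rows `φ ⊗ 1`.
-/

set_option autoImplicit false
set_option linter.unusedSectionVars false

namespace Cfsg.Agent.H98.TensorWreath

open Matrix
open scoped Kronecker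

variable {F : Type*} [Field F] {m : ℕ} {ρ : Type*} [Fintype ρ] [DecidableEq ρ]

/-- Matrices on `F^m ⊗ F^ρ`. -/
abbrev V (F : Type*) (m : ℕ) (ρ : Type*) := Matrix (Fin m × ρ) (Fin m × ρ) F

/-- `r ↦ u ⊗ r`. -/
def io (u : Fin m → F) : Matrix (Fin m × ρ) ρ F := Matrix.of fun p s => if p.2 = s then u p.1 else 0

/-- Contraction with `φ` in the slot. -/
def pr (φ : Fin m → F) : Matrix ρ (Fin m × ρ) F := Matrix.of fun s p => if p.2 = s then φ p.1 else 0

theorem pr_mul_io (φ u : Fin m → F) :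
    pr (ρ := ρ) φ * io u = (φ ⬝ᵥ u) • (1 : Matrix ρ ρ F) := by
  ext r s
  rw [Matrix.mul_apply, Fintype.sum_prod_type]
  rcases eq_or_ne r s with rfl | h
  · simp [pr, io, dotProduct]
  · simp [pr, io, h, h.symm]

theorem io_add (u v : Fin m → F) : io (ρ := ρ) (u + v) = io u + io v := by
  ext p s; simp only [io, of_apply, Matrix.add_apply, Pi.add_apply]; split_ifs <;> simp

theorem io_smul (c : F) (u : Fin m → F) : io (ρ := ρ) (c • u) = c • io u := by
  ext p s; simp [io]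

theorem io_zero : io (ρ := ρ) (0 : Fin m → F) = 0 := by
  ext p s; simp [io]

theorem io_sub (u v : Fin m → F) : io (ρ := ρ) (u - v) = io u - io v := by
  ext p s; simp only [io, of_apply, Matrix.sub_apply, Pi.sub_apply]; split_ifs <;> simp

theorem pr_add (φ χ : Fin m → F) : pr (ρ := ρ) (φ + χ) = pr φ + pr χ := by
  ext p s; simp only [pr, of_apply, Matrix.add_apply, Pi.add_apply]; split_ifs <;> simp

theorem pr_smul (c : F) (φ : Fin m → F) : pr (ρ := ρ) (c • φ) = c • pr φ := by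
  ext p s; simp [pr]

theorem pr_zero : pr (ρ := ρ) (0 : Fin m → F) = 0 := by
  ext p s; simp [pr]

theorem kron_mul_io (A : Matrix (Fin m) (Fin m) F) (B : Matrix ρ ρ F) (u : Fin m → F) :
    (A ⊗ₖ B) * io u = io (ρ := ρ) (A *ᵥ u) * B := by
  ext ⟨a, r⟩ s
  simp only [Matrix.mul_apply, Fintype.sum_prod_type, kroneckerMap_apply, io, of_apply, mul_ite, mul_zero,
    Finset.sum_ite_eq', Finset.mem_univ, if_true, ite_mul, zero_mul, Finset.sum_ite_eq, mulVec, dotProduct,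
    Finset.sum_mul]
  exact Finset.sum_congr rfl fun b _ => by ring

theorem pr_mul_kron (A : Matrix (Fin m) (Fin m) F) (B : Matrix ρ ρ F) (φ : Fin m → F) :
    pr (ρ := ρ) φ * (A ⊗ₖ B) = B * pr (φ ᵥ* A) := by
  ext r ⟨b, s⟩
  simp only [Matrix.mul_apply, Fintype.sum_prod_type, kroneckerMap_apply, pr, of_apply, mul_ite, mul_zero,
    Finset.sum_ite_eq', Finset.mem_univ, if_true, ite_mul, zero_mul, Finset.sum_ite_eq, vecMul, dotProduct,
    Finset.mul_sum]
  exact Finset.sum_congr rfl fun a _ => by ring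

theorem io_mul_mul_pr (u : Fin m → F) (X : Matrix ρ ρ F) (φ : Fin m → F) :
    io (ρ := ρ) u * X * pr φ = vecMulVec u φ ⊗ₖ X := by
  ext ⟨a, r⟩ ⟨b, s⟩
  simp only [Matrix.mul_apply, kroneckerMap_apply, io, pr, of_apply, mul_ite, mul_zero, Finset.sum_ite_eq',
    Finset.sum_ite_eq, Finset.mem_univ, if_true, ite_mul, zero_mul, vecMulVec_apply]
  ring

theorem io_mul_pr (u φ : Fin m → F) : io (ρ := ρ) u * pr φ = vecMulVec u φ ⊗ₖ (1 : Matrix ρ ρ F) := by
  rw [← io_mul_mul_pr, Matrix.mul_one]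

theorem sum_io_pr : ∑ a : Fin m, io (ρ := ρ) (Pi.single a (1 : F)) * pr (Pi.single a (1 : F)) = (1 : V F m ρ) := by
  ext ⟨a, r⟩ ⟨b, s⟩
  simp [Matrix.sum_apply, io_mul_pr, vecMulVec_apply, Pi.single_apply, Matrix.one_apply]
  split_ifs <;> simp_all

theorem ext_io {κ : Type*} {X Y : Matrix κ (Fin m × ρ) F}
    (h : ∀ a : Fin m, X * io (ρ := ρ) (Pi.single a (1 : F)) = Y * io (ρ := ρ) (Pi.single a (1 : F))) : X = Y := by
  rw [← Matrix.mul_one X, ← Matrix.mul_one Y, ← sum_io_pr, Matrix.mul_sum, Matrix.mul_sum]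
  exact Finset.sum_congr rfl fun a _ => by rw [← Matrix.mul_assoc, ← Matrix.mul_assoc, h]

theorem ext_pr {κ : Type*} [Fintype κ] {X Y : Matrix (Fin m × ρ) κ F}
    (h : ∀ a : Fin m, pr (ρ := ρ) (Pi.single a (1 : F)) * X = pr (ρ := ρ) (Pi.single a (1 : F)) * Y) : X = Y := by
  rw [← Matrix.one_mul X, ← Matrix.one_mul Y, ← sum_io_pr, Matrix.sum_mul, Matrix.sum_mul]
  exact Finset.sum_congr rfl fun a _ => by rw [Matrix.mul_assoc, Matrix.mul_assoc, h]

/-- A functional with value one at a non-zero vector. -/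
theorem exists_eq_one {u : Fin m → F} (hu : u ≠ 0) : ∃ φ : Fin m → F, φ ⬝ᵥ u = 1 := by
  obtain ⟨i, hi⟩ := Function.ne_iff.1 hu
  exact ⟨Pi.single i (u i)⁻¹, by rw [single_dotProduct]; exact inv_mul_cancel₀ hi⟩

theorem exists_eq_one' {φ : Fin m → F} (hφ : φ ≠ 0) : ∃ u : Fin m → F, φ ⬝ᵥ u = 1 := by
  obtain ⟨u, hu⟩ := exists_eq_one hφ
  exact ⟨u, by rw [dotProduct_comm]; exact hu⟩

/-- A functional killing two given vectors. -/
theorem exists_perp_two (hm : 3 ≤ m) (u w : Fin m → F) :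
    ∃ φ : Fin m → F, φ ≠ 0 ∧ φ ⬝ᵥ u = 0 ∧ φ ⬝ᵥ w = 0 := by
  let f : (Fin m → F) →ₗ[F] F × F := (dotProductBilin F F u).prod (dotProductBilin F F w)
  have h := LinearMap.ker_ne_bot_of_finrank_lt (f := f)
    (by rw [Module.finrank_prod, Module.finrank_self, Module.finrank_fin_fun]; omega)
  obtain ⟨φ, hφ, hφ0⟩ := Submodule.exists_mem_ne_zero_of_ne_bot h
  refine ⟨φ, hφ0, ?_, ?_⟩
  · rw [dotProduct_comm]; exact congrArg Prod.fst hφ
  · rw [dotProduct_comm]; exact congrArg Prod.snd hφ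

theorem exists_perp_two' (hm : 3 ≤ m) (φ χ : Fin m → F) :
    ∃ u : Fin m → F, u ≠ 0 ∧ φ ⬝ᵥ u = 0 ∧ χ ⬝ᵥ u = 0 := by
  obtain ⟨u, h0, h1, h2⟩ := exists_perp_two hm φ χ
  exact ⟨u, h0, by rwa [dotProduct_comm], by rwa [dotProduct_comm]⟩

/-- A functional separating `w` from the line of `u`. -/
theorem exists_sep {u w : Fin m → F} (h : ∀ c : F, w ≠ c • u) :
    ∃ φ : Fin m → F, φ ⬝ᵥ u = 0 ∧ φ ⬝ᵥ w = 1 := by
  have hw : w ∉ Submodule.span F {u} := fun hw => by
    obtain ⟨c, hc⟩ := Submodule.mem_span_singleton.1 hw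
    exact h c hc.symm
  obtain ⟨f, hf, hle⟩ := Submodule.exists_le_ker_of_notMem hw
  have e : ∀ x, (dotProductEquiv F (Fin m)).symm f ⬝ᵥ x = f x := fun x => by
    conv_rhs => rw [← LinearEquiv.apply_symm_apply (dotProductEquiv F (Fin m)) f]
    rw [dotProductEquiv_apply_apply]
  refine ⟨(f w)⁻¹ • (dotProductEquiv F (Fin m)).symm f, ?_, ?_⟩
  · rw [smul_dotProduct, e, show f u = 0 from hle (Submodule.mem_span_singleton_self u), smul_zero]
  · rw [smul_dotProduct, e, smul_eq_mul, inv_mul_cancel₀ hf]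

/-- The vectors killed by all functionals killing `u` are the multiples of `u`. -/
theorem eq_smul_of_perp {u w : Fin m → F} (h : ∀ φ : Fin m → F, φ ⬝ᵥ u = 0 → φ ⬝ᵥ w = 0) :
    ∃ c : F, w = c • u := by
  by_contra hc
  push Not at hc
  obtain ⟨φ, h1, h2⟩ := exists_sep hc
  exact one_ne_zero (α := F) (h2.symm.trans (h φ h1))

theorem eq_smul_of_perp' {φ χ : Fin m → F} (h : ∀ u : Fin m → F, φ ⬝ᵥ u = 0 → χ ⬝ᵥ u = 0) :
    ∃ c : F, χ = c • φ :=
  eq_smul_of_perp fun u hu => by rw [dotProduct_comm]; exact h u (by rwa [dotProduct_comm])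

theorem eq_zero_of_io [Nonempty ρ] {u : Fin m → F} (h : io (ρ := ρ) u = 0) : u = 0 :=
  funext fun a => by simpa [io] using congrFun (congrFun h (a, Classical.arbitrary ρ)) (Classical.arbitrary ρ)

theorem smul_one_inj [Nonempty ρ] {c d : F} (h : c • (1 : Matrix ρ ρ F) = d • 1) : c = d := by
  simpa using congrFun (congrFun h (Classical.arbitrary ρ)) (Classical.arbitrary ρ)

end Cfsg.Agent.H98.TensorWreath
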