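import Cfsg.Agent.H98.TensorWreath.Pair
import Mathlib.LinearAlgebra.Matrix.Charpoly.Coeff
import Mathlib.GroupTheory.Sylow

/-!
In a small overgroup every conjugate of a root respects the slot.
-/

set_option autoImplicit false
set_option linter.unusedSectionVars false

namespace Cfsg.Agent.H98.TensorWreath

open Matrix Polynomial
open scoped Kronecker

variable {F : Type*} [Field F] {m : ℕ} {ρ : Type*} [Fintype ρ] [DecidableEq ρ]
variable {M : Subgroup (GL (Fin m × ρ) F)}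

/-- A nilpotent matrix vanishes in the power of its size. -/
theorem pow_card_eq_zero {ι : Type*} [Fintype ι] [DecidableEq ι] {z : Matrix ι ι F} (hz : IsNilpotent z) :
    z ^ Fintype.card ι = 0 := by
  have h := aeval_self_charpoly z
  rwa [sub_eq_zero.1 (isNilpotent_charpoly_sub_pow_of_isNilpotent hz).eq_zero, map_pow, aeval_X] at h

/-- In characteristic two the algebra of a high enough power is reduced. -/
theorem reduced_of_pow [Finite F] [CharP F 2] {ι : Type*} [Fintype ι] [DecidableEq ι] (Q : Matrix ι ι F) {K : ℕ}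
    (hK : Fintype.card ι ≤ 2 ^ K) (c : F) (q : F[X])
    (hq : aeval (c • Q ^ 2 ^ K) q * aeval (c • Q ^ 2 ^ K) q = 0) : aeval (c • Q ^ 2 ^ K) q = 0 := by
  have hroot : ∀ x : F, ∃ y : F, y ^ 2 ^ K = x :=
    Finite.injective_iff_surjective.1 (iterateFrobenius_inj F 2 K)
  obtain ⟨c₀, hc₀⟩ := hroot c
  have key : ∀ q : F[X], ∃ y : F[X], aeval (c • Q ^ 2 ^ K) q = aeval Q y ^ 2 ^ K := by
    intro q
    induction q using Polynomial.induction_on' with
    | add p q hp hq =>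
      obtain ⟨y, hy⟩ := hp
      obtain ⟨z, hz⟩ := hq
      exact ⟨y + z, by rw [map_add, hy, hz, ← map_pow, ← map_pow, ← map_pow, ← map_add, add_pow_char_pow]⟩
    | monomial n a =>
      obtain ⟨a₀, ha₀⟩ := hroot a
      refine ⟨C (a₀ * c₀ ^ n) * X ^ n, ?_⟩
      rw [aeval_monomial, map_mul, map_pow, aeval_C, aeval_X, ← Algebra.smul_def, ← Algebra.smul_def, smul_pow,
        smul_pow, smul_smul, ← pow_mul, ← pow_mul, mul_comm (2 ^ K) n, mul_pow, ha₀, ← pow_mul, mul_comm n,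
        pow_mul c₀, hc₀]
  obtain ⟨y, hy⟩ := key q
  rw [hy] at hq ⊢
  exact pow_eq_zero_of_le hK (pow_card_eq_zero ⟨2 ^ K + 2 ^ K, by rw [pow_add, hq]⟩)

/-- A square-zero perturbation of one has order `p`. -/
theorem pow_char_of_sq_zero {ι : Type*} [Fintype ι] [DecidableEq ι] (p : ℕ) [CharP F p] {x : GL ι F} {N : Matrix ι ι F}
    (hN : N * N = 0) (hx : (x : Matrix ι ι F) = 1 + N) : x ^ p = 1 := by
  have h : ∀ n : ℕ, (1 + N) ^ n = 1 + (n : F) • N := fun n => by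
    induction n with
    | zero => simp
    | succ n ih => rw [pow_succ, ih, Nat.cast_succ, add_smul, one_smul, add_mul, one_mul, mul_add, mul_one,
        smul_mul_assoc, hN, smul_zero]; abel
  refine Units.ext ?_
  rw [Units.val_pow_eq_pow_val, hx, h, CharP.cast_eq_zero, zero_smul, add_zero, Units.val_one]

/-- The conjugate of `t` in a Sylow subgroup through `r`. -/
theorem exists_conj_pgroup {G : Type*} [Group G] [Finite G] {p : ℕ} [Fact p.Prime] {r t : G} (hr : r ^ p = 1)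
    (ht : t ^ p = 1) :
    ∃ P : Subgroup G, IsPGroup p P ∧ r ∈ P ∧ ∃ g ∈ Subgroup.closure ({r, t} : Set G), g * t * g⁻¹ ∈ P := by
  set H := Subgroup.closure ({r, t} : Set G) with hH
  have hz : ∀ x : H, x ^ p = 1 → IsPGroup p (Subgroup.zpowers x) := fun x hx => by
    rintro ⟨y, hy⟩
    obtain ⟨k, rfl⟩ := Subgroup.mem_zpowers_iff.1 hy
    exact ⟨1, Subtype.ext (by
      change (x ^ k) ^ (p ^ 1) = 1
      rw [pow_one, ← zpow_natCast, ← zpow_mul, mul_comm, zpow_mul, zpow_natCast, hx, _root_.one_zpow])⟩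
  set r' : H := ⟨r, Subgroup.subset_closure (by simp)⟩
  set t' : H := ⟨t, Subgroup.subset_closure (by simp)⟩
  obtain ⟨P, hP⟩ := (hz r' (Subtype.ext (by simpa using hr))).exists_le_sylow
  obtain ⟨Q, hQ⟩ := (hz t' (Subtype.ext (by simpa using ht))).exists_le_sylow
  obtain ⟨g, hg⟩ := MulAction.exists_smul_eq H Q P
  refine ⟨P.toSubgroup.map H.subtype, P.isPGroup'.map H.subtype, ⟨r', hP (Subgroup.mem_zpowers r'), rfl⟩,
    (g : G), g.2, ⟨g * t' * g⁻¹, ?_, rfl⟩⟩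
  rw [← hg]
  exact Subgroup.smul_mem_pointwise_smul _ (MulAut.conj g) _ (hQ (Subgroup.mem_zpowers t'))

section Bad

variable [Finite F] [Nonempty ρ] {t : GL (Fin m × ρ) F} {a : Matrix (Fin m × ρ) ρ F}
  {b : Matrix ρ (Fin m × ρ) F} {u φ : Fin m → F} {r : GL (Fin m × ρ) F}

/-- The generated group holds a conjugate of `t` respecting the slot. -/
theorem exists_weak_conj (hM : Over M) (hS : Small M) (hm : 3 ≤ m) (ht : Conj M t) (e : (t : V F m ρ) = 1 + a * b)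
    (hba : b * a = 0) (hu : u ≠ 0) (hφ : φ ≠ 0) (h0 : φ ⬝ᵥ u = 0) (hr : (r : V F m ρ) = 1 + io u * pr φ) :
    ∃ g ∈ Subgroup.closure ({r, t} : Set (GL (Fin m × ρ) F)), IsNilpotent (qm u φ (g * t * g⁻¹)) ∧
      (IsRoot (g * t * g⁻¹) ∨ IsOuter (g * t * g⁻¹)) := by
  obtain ⟨p, hp⟩ := CharP.exists F
  have : Fact p.Prime := ⟨CharP.char_is_prime F p⟩
  obtain ⟨P, hP, hrP, g, hg, hgP⟩ := exists_conj_pgroup
    (pow_char_of_sq_zero p (by rw [Matrix.mul_assoc, pr_io_mul, h0, zero_smul, Matrix.mul_zero]) hr)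
    (pow_char_of_sq_zero p (by rw [Matrix.mul_assoc, ← Matrix.mul_assoc b, hba, Matrix.zero_mul, Matrix.mul_zero]) e)
  have hrt : Subgroup.closure ({r, t} : Set (GL (Fin m × ρ) F)) ≤ M := by
    rw [Subgroup.closure_le]
    rintro x (rfl | hx)
    · exact (Conj.of_root ⟨u, φ, hu, hφ, h0, hr⟩).mem hM
    · rw [Set.mem_singleton_iff.1 hx]; exact ht.mem hM
  have hs : Conj M (g * t * g⁻¹) := ht.conj (hrt hg)
  have hn := qm_nilpotent_of_pgroup hM hu hφ h0 hr hP hrP hgP hs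
  exact ⟨g, hg, hn, classify hm hs (weak_of_nilpotent hM hS hm hu hφ h0 hr hs hn)⟩

/-- A conjugate which is a root is a root at `(u, φ)`. -/
theorem root_form (hu : u ≠ 0) (hφ : φ ≠ 0) (h0 : φ ⬝ᵥ u = 0) (hr : (r : V F m ρ) = 1 + io u * pr φ)
    (e : (t : V F m ρ) = 1 + a * b) (hbad : ¬ IsNilpotent (qm u φ t)) {g : GL (Fin m × ρ) F}
    (hg : g ∈ Subgroup.closure ({r, t} : Set (GL (Fin m × ρ) F))) (hn : IsNilpotent (qm u φ (g * t * g⁻¹)))
    (hroot : IsRoot (g * t * g⁻¹)) :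
    ∃ c : F, c ≠ 0 ∧ ((g * t * g⁻¹ : GL (Fin m × ρ) F) : V F m ρ) = 1 + io u * pr (c • φ) := by
  obtain ⟨u', φ', hu', hφ', h0', es⟩ := hroot
  set s := g * t * g⁻¹ with hs
  have hsG : s ∈ Subgroup.closure ({r, t} : Set (GL (Fin m × ρ) F)) :=
    mul_mem (mul_mem hg (Subgroup.subset_closure (by simp))) (inv_mem hg)
  have hQ : ∀ X : Matrix ρ ρ F, pr (ρ := ρ) φ * a * X = 0 → X = 1 → False := fun X hX hX1 => hbad (by
    rw [hX1, Matrix.mul_one] at hX
    rw [qm, e, add_sub_cancel_left, ← Matrix.mul_assoc, hX, Matrix.zero_mul, Matrix.zero_mul]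
    exact IsNilpotent.zero)
  have hP : (φ ⬝ᵥ u') * (φ' ⬝ᵥ u) = 0 := by
    rw [qm, es, add_sub_cancel_left, ← Matrix.mul_assoc, pr_mul_io, Matrix.smul_mul, Matrix.one_mul,
      Matrix.smul_mul, pr_mul_io, smul_smul] at hn
    obtain ⟨k, hk⟩ := hn
    rw [smul_pow, one_pow, smul_eq_zero] at hk
    exact (pow_eq_zero_iff'.1 (hk.resolve_right one_ne_zero)).1
  have colcase : φ ⬝ᵥ u' = 0 → ∃ k : F, u' = k • u := by
    intro hz
    by_contra hne
    push Not at hne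
    obtain ⟨ψ, hψu, hψ⟩ := exists_sep hne
    obtain ⟨α, β, hf⟩ := img_form (u := u) (a := a) (by
      rintro x (rfl | hx)
      · exact ⟨pr φ, 0, by rw [hr, add_sub_cancel_left, Matrix.mul_zero, add_zero]⟩
      · rw [Set.mem_singleton_iff] at hx; subst hx
        exact ⟨0, b, by rw [e, add_sub_cancel_left, Matrix.mul_zero, zero_add]⟩) hsG
    obtain ⟨v, hv⟩ := exists_eq_one' hφ'
    have h1 : io (ρ := ρ) u' = io u * (α * io v) + a * (β * io v) := by
      rw [← Matrix.mul_assoc, ← Matrix.mul_assoc, ← Matrix.add_mul, ← hf, es, add_sub_cancel_left, Matrix.mul_assoc,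
        pr_mul_io, hv, one_smul, Matrix.mul_one]
    have h2 := congrArg (pr (ρ := ρ) φ * ·) h1
    simp only [Matrix.mul_add, pr_io_mul, pr_mul_io, h0, hz, zero_smul, zero_add, ← Matrix.mul_assoc _ a] at h2
    have h3 := congrArg (pr (ρ := ρ) ψ * ·) h1
    simp only [Matrix.mul_add, pr_io_mul, pr_mul_io, hψu, hψ, zero_smul, one_smul, zero_add,
      ← Matrix.mul_assoc _ a] at h3
    refine hQ (β * io v * (pr (ρ := ρ) ψ * a)) (by rw [← Matrix.mul_assoc, ← h2, Matrix.zero_mul]) ?_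
    exact mul_eq_one_comm.1 h3.symm
  have rowcase : φ' ⬝ᵥ u = 0 → ∃ k : F, φ' = k • φ := by
    intro hz
    refine eq_smul_of_perp' fun w hw => ?_
    by_contra hne
    obtain ⟨γ, δ, hf⟩ := row_form (φ := φ) (b := b) (by
      rintro x (rfl | hx)
      · exact ⟨io u, 0, by rw [hr, add_sub_cancel_left, Matrix.zero_mul, add_zero]⟩
      · rw [Set.mem_singleton_iff] at hx; subst hx
        exact ⟨0, a, by rw [e, add_sub_cancel_left, Matrix.zero_mul, zero_add]⟩) hsG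
    obtain ⟨ξ, hξ⟩ := exists_eq_one hu'
    have h1 : pr (ρ := ρ) φ' = pr (ρ := ρ) ξ * γ * pr φ + pr (ρ := ρ) ξ * δ * b := by
      rw [Matrix.mul_assoc, Matrix.mul_assoc _ δ, ← Matrix.mul_add, ← hf, es, add_sub_cancel_left, pr_io_mul, hξ,
        one_smul]
    have h2 := congrArg (· * io (ρ := ρ) u) h1
    simp only [Matrix.add_mul, Matrix.mul_assoc _ (pr (ρ := ρ) φ), pr_mul_io, h0, hz, zero_smul, Matrix.mul_zero,
      zero_add] at h2
    have h3 := congrArg (· * io (ρ := ρ) w) h1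
    simp only [Matrix.add_mul, Matrix.mul_assoc _ (pr (ρ := ρ) φ), pr_mul_io, hw, zero_smul, Matrix.mul_zero,
      zero_add] at h3
    set D := pr (ρ := ρ) ξ * δ
    have hD : ((φ' ⬝ᵥ w)⁻¹ • (b * io (ρ := ρ) w)) * D = 1 := by
      rw [mul_eq_one_comm, Matrix.mul_smul, ← Matrix.mul_assoc, ← h3, smul_smul, inv_mul_cancel₀ hne, one_smul]
    refine hbad ?_
    have h4 : b * io (ρ := ρ) u = 0 := by
      rw [← Matrix.one_mul (b * io (ρ := ρ) u), ← hD, Matrix.mul_assoc, ← Matrix.mul_assoc D, ← h2, Matrix.mul_zero]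
    rw [qm, e, add_sub_cancel_left, ← Matrix.mul_assoc, Matrix.mul_assoc (pr φ * a), h4, Matrix.mul_zero]
    exact IsNilpotent.zero
  have both : (∃ k : F, u' = k • u) ∧ ∃ k : F, φ' = k • φ := by
    rcases mul_eq_zero.1 hP with hz | hz
    · obtain ⟨k, hk⟩ := colcase hz
      refine ⟨⟨k, hk⟩, rowcase ?_⟩
      rcases eq_or_ne k 0 with rfl | hk0
      · exact absurd (by rw [hk, zero_smul]) hu'
      · rw [hk, dotProduct_smul, smul_eq_zero] at h0'; exact h0'.resolve_left hk0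
    · obtain ⟨l, hl⟩ := rowcase hz
      refine ⟨colcase ?_, ⟨l, hl⟩⟩
      rcases eq_or_ne l 0 with rfl | hl0
      · exact absurd (by rw [hl, zero_smul]) hφ'
      · rw [hl, smul_dotProduct, smul_eq_zero] at h0'; exact h0'.resolve_left hl0
  obtain ⟨⟨k, hk⟩, ⟨l, hl⟩⟩ := both
  refine ⟨k * l, mul_ne_zero (fun h => hu' (by rw [hk, h, zero_smul])) (fun h => hφ' (by rw [hl, h, zero_smul])), ?_⟩
  rw [es, hk, hl, io_smul, pr_smul, pr_smul, Matrix.smul_mul, Matrix.mul_smul, Matrix.mul_smul, smul_smul]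

/-- The vectors killed by the functional of such a root lie over `u`. -/
theorem fix_form (hu : u ≠ 0) (h0 : φ ⬝ᵥ u = 0) (hr : (r : V F m ρ) = 1 + io u * pr φ)
    (e : (t : V F m ρ) = 1 + a * b) (hba : b * a = 0) {bR : Matrix (Fin m × ρ) ρ F} (hbR : b * bR = 1)
    {g : GL (Fin m × ρ) F} (hg : g ∈ Subgroup.closure ({r, t} : Set (GL (Fin m × ρ) F))) {c : F}
    (hs : ((g * t * g⁻¹ : GL (Fin m × ρ) F) : V F m ρ) = 1 + io u * pr (c • φ)) {Y : Matrix ρ ρ F}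
    (hY : pr (ρ := ρ) φ * a * Y = 0) : ∃ α, a * Y = io (ρ := ρ) u * α := by
  have hfix : (g : V F m ρ) * (a * Y) = a * Y := by
    clear hs
    induction hg using Subgroup.closure_induction with
    | mem x hx =>
      rcases hx with rfl | hx
      · rw [hr, Matrix.add_mul, Matrix.one_mul, Matrix.mul_assoc, ← Matrix.mul_assoc (pr φ), hY, Matrix.mul_zero,
          add_zero]
      · rw [Set.mem_singleton_iff] at hx; subst hx
        rw [e, Matrix.add_mul, Matrix.one_mul, Matrix.mul_assoc, ← Matrix.mul_assoc b, hba, Matrix.zero_mul,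
          Matrix.mul_zero, add_zero]
    | one => rw [Units.val_one, Matrix.one_mul]
    | mul x y _ _ hx hy => rw [Units.val_mul, Matrix.mul_assoc, hy, hx]
    | inv x _ hx =>
      nth_rw 1 [← hx]
      rw [← Matrix.mul_assoc, Units.inv_mul, Matrix.one_mul]
  have h1 : (g : V F m ρ) * (a * b) = io u * pr (c • φ) * (g : V F m ρ) := by
    have h2 := congrArg (· * (g : V F m ρ)) hs
    simp only [← Units.val_mul, inv_mul_cancel_right] at h2
    rw [Units.val_mul, e, mul_add, mul_one, add_mul, one_mul] at h2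
    exact add_left_cancel h2
  refine ⟨pr (ρ := ρ) (c • φ) * (g : V F m ρ) * (bR * Y), ?_⟩
  rw [← hfix]
  calc (g : V F m ρ) * (a * Y) = (g : V F m ρ) * (a * b) * (bR * Y) := by
        rw [Matrix.mul_assoc (g : V F m ρ), Matrix.mul_assoc a, ← Matrix.mul_assoc b, hbR, Matrix.one_mul]
    _ = _ := by rw [h1]; simp only [Matrix.mul_assoc]

/-- No conjugate of a root has non-nilpotent pairings all around `u`. -/
theorem bad_false (hM : Over M) (hS : Small M) (hm : 3 ≤ m) (hodd : m = 3 → Odd (Fintype.card ρ)) (ht : Conj M t)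
    (hbad : ¬ Weak t) {φ₀ : Fin m → F} (hu : u ≠ 0) (hφ₀ : φ₀ ≠ 0) (h₀ : φ₀ ⬝ᵥ u = 0)
    (hred : (2 : F) ≠ 0 ∨
      ∀ q : F[X], aeval (qm u φ₀ t) q * aeval (qm u φ₀ t) q = 0 → aeval (qm u φ₀ t) q = 0) : False := by
  obtain ⟨a, b, aL, bR, e, hba, haL, hbR⟩ := ht.data
  have root : ∀ φ : Fin m → F, φ ⬝ᵥ u = 0 → ∃ r : GL (Fin m × ρ) F, r ∈ M ∧ (r : V F m ρ) = 1 + io u * pr φ :=
    fun φ h => (hM u φ h).2
  have nn : ∀ (φ : Fin m → F), φ ≠ 0 → φ ⬝ᵥ u = 0 → ¬ IsNilpotent (qm u φ t) := fun φ hφ h hn => by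
    obtain ⟨r, -, hr⟩ := root φ h
    exact hbad (weak_of_nilpotent hM hS hm hu hφ h hr ht hn)
  have hC : ∀ {g : GL (Fin m × ρ) F} {C : Matrix ρ ρ F},
      ((g * t * g⁻¹ : GL (Fin m × ρ) F) : V F m ρ) = oc C → (C - 1) * (C - 1) = 0 := by
    intro g C hs
    have hN : a * b * (a * b) = 0 := by
      rw [Matrix.mul_assoc, ← Matrix.mul_assoc b, hba, Matrix.zero_mul, Matrix.mul_zero]
    have : NeZero m := ⟨by omega⟩
    refine oc_inj (m := m) ?_
    rw [← oc_mul, oc_sub_one, ← hs, Units.val_mul, Units.val_mul, e, mul_add, mul_one, add_mul, Units.mul_inv,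
      add_sub_cancel_left]
    simp only [mul_assoc, Units.inv_mul_cancel_left]
    rw [← mul_assoc (a * b), hN, zero_mul, mul_zero, oc, kronecker_zero]
  have base : ∀ {φ : Fin m → F}, φ ≠ 0 → φ ⬝ᵥ u = 0 → ∀ {r : GL (Fin m × ρ) F},
      (r : V F m ρ) = 1 + io u * pr φ → ∀ {g : GL (Fin m × ρ) F},
      g ∈ Subgroup.closure ({r, t} : Set (GL (Fin m × ρ) F)) → ∀ {C : Matrix ρ ρ F},
      ((g * t * g⁻¹ : GL (Fin m × ρ) F) : V F m ρ) = oc C →
      ((2 : F) ≠ 0 ∨ ∀ q : F[X], aeval (qm u φ t) q * aeval (qm u φ t) q = 0 → aeval (qm u φ t) q = 0) → False :=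
    fun hφ h r hr g hg C hs hred => outer_not_conj hu h hr e hba (nn _ hφ h) hred hg hs (hC hs)
  obtain ⟨r₀, -, hr₀⟩ := root φ₀ h₀
  obtain ⟨g₀, hg₀, hn₀, hd₀⟩ := exists_weak_conj hM hS hm ht e hba hu hφ₀ h₀ hr₀
  rcases hd₀ with hd₀ | ⟨C, hC₀⟩
  swap
  · exact base hφ₀ h₀ hr₀ hg₀ hC₀ hred
  obtain ⟨c₀, -, hs₀⟩ := root_form hu hφ₀ h₀ hr₀ e (nn _ hφ₀ h₀) hg₀ hn₀ hd₀
  have fix₀ : ∀ Y : Matrix ρ ρ F, pr (ρ := ρ) φ₀ * a * Y = 0 → ∃ α, a * Y = io (ρ := ρ) u * α :=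
    fun Y hY => fix_form hu h₀ hr₀ e hba hbR hg₀ hs₀ hY
  obtain ⟨f, hfφ, hfu⟩ : ∃ f : Fin m → F, φ₀ ⬝ᵥ f = 0 ∧ ∀ k : F, f ≠ k • u := by
    obtain ⟨ξ, hξ⟩ := exists_eq_one hu
    obtain ⟨f, hf, hf1, hf2⟩ := exists_perp_two' hm φ₀ ξ
    refine ⟨f, hf1, fun k hk => hf ?_⟩
    rw [hk, dotProduct_smul, hξ, smul_eq_mul, mul_one] at hf2
    rw [hk, hf2, zero_smul]
  have every : ∀ φ : Fin m → F, φ ≠ 0 → φ ⬝ᵥ u = 0 → ∃ r : GL (Fin m × ρ) F, (r : V F m ρ) = 1 + io u * pr φ ∧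
      r ∈ M ∧ ∃ g ∈ Subgroup.closure ({r, t} : Set (GL (Fin m × ρ) F)), ∃ c : F, c ≠ 0 ∧
        ((g * t * g⁻¹ : GL (Fin m × ρ) F) : V F m ρ) = 1 + io u * pr (c • φ) := by
    intro φ hφ h
    obtain ⟨r, hrM, hr⟩ := root φ h
    obtain ⟨g, hg, hn, hd⟩ := exists_weak_conj hM hS hm ht e hba hu hφ h hr
    rcases hd with hd | ⟨C, hC'⟩
    · exact ⟨r, hr, hrM, g, hg, root_form hu hφ h hr e (nn _ hφ h) hg hn hd⟩
    exfalso
    have hsG : g * t * g⁻¹ ∈ Subgroup.closure ({r, t} : Set (GL (Fin m × ρ) F)) :=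
      mul_mem (mul_mem hg (Subgroup.subset_closure (by simp))) (inv_mem hg)
    obtain ⟨α, β, hf⟩ := img_form (u := u) (a := a) (by
      rintro x (rfl | hx)
      · exact ⟨pr φ, 0, by rw [hr, add_sub_cancel_left, Matrix.mul_zero, add_zero]⟩
      · rw [Set.mem_singleton_iff] at hx; subst hx
        exact ⟨0, b, by rw [e, add_sub_cancel_left, Matrix.mul_zero, zero_add]⟩) hsG
    rw [hC', ← oc, ← oc_sub_one] at hf
    have h1 : io (ρ := ρ) f * (C - 1) = io u * (α * io f) + a * (β * io f) := by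
      rw [← oc_io, hf, Matrix.add_mul, Matrix.mul_assoc, Matrix.mul_assoc]
    have h2 := congrArg (pr (ρ := ρ) φ₀ * ·) h1
    simp only [Matrix.mul_add, pr_io_mul, hfφ, h₀, zero_smul, zero_add, ← Matrix.mul_assoc _ a] at h2
    obtain ⟨α', hα'⟩ := fix₀ _ h2.symm
    obtain ⟨ψ, hψu, hψf⟩ := exists_sep hfu
    have h3 := congrArg (pr (ρ := ρ) ψ * ·) h1
    rw [hα'] at h3
    simp only [Matrix.mul_add, pr_io_mul, hψu, hψf, zero_smul, one_smul, add_zero, sub_eq_zero] at h3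
    have hs1 : g * t * g⁻¹ = 1 := Units.ext (by rw [hC', h3, one_kronecker_one, Units.val_one])
    have ht1 : t = 1 := by rw [show t = g⁻¹ * (g * t * g⁻¹) * g by group, hs1]; group
    exact hbad (ht1 ▸ Weak.one)
  obtain ⟨ψ, hψ, hψu, hψf⟩ : ∃ ψ : Fin m → F, ψ ≠ 0 ∧ ψ ⬝ᵥ u = 0 ∧ ψ ⬝ᵥ f = 1 := by
    obtain ⟨ψ, h1, h2⟩ := exists_sep hfu
    exact ⟨ψ, fun h => by rw [h, zero_dotProduct] at h2; exact zero_ne_one h2, h1, h2⟩
  obtain ⟨r₁, hr₁, hr₁M, g₁, hg₁, c₁, hc₁, hs₁⟩ := every φ₀ hφ₀ h₀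
  obtain ⟨r₂, hr₂, hr₂M, g₂, hg₂, c₂, hc₂, hs₂⟩ := every ψ hψ hψu
  set S : Set (GL (Fin m × ρ) F) := {r₁, r₂, t}
  have hS₁ : g₁ ∈ Subgroup.closure S := Subgroup.closure_mono (by simp [S, Set.insert_subset_iff]) hg₁
  have hS₂ : g₂ ∈ Subgroup.closure S := Subgroup.closure_mono (by simp [S, Set.insert_subset_iff]) hg₂
  set k := g₂ * g₁⁻¹ with hk
  have hkS : k ∈ Subgroup.closure S := mul_mem hS₂ (inv_mem hS₁)
  have hkM : k ∈ M := by
    refine (Subgroup.closure_le M).2 ?_ hkS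
    rintro x (rfl | rfl | hx)
    · exact hr₁M
    · exact hr₂M
    · rw [Set.mem_singleton_iff.1 hx]; exact ht.mem hM
  have hkN : (k : V F m ρ) * (io u * pr (c₁ • φ₀)) = io u * pr (c₂ • ψ) * (k : V F m ρ) := by
    have h1 : k * (g₁ * t * g₁⁻¹) = g₂ * t * g₂⁻¹ * k := by rw [hk]; group
    have h2 := congrArg (fun z : GL (Fin m × ρ) F => (z : V F m ρ)) h1
    rw [Units.val_mul, Units.val_mul (g₂ * t * g₂⁻¹), hs₁, hs₂, mul_add, mul_one, add_mul, one_mul] at h2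
    exact add_left_cancel h2
  have hx0 : c₁ • φ₀ ≠ 0 := smul_ne_zero hc₁ hφ₀
  obtain ⟨A, B, hB, eAB⟩ := weak_of_conj hM hS hm hkM hu hx0 hu hkN
  obtain ⟨x, hx⟩ := exists_eq_one' hx0
  have h3 : vecMulVec (A *ᵥ u) (c₁ • φ₀) = vecMulVec u ((c₂ • ψ) ᵥ* A) := by
    rw [io_mul_pr, io_mul_pr, eAB, ← mul_kronecker_mul, ← mul_kronecker_mul, Matrix.mul_one, Matrix.one_mul,
      mul_vecMulVec, vecMulVec_mul] at hkN
    refine Matrix.ext fun i j => ?_
    have := congrArg (fun Z => pr (ρ := ρ) (Pi.single i (1 : F)) * Z * io (ρ := ρ) (Pi.single j (1 : F))) hkN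
    simp only [block_kron] at this
    exact smul_left_injective F hB.ne_zero this
  have h5 : A *ᵥ u = ((c₂ • ψ) ᵥ* A ⬝ᵥ x) • u := by
    have := congrArg (· *ᵥ x) h3
    simpa only [vecMulVec_mulVec, hx, MulOpposite.op_one, one_smul, op_smul_eq_smul] using this
  have h6 : (c₂ • ψ) ᵥ* A = ((c₂ • ψ) ᵥ* A ⬝ᵥ x) • (c₁ • φ₀) := by
    obtain ⟨i, hi⟩ := Function.ne_iff.1 hu
    funext j
    have := congrFun (congrFun h3 i) j
    simp only [vecMulVec_apply, h5, Pi.smul_apply, smul_eq_mul] at this ⊢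
    exact mul_left_cancel₀ hi (this.symm.trans (by ring))
  refine stab_false hm hodd hu hx0 (by rw [smul_dotProduct, h₀, smul_zero]) (ψ₀ := c₂ • ψ)
    (by rw [smul_dotProduct, hψu, smul_zero]) ?_ (a := a) ?_ hB eAB h5 h6
    (img_form (u := u) (a := a) ?_ hkS)
  · intro k hk
    have := congrArg (· ⬝ᵥ f) hk
    simp [smul_dotProduct, hψf, hfφ, hc₂] at this
  · intro χ hχ hχu Y hY
    obtain ⟨r, hr, -, g, hg, c, -, hs⟩ := every χ hχ hχu
    exact fix_form hu hχu hr e hba hbR hg hs hY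
  · rintro x (rfl | rfl | hx)
    · exact ⟨pr φ₀, 0, by rw [hr₁, add_sub_cancel_left, Matrix.mul_zero, add_zero]⟩
    · exact ⟨pr ψ, 0, by rw [hr₂, add_sub_cancel_left, Matrix.mul_zero, add_zero]⟩
    · rw [Set.mem_singleton_iff] at hx; subst hx
      exact ⟨0, b, by rw [e, add_sub_cancel_left, Matrix.mul_zero, zero_add]⟩

end Bad

/-- In a small overgroup every conjugate of a root respects the slot. -/
theorem conj_weak [Finite F] [Nonempty ρ] (hM : Over M) (hS : Small M) (hm : 3 ≤ m)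
    (hodd : m = 3 → Odd (Fintype.card ρ)) {t : GL (Fin m × ρ) F} (ht : Conj M t) : Weak t := by
  by_contra hbad
  have : NeZero m := ⟨by omega⟩
  set u : Fin m → F := Pi.single 0 1
  have hu : u ≠ 0 := by simp [u]
  obtain ⟨φ, hφ, h0, -⟩ := exists_perp_two hm u u
  by_cases h2 : (2 : F) = 0
  · have : CharP F 2 := CharTwo.of_one_ne_zero_of_two_eq_zero one_ne_zero h2
    obtain ⟨-, r, -, hr⟩ := hM u φ h0
    obtain ⟨K, hK⟩ : ∃ K : ℕ, Fintype.card ρ ≤ 2 ^ K := ⟨_, Nat.lt_two_pow_self.le⟩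
    obtain ⟨c, -, hq⟩ := shift_qm hM hu hφ h0 hr ht K
    refine bad_false hM hS hm hodd (shift_conj hM ⟨u, φ, hu, hφ, h0, hr⟩ ht K)
      (shift_not_weak hM hS hm hu hφ h0 hr ht hbad K) hu hφ h0 (Or.inr fun q h => ?_)
    rw [hq] at h ⊢
    exact reduced_of_pow _ hK c q h
  · exact bad_false hM hS hm hodd ht hbad hu hφ h0 (Or.inl h2)

end Cfsg.Agent.H98.TensorWreath
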