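import Cfsg.Agent.H98.TensorWreath.Classify

/-!
A subgroup which is not small on a slot.
-/

set_option autoImplicit false
set_option linter.unusedSectionVars false

namespace Cfsg.Agent.H98.TensorWreath

open Matrix
open scoped Kronecker

variable {F : Type*} [Field F] {m : ℕ} {ρ : Type*} [Fintype ρ] [DecidableEq ρ]
variable {M : Subgroup (GL (Fin m × ρ) F)}

/-- Change of the functional. -/
theorem move_row (hM : Over M) {u φ ξ : Fin m → F} (hφu : φ ⬝ᵥ u = 0) (hξu : ξ ⬝ᵥ u = 0) {v : Fin m → F}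
    (hφv : φ ⬝ᵥ v = 1) (hξv : ξ ⬝ᵥ v = 0) {X : Matrix ρ ρ F} (h : MN M (io u * X * pr φ)) :
    MN M (io u * X * pr ξ) := by
  have := MN.comm (hM v ξ hξv) h
    (by rw [Matrix.mul_assoc (io u) X, Matrix.mul_assoc (io v), pr_io_mul, hξu, zero_smul, Matrix.mul_zero])
  rwa [Matrix.mul_assoc (io u * X) (pr φ), pr_io_mul, hφv, one_smul] at this

/-- Change of the vector. -/
theorem move_col (hM : Over M) {u φ w : Fin m → F} (hφu : φ ⬝ᵥ u = 0) (hφw : φ ⬝ᵥ w = 0) {ξ : Fin m → F}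
    (hξu : ξ ⬝ᵥ u = 1) (hξw : ξ ⬝ᵥ w = 0) {X : Matrix ρ ρ F} (h : MN M (io u * X * pr φ)) :
    MN M (io w * X * pr φ) := by
  have := MN.comm h (hM w ξ hξw)
    (by rw [Matrix.mul_assoc (io u * X), pr_io_mul, hφw, zero_smul, Matrix.mul_zero])
  rwa [Matrix.mul_assoc (io u) X, Matrix.mul_assoc (io w) (pr ξ), pr_io_mul, hξu, one_smul, ← Matrix.mul_assoc]
    at this

theorem move_row_all (hM : Over M) (hm : 3 ≤ m) {u φ ξ : Fin m → F} (hφ : φ ≠ 0) (hξ : ξ ≠ 0)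
    (hφu : φ ⬝ᵥ u = 0) (hξu : ξ ⬝ᵥ u = 0) {X : Matrix ρ ρ F} (h : MN M (io u * X * pr φ)) :
    MN M (io u * X * pr ξ) := by
  have indep : ∀ {φ ξ : Fin m → F}, φ ⬝ᵥ u = 0 → ξ ⬝ᵥ u = 0 → (∀ c : F, φ ≠ c • ξ) →
      MN M (io u * X * pr φ) → MN M (io u * X * pr ξ) := by
    intro φ ξ hφu hξu hind h
    obtain ⟨v, hv1, hv2⟩ := exists_sep (u := ξ) (w := φ) hind
    exact move_row hM hφu hξu (v := v) (by rw [dotProduct_comm]; exact hv2) (by rw [dotProduct_comm]; exact hv1) h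
  by_cases hc : ∀ c : F, φ ≠ c • ξ
  · exact indep hφu hξu hc h
  · push Not at hc
    obtain ⟨c, rfl⟩ := hc
    obtain ⟨v, hv⟩ := exists_eq_one' hξ
    obtain ⟨ψ, hψ, hψu, hψv⟩ := exists_perp_two hm u v
    refine indep hψu hξu (fun d hd => hψ ?_) (indep hφu hψu (fun d hd => hφ ?_) h)
    · rw [hd, smul_dotProduct, hv, smul_eq_mul, mul_one] at hψv
      rw [hd, hψv, zero_smul]
    · have := congrArg (· ⬝ᵥ v) hd
      simp only [smul_dotProduct, hv, hψv, smul_eq_mul, mul_one, mul_zero] at this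
      rw [this, zero_smul]

theorem move_col_all (hM : Over M) (hm : 3 ≤ m) {u φ w : Fin m → F} (hu : u ≠ 0) (hw : w ≠ 0)
    (hφu : φ ⬝ᵥ u = 0) (hφw : φ ⬝ᵥ w = 0) {X : Matrix ρ ρ F} (h : MN M (io u * X * pr φ)) :
    MN M (io w * X * pr φ) := by
  have indep : ∀ {u w : Fin m → F}, φ ⬝ᵥ u = 0 → φ ⬝ᵥ w = 0 → (∀ c : F, u ≠ c • w) →
      MN M (io u * X * pr φ) → MN M (io w * X * pr φ) := by
    intro u w hφu hφw hind h
    obtain ⟨ξ, h1, h2⟩ := exists_sep hind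
    exact move_col hM hφu hφw h2 h1 h
  by_cases hc : ∀ c : F, u ≠ c • w
  · exact indep hφu hφw hc h
  · push Not at hc
    obtain ⟨c, rfl⟩ := hc
    obtain ⟨ξ, hξ⟩ := exists_eq_one hw
    obtain ⟨z, hz, hzφ, hzξ⟩ := exists_perp_two' hm φ ξ
    refine indep hzφ hφw (fun d hd => hz ?_) (indep hφu hzφ (fun d hd => hu ?_) h)
    · rw [hd, dotProduct_smul, hξ, smul_eq_mul, mul_one] at hzξ
      rw [hd, hzξ, zero_smul]
    · have := congrArg (ξ ⬝ᵥ ·) hd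
      simp only [dotProduct_smul, hξ, hzξ, smul_eq_mul, mul_one, mul_zero] at this
      rw [this, zero_smul]

/-- A non-scalar matrix for all the roots. -/
theorem exists_witness (hM : Over M) (hm : 3 ≤ m) (hns : ¬ Small M) :
    ∃ X : Matrix ρ ρ F, (∀ c : F, X ≠ c • 1) ∧
      ∀ u φ : Fin m → F, φ ⬝ᵥ u = 0 → MN M (io u * X * pr φ) := by
  simp only [Small] at hns
  push Not at hns
  obtain ⟨u, φ, X, hφu, hu, hφ, hX, hne⟩ := hns
  refine ⟨X, hne, fun w ξ h0 => ?_⟩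
  rcases eq_or_ne w 0 with rfl | hw
  · rw [io_zero, Matrix.zero_mul, Matrix.zero_mul]; exact MN.zero
  rcases eq_or_ne ξ 0 with rfl | hξ
  · rw [pr_zero, Matrix.mul_zero]; exact MN.zero
  obtain ⟨ψ, hψ, hψu, hψw⟩ := exists_perp_two hm u w
  exact move_row_all hM hm hψ hξ hψw h0
    (move_col_all hM hm hu hw hψu hψw (move_row_all hM hm hφ hψ hφu hψu hX))

end Cfsg.Agent.H98.TensorWreath
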