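import Cfsg.Agent.H98.TensorWreath.Full
import Cfsg.Agent.H98.TensorWreath.Witness
import Cfsg.Agent.H98.TensorWreath.Core
import Cfsg.Agent.Linear.Generation

/-!
An overgroup which is not small on some factor contains the special linear group.
-/

set_option autoImplicit false
set_option linter.unusedSectionVars false

namespace Cfsg.Agent.H98.TensorWreath.Full

open Matrix
open scoped Kronecker
open Cfsg.Geo (glReindex)

variable {F : Type*} [Field F] {m t : ℕ}

/-- The other factors. -/
abbrev Rho (m : ℕ) {t : ℕ} (i : Fin t) := {j : Fin t // j ≠ i} → Fin m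

/-- The coordinates at one factor. -/
abbrev split (m : ℕ) {t : ℕ} (i : Fin t) : (Fin t → Fin m) ≃ Fin m × Rho m i := Equiv.funSplitAt i (Fin m)

/-- The matrices in the coordinates at one factor. -/
def loc (i : Fin t) : W F m t ≃ₐ[F] Matrix (Fin m × Rho m i) (Fin m × Rho m i) F :=
  Matrix.reindexAlgEquiv F F (split m i)

/-- The subgroup in the coordinates at one factor. -/
def locM (M : Subgroup (GL (Fin t → Fin m) F)) (i : Fin t) : Subgroup (GL (Fin m × Rho m i) F) :=
  M.map (glReindex (split m i)).toMonoidHom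

theorem loc_val (i : Fin t) (g : GL (Fin t → Fin m) F) :
    ((glReindex (split m i) g : GL (Fin m × Rho m i) F) : Matrix (Fin m × Rho m i) (Fin m × Rho m i) F) =
      loc i (g : W F m t) := rfl

theorem loc_slot (i : Fin t) (A : Matrix (Fin m) (Fin m) F) :
    loc i (slot i A) = A ⊗ₖ (1 : Matrix (Rho m i) (Rho m i) F) := by
  ext ⟨a, r⟩ ⟨b, s⟩
  change slot i A ((split m i).symm (a, r)) ((split m i).symm (b, s)) = _
  rw [slot_apply, kroneckerMap_apply, Matrix.one_apply, mul_ite, mul_one, mul_zero]
  have h1 : (split m i).symm (a, r) i = a := by simp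
  have h2 : (split m i).symm (b, s) i = b := by simp
  rw [h1, h2]
  refine if_congr ⟨fun h => funext fun j => ?_, fun h j hj => ?_⟩ rfl rfl
  · simpa [j.2] using h j j.2
  · simpa [hj] using congrFun h ⟨j, hj⟩

theorem mn_loc {M : Subgroup (GL (Fin t → Fin m) F)} {i : Fin t} {N : W F m t} :
    MN (locM M i) (loc i N) ↔ MN M N := by
  constructor
  · rintro ⟨h, g, hg, e⟩
    obtain ⟨g', hg', rfl⟩ := Subgroup.mem_map.1 hg
    refine ⟨(loc i).injective (by rw [map_mul, h, map_zero]), g', hg', (loc i).injective ?_⟩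
    rw [map_add, map_one, ← e]
    rfl
  · rintro ⟨h, g, hg, e⟩
    refine ⟨by rw [← map_mul, h, map_zero], glReindex (split m i) g, Subgroup.mem_map_of_mem _ hg, ?_⟩
    rw [loc_val, e, map_add, map_one]

variable (M : Subgroup (GL (Fin t → Fin m) F))

/-- `M` contains the roots of all factors. -/
def Roots : Prop := ∀ (i : Fin t) (u φ : Fin m → F), φ ⬝ᵥ u = 0 → MN M (slot i (vecMulVec u φ))

/-- `M` permutes three factors cyclically. -/
def Cycles : Prop :=
  ∀ i k l : Fin t, i ≠ k → k ≠ l → l ≠ i → ∃ g ∈ M, ∀ A : Matrix (Fin m) (Fin m) F,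
    (g : W F m t) * slot i A = slot k A * (g : W F m t) ∧ (g : W F m t) * slot k A = slot l A * (g : W F m t) ∧
      (g : W F m t) * slot l A = slot i A * (g : W F m t)

variable {M}

theorem Roots.unit (hR : Roots M) (i : Fin t) {a b : Fin m} (h : a ≠ b) (c : F) :
    MN M (slot i (Matrix.single a b c)) := by
  have e : Matrix.single a b c = vecMulVec (Pi.single a c) (Pi.single b (1 : F)) := by
    ext x y
    rw [vecMulVec_apply, Matrix.single_apply]
    rcases eq_or_ne a x with rfl | hx
    · rcases eq_or_ne b y with rfl | hy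
      · simp
      · simp [hy, hy.symm]
    · simp [hx, hx.symm]
  rw [e]
  exact hR i _ _ (by simp [h])

theorem Roots.over (hR : Roots M) (i : Fin t) : Over (locM M i) := fun u φ h => by
  have := (mn_loc (i := i)).2 (hR i u φ h)
  rwa [loc_slot, ← io_mul_pr] at this

/-- The coefficients at the roots of a factor. -/
def zset (M : Subgroup (GL (Fin t → Fin m) F)) (i : Fin t) : Set (W F m t) :=
  {B | (∀ A, Commute (slot i A) B) ∧ ∀ a b : Fin m, a ≠ b → MN M (eu i a b * B)}

theorem smul_one_mem (hR : Roots M) (i : Fin t) (c : F) : c • (1 : W F m t) ∈ zset M i := by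
  refine ⟨fun A => (Commute.one_right _).smul_right c, fun a b h => ?_⟩
  rw [mul_smul_comm, mul_one, eu, ← slot_smul, Matrix.smul_single, smul_eq_mul, mul_one]
  exact hR.unit i h c

theorem zset_mul (hm : 3 ≤ m) {i : Fin t} {X Y : W F m t} (hX : X ∈ zset M i) (hY : Y ∈ zset M i) :
    X * Y ∈ zset M i := by
  refine ⟨fun A => (hX.1 A).mul_right (hY.1 A), fun a b h => ?_⟩
  obtain ⟨c, hca, hcb⟩ := exists_third hm a b
  have hXe : eu i c b * X = X * eu i c b := (hX.1 _).eq
  have hYe : eu i a c * Y = Y * eu i a c := (hY.1 _).eq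
  have := MN.comm (hY.2 c b hcb) (hX.2 a c hca.symm) (by
    rw [mul_assoc, ← mul_assoc Y, ← hYe, mul_assoc (eu i a c) Y, ← mul_assoc, eu_ne i h.symm, zero_mul])
  rwa [mul_assoc, ← mul_assoc X, ← hXe, mul_assoc (eu i c b) X, ← mul_assoc, eu_same] at this

theorem zset_add {i : Fin t} {X Y : W F m t} (hX : X ∈ zset M i) (hY : Y ∈ zset M i) : X + Y ∈ zset M i := by
  refine ⟨fun A => (hX.1 A).add_right (hY.1 A), fun a b h => ?_⟩
  have hXe : eu i a b * X = X * eu i a b := (hX.1 _).eq
  have hYe : eu i a b * Y = Y * eu i a b := (hY.1 _).eq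
  rw [mul_add]
  refine MN.add (hX.2 a b h) (hY.2 a b h) ?_ ?_
  · rw [mul_assoc, ← mul_assoc X, ← hXe, mul_assoc (eu i a b) X, ← mul_assoc, eu_ne i h.symm, zero_mul]
  · rw [mul_assoc, ← mul_assoc Y, ← hYe, mul_assoc (eu i a b) Y, ← mul_assoc, eu_ne i h.symm, zero_mul]

theorem zset_closed (hR : Roots M) (hm : 3 ≤ m) (i : Fin t) : Closed (Finset.univ.erase i) (zset M i) where
  add _ hX _ hY := zset_add hX hY
  smul c X hX := by
    have := zset_mul hm (smul_one_mem hR i c) hX
    rwa [smul_mul_assoc, one_mul] at this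
  mul _ hX _ hY := zset_mul hm hX hY
  op k hk p q hpq X hX := by
    have hki : i ≠ k := (Finset.mem_erase.1 hk).1.symm
    obtain ⟨hN, g, hg, eg⟩ := hR.unit k hpq (1 : F)
    rw [← eu] at hN eg
    have hg' : ((g⁻¹ : GL (Fin t → Fin m) F) : W F m t) = 1 - eu k p q := coe_inv hN eg
    have hmem : (g : W F m t) * X * ((g⁻¹ : GL (Fin t → Fin m) F) : W F m t) ∈ zset M i := by
      refine ⟨fun A => ?_, fun a b h => ?_⟩
      · rw [eg, hg']
        exact (((Commute.one_right _).add_right (slot_comm hki _ _)).mul_right (hX.1 A)).mul_right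
          ((Commute.one_right _).sub_right (slot_comm hki _ _))
      · have hc : Commute (eu i a b) (g : W F m t) := by
          rw [eg]; exact (Commute.one_right _).add_right (slot_comm hki _ _)
        have := (hX.2 a b h).conj hg
        rwa [← mul_assoc, ← hc.eq, mul_assoc (eu i a b) (g : W F m t), mul_assoc] at this
    have h1 : (-1 : F) • X ∈ zset M i := by
      have := zset_mul hm (smul_one_mem hR i (-1 : F)) hX
      rwa [smul_mul_assoc, one_mul] at this
    have h2 := zset_add hmem h1
    rw [eg, hg'] at h2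
    have e : (1 + eu k p q) * X * (1 - eu k p q) + (-1 : F) • X = tw (eu k p q) X := by
      rw [neg_one_smul, tw]; noncomm_ring
    rwa [e] at h2

/-- The roots of two factors multiply into `M`. -/
def Edge (M : Subgroup (GL (Fin t → Fin m) F)) (i j : Fin t) : Prop :=
  i ≠ j ∧ ∀ a b c d : Fin m, a ≠ b → c ≠ d → MN M (eu i a b * eu j c d)

theorem Edge.symm {i j : Fin t} (h : Edge M i j) : Edge M j i := by
  refine ⟨h.1.symm, fun a b c d hab hcd => ?_⟩
  rw [eu, eu, (slot_comm h.1.symm _ _).eq]
  exact h.2 c d a b hcd hab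

theorem exists_edge (hR : Roots M) (hm : 3 ≤ m) {i : Fin t} (hns : ¬ Small (locM M i)) :
    ∃ j, Edge M i j := by
  obtain ⟨X, hX, hXr⟩ := exists_witness (hR.over i) hm hns
  set Y : W F m t := (loc i).symm (oc X) with hY
  have hYc : ∀ A, Commute (slot i A) Y := fun A => (loc i).injective (by
    rw [map_mul, map_mul, loc_slot, hY, AlgEquiv.apply_symm_apply]
    exact sl_mul_oc A X)
  have hYz : Y ∈ zset M i := by
    refine ⟨hYc, fun a b h => (mn_loc (i := i)).1 ?_⟩
    rw [map_mul, eu, loc_slot, hY, AlgEquiv.apply_symm_apply, oc, ← mul_kronecker_mul, Matrix.mul_one,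
      Matrix.one_mul, Matrix.single_eq_single_vecMulVec_single, ← io_mul_mul_pr]
    exact hXr _ _ (by simp [h])
  have hns' : ∀ c : F, Y ≠ c • 1 := fun c hc => by
    have : NeZero m := ⟨by omega⟩
    refine hX c (oc_inj (m := m) ?_)
    rw [← AlgEquiv.apply_symm_apply (loc i) (oc X), ← hY, hc, map_smul, map_one, oc, kronecker_smul,
      one_kronecker_one]
  obtain ⟨j, hj, hju⟩ := exists_units hm (zset_closed hR hm i) hYz
    (fun k hk A => by
      rcases eq_or_ne k i with rfl | hki
      · exact hYc A
      · exact absurd (Finset.mem_erase.2 ⟨hki, Finset.mem_univ k⟩) hk) hns'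
  exact ⟨j, (Finset.mem_erase.1 hj).1.symm, fun a b c d hab hcd => (hju c d hcd).2 a b hab⟩

theorem Edge.step (hC : Cycles M) {i j k : Fin t} (h : Edge M i j) (hki : k ≠ i) (hkj : k ≠ j) :
    Edge M j k ∧ Edge M k i := by
  obtain ⟨g, hg, hgc⟩ := hC i j k h.1 hkj.symm hki
  have key : ∀ {p q p' q' : Fin t}, p' ≠ q' →
      (∀ A : Matrix (Fin m) (Fin m) F, (g : W F m t) * slot p A = slot p' A * (g : W F m t)) →
      (∀ A : Matrix (Fin m) (Fin m) F, (g : W F m t) * slot q A = slot q' A * (g : W F m t)) →
      Edge M p q → Edge M p' q' := by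
    intro p q p' q' hne h1 h2 hE
    refine ⟨hne, fun a b c d hab hcd => ?_⟩
    have := (hE.2 a b c d hab hcd).conj hg
    rwa [← mul_assoc, eu, h1, eu, mul_assoc (slot p' _), h2, ← mul_assoc, mul_assoc _ (g : W F m t),
      Units.mul_inv, mul_one] at this
  have hjk : Edge M j k := key hkj.symm (fun A => (hgc A).1) (fun A => (hgc A).2.1) h
  exact ⟨hjk, key hki (fun A => (hgc A).2.1) (fun A => (hgc A).2.2) hjk⟩

theorem all_edges (hC : Cycles M) {i j : Fin t} (h : Edge M i j) : ∀ a b : Fin t, a ≠ b → Edge M a b := by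
  have hi : ∀ k, k ≠ i → Edge M i k := fun k hk => by
    rcases eq_or_ne k j with rfl | hkj
    · exact h
    · exact (h.step hC hk hkj).2.symm
  intro a b hab
  rcases eq_or_ne a i with rfl | hai
  · exact hi b hab.symm
  rcases eq_or_ne b i with rfl | hbi
  · exact (hi a hab).symm
  exact ((hi a hai).step hC hbi hab.symm).1

/-- A subgroup which is not small on a factor contains the special linear group. -/
theorem special_le_of_not_small (hR : Roots M) (hC : Cycles M) (hm : 3 ≤ m) {i : Fin t}
    (hns : ¬ Small (locM M i)) : Cfsg.Geo.specialLinear (Fin t → Fin m) F ≤ M := by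
  obtain ⟨j, hij⟩ := exists_edge hR hm hns
  have hall := all_edges hC hij
  have hunit : ∀ p k : Fin t, k ≠ p → ∀ c d : Fin m, eu k c d ∈ zset M p := by
    intro p k hk c d
    have h1 : ∀ c d : Fin m, c ≠ d → eu k c d ∈ zset M p := fun c d h =>
      ⟨fun A => slot_comm hk.symm _ _, fun a b hab => (hall p k hk.symm).2 a b c d hab h⟩
    rcases eq_or_ne c d with rfl | hcd
    · obtain ⟨e, hec, -⟩ := exists_third hm c c
      rw [← eu_same k c e c]
      exact zset_mul hm (h1 c e hec.symm) (h1 e c hec)
    · exact h1 c d hcd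
  have htrans : ∀ x y : Fin t → Fin m, x ≠ y → ∀ c : F, MN M (Matrix.single x y c) := by
    intro x y hxy c
    obtain ⟨p, hp⟩ := Function.ne_iff.1 hxy
    let Y : Fin t → Matrix (Fin m) (Fin m) F := fun k => Matrix.single (x k) (y k) (1 : F)
    have hz : ∀ S : Finset (Fin t), p ∉ S →
        Aschbacher.pureMat (fun k => if k ∈ S then Y k else 1) ∈ zset M p := by
      intro S
      induction S using Finset.induction_on with
      | empty =>
        intro _
        have := smul_one_mem hR p (1 : F)
        simpa [Aschbacher.pureMat_one] using this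
      | insert k S hk ih =>
        intro hpS
        rw [pureMat_insert hk]
        exact zset_mul hm (hunit p k (fun h => hpS (by simp [h])) _ _) (ih fun h => hpS (by simp [h]))
    have h1 := zset_mul hm (smul_one_mem hR p c) (hz _ (Finset.notMem_erase p Finset.univ))
    have h2 := h1.2 (x p) (y p) hp
    have h3 := pureMat_insert (Finset.notMem_erase p Finset.univ) Y
    rw [Finset.insert_erase (Finset.mem_univ p)] at h3
    simp only [Finset.mem_univ, if_true] at h3
    rw [smul_mul_assoc, one_mul, mul_smul_comm, eu, ← h3] at h2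
    rwa [← single_eq, Matrix.smul_single, smul_eq_mul, mul_one] at h2
  intro g hg
  rw [Cfsg.Geo.specialLinear, MonoidHom.mem_ker] at hg
  let s : SpecialLinearGroup (Fin t → Fin m) F := ⟨(g : W F m t), by
    rw [← Matrix.GeneralLinearGroup.val_det_apply, hg, Units.val_one]⟩
  have htop : M.comap Matrix.SpecialLinearGroup.toGL = ⊤ :=
    Linear.eq_top_of_transvection_mem fun x y hxy c => by
      obtain ⟨-, k, hk, ek⟩ := htrans x y hxy c
      change Matrix.SpecialLinearGroup.toGL (Matrix.SpecialLinearGroup.transvection hxy c) ∈ M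
      have e : Matrix.SpecialLinearGroup.toGL (Matrix.SpecialLinearGroup.transvection hxy c) = k := Units.ext (by
        rw [ek]; exact Matrix.SpecialLinearGroup.transvection_coe hxy c)
      rw [e]; exact hk
  have hs : s ∈ M.comap Matrix.SpecialLinearGroup.toGL := by rw [htop]; exact Subgroup.mem_top _
  have e : Matrix.SpecialLinearGroup.toGL s = g := Units.ext rfl
  rw [← e]
  exact hs

end Cfsg.Agent.H98.TensorWreath.Full
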