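import Cfsg.Agent.H98.TensorWreath.Line
import Mathlib.RingTheory.Nilpotent.Basic

/-!
The conjugates of roots that respect the slot are roots of the slot or act on the other factor only.
-/

set_option autoImplicit false
set_option linter.unusedSectionVars false

namespace Cfsg.Agent.H98.TensorWreath

open Matrix
open scoped Kronecker

variable {F : Type*} [Field F] {m : ℕ} {ρ : Type*} [Fintype ρ] [DecidableEq ρ]

/-- A conjugate in `M` of a root of the slot. -/
def Conj (M : Subgroup (GL (Fin m × ρ) F)) (t : GL (Fin m × ρ) F) : Prop :=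
  ∃ g ∈ M, ∃ u φ : Fin m → F, u ≠ 0 ∧ φ ≠ 0 ∧ φ ⬝ᵥ u = 0 ∧
    (t : V F m ρ) = (g : V F m ρ) * (1 + io u * pr φ) * ((g⁻¹ : GL (Fin m × ρ) F) : V F m ρ)

/-- A root of the slot. -/
def IsRoot (t : GL (Fin m × ρ) F) : Prop :=
  ∃ u φ : Fin m → F, u ≠ 0 ∧ φ ≠ 0 ∧ φ ⬝ᵥ u = 0 ∧ (t : V F m ρ) = 1 + io u * pr φ

/-- An element acting on the other factor only. -/
def IsOuter (t : GL (Fin m × ρ) F) : Prop :=
  ∃ C : Matrix ρ ρ F, (t : V F m ρ) = (1 : Matrix (Fin m) (Fin m) F) ⊗ₖ C

variable {M : Subgroup (GL (Fin m × ρ) F)}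

theorem Conj.mem (hM : Over M) {t : GL (Fin m × ρ) F} (ht : Conj M t) : t ∈ M := by
  obtain ⟨g, hg, u, φ, -, -, h, e⟩ := ht
  obtain ⟨-, r, hr, er⟩ := hM u φ h
  have : t = g * r * g⁻¹ := Units.ext (by rw [e, Units.val_mul, Units.val_mul, er])
  rw [this]
  exact M.mul_mem (M.mul_mem hg hr) (M.inv_mem hg)

theorem Conj.conj {t : GL (Fin m × ρ) F} (ht : Conj M t) {k : GL (Fin m × ρ) F} (hk : k ∈ M) :
    Conj M (k * t * k⁻¹) := by
  obtain ⟨g, hg, u, φ, hu, hφ, h, e⟩ := ht
  refine ⟨k * g, M.mul_mem hk hg, u, φ, hu, hφ, h, ?_⟩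
  simp only [Units.val_mul, e, _root_.mul_inv_rev, mul_assoc]

/-- The factors of a conjugate of a root. -/
theorem Conj.data {t : GL (Fin m × ρ) F} (ht : Conj M t) :
    ∃ (a : Matrix (Fin m × ρ) ρ F) (b : Matrix ρ (Fin m × ρ) F) (aL : Matrix ρ (Fin m × ρ) F)
      (bR : Matrix (Fin m × ρ) ρ F), (t : V F m ρ) = 1 + a * b ∧ b * a = 0 ∧ aL * a = 1 ∧ b * bR = 1 := by
  obtain ⟨g, -, u, φ, hu, hφ, h, e⟩ := ht
  obtain ⟨ξ, hξ⟩ := exists_eq_one hu
  obtain ⟨v, hv⟩ := exists_eq_one' hφ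
  set g' : V F m ρ := ((g⁻¹ : GL (Fin m × ρ) F) : V F m ρ)
  have hgg : g' * (g : V F m ρ) = 1 := Units.inv_mul g
  refine ⟨(g : V F m ρ) * io u, pr φ * g', pr ξ * g', (g : V F m ρ) * io v, ?_, ?_, ?_, ?_⟩
  · rw [e, mul_add, mul_one, add_mul]
    congr 1
    · exact Units.mul_inv g
    · simp only [Matrix.mul_assoc]
  all_goals rw [Matrix.mul_assoc, ← Matrix.mul_assoc g', hgg, Matrix.one_mul, pr_mul_io]
  · rw [h, zero_smul]
  · rw [hξ, one_smul]
  · rw [hv, one_smul]


/-- The blocks of a product of rank `|ρ|` are determined by one invertible block. -/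
theorem block_eq (a : Matrix (Fin m × ρ) ρ F) (b : Matrix ρ (Fin m × ρ) F) (i j k l : Fin m) {K' : Matrix ρ ρ F}
    (hK : pr (Pi.single i (1 : F)) * (a * b) * io (Pi.single j (1 : F)) * K' = 1) :
    pr (ρ := ρ) (Pi.single k (1 : F)) * (a * b) * io (ρ := ρ) (Pi.single l (1 : F)) =
      pr (ρ := ρ) (Pi.single k (1 : F)) * (a * b) * io (ρ := ρ) (Pi.single j (1 : F)) * K' *
        (pr (ρ := ρ) (Pi.single i (1 : F)) * (a * b) * io (ρ := ρ) (Pi.single l (1 : F))) := by
  have h1 : b * io (ρ := ρ) (Pi.single j (1 : F)) * (K' * (pr (ρ := ρ) (Pi.single i (1 : F)) * a)) = 1 := by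
    have hK' : K' * (pr (ρ := ρ) (Pi.single i (1 : F)) * (a * b) * io (ρ := ρ) (Pi.single j (1 : F))) = 1 :=
      mul_eq_one_comm.1 hK
    rw [mul_eq_one_comm]
    simpa only [Matrix.mul_assoc] using hK'
  calc pr (ρ := ρ) (Pi.single k (1 : F)) * (a * b) * io (ρ := ρ) (Pi.single l (1 : F))
      = pr (ρ := ρ) (Pi.single k (1 : F)) * a *
          (b * io (ρ := ρ) (Pi.single j (1 : F)) * (K' * (pr (ρ := ρ) (Pi.single i (1 : F)) * a))) *
          (b * io (ρ := ρ) (Pi.single l (1 : F))) := by rw [h1, Matrix.mul_one]; simp only [Matrix.mul_assoc]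
    _ = _ := by simp only [Matrix.mul_assoc]

theorem kron_sub (A A' : Matrix (Fin m) (Fin m) F) (B : Matrix ρ ρ F) : (A - A') ⊗ₖ B = A ⊗ₖ B - A' ⊗ₖ B := by
  ext p q; simp [sub_mul]

theorem block_kron (A : Matrix (Fin m) (Fin m) F) (B : Matrix ρ ρ F) (k l : Fin m) :
    pr (ρ := ρ) (Pi.single k (1 : F)) * (A ⊗ₖ B) * io (ρ := ρ) (Pi.single l (1 : F)) = A k l • B := by
  rw [Matrix.mul_assoc, kron_mul_io, ← Matrix.mul_assoc, pr_mul_io, Matrix.smul_mul, Matrix.one_mul]
  congr 1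
  simp [mulVec, dotProduct, Pi.single_apply]

/-- A product with a non-zero block, all blocks scalar, is a root of the slot. -/
theorem root_of_kron [Nonempty ρ] {a : Matrix (Fin m × ρ) ρ F} {b aL : Matrix ρ (Fin m × ρ) F}
    {bR : Matrix (Fin m × ρ) ρ F} (haL : aL * a = 1) (hbR : b * bR = 1) (hba : b * a = 0)
    {N : Matrix (Fin m) (Fin m) F} (h : a * b = N ⊗ₖ (1 : Matrix ρ ρ F)) :
    ∃ u φ : Fin m → F, u ≠ 0 ∧ φ ≠ 0 ∧ φ ⬝ᵥ u = 0 ∧ a * b = io u * pr φ := by
  have hne : a * b ≠ 0 := fun h0 => by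
    have := congrArg (fun Z => aL * Z * bR) h0
    simp only [← Matrix.mul_assoc, haL, Matrix.one_mul, hbR, Matrix.mul_zero, Matrix.zero_mul] at this
    exact zero_ne_one this.symm
  obtain ⟨i, j, hij⟩ : ∃ i j, N i j ≠ 0 := by
    by_contra hN
    push Not at hN
    exact hne (by rw [h, show N = 0 from Matrix.ext hN, zero_kronecker])
  have key : ∀ k l, N k l = N k j * (N i j)⁻¹ * N i l := fun k l => by
    have := block_eq a b i j k l (K' := (N i j)⁻¹ • (1 : Matrix ρ ρ F))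
      (by rw [h, block_kron, Matrix.smul_mul, Matrix.one_mul, smul_smul, mul_inv_cancel₀ hij, one_smul])
    rw [h, block_kron, block_kron, block_kron] at this
    simp only [Matrix.smul_mul, Matrix.mul_smul, Matrix.one_mul, smul_smul] at this
    rw [smul_one_inj this]
    ring
  have hN : N = vecMulVec (fun k => N k j * (N i j)⁻¹) (N i) := Matrix.ext fun k l => by
    rw [vecMulVec_apply, key k l]
  have heq : a * b = io (fun k => N k j * (N i j)⁻¹) * pr (ρ := ρ) (N i) := by rw [io_mul_pr, ← hN, h]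
  refine ⟨_, N i, fun h0 => hne ?_, fun h0 => hne ?_, ?_, heq⟩
  · rw [heq, h0, io_zero, Matrix.zero_mul]
  · rw [heq, h0, pr_zero, Matrix.mul_zero]
  · have h2 : a * b * (a * b) = 0 := by rw [Matrix.mul_assoc, ← Matrix.mul_assoc b, hba, Matrix.zero_mul,
      Matrix.mul_zero]
    rw [heq, Matrix.mul_assoc, pr_io_mul, Matrix.mul_smul, ← heq] at h2
    exact (smul_eq_zero.1 h2).resolve_right hne

/-- The classification, for factorised elements. -/
theorem classify_data [Nonempty ρ] (hm : 3 ≤ m) {t : GL (Fin m × ρ) F} {a bR : Matrix (Fin m × ρ) ρ F}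
    {b aL : Matrix ρ (Fin m × ρ) F} (e : (t : V F m ρ) = 1 + a * b) (hba : b * a = 0) (haL : aL * a = 1)
    (hbR : b * bR = 1) (hw : Weak t) : IsRoot t ∨ IsOuter t := by
  obtain ⟨A, B, hBu, eAB⟩ := hw
  obtain ⟨Bi, hBBi, -⟩ : ∃ Bi, B * Bi = 1 ∧ Bi * B = 1 := by
    obtain ⟨Bu, rfl⟩ := hBu
    exact ⟨_, Bu.mul_inv, Bu.inv_mul⟩
  have hab : a * b = A ⊗ₖ B - 1 := by rw [← eAB, e, add_sub_cancel_left]
  have hblk : ∀ k l, pr (ρ := ρ) (Pi.single k (1 : F)) * (a * b) * io (ρ := ρ) (Pi.single l (1 : F)) =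
      A k l • B - (if k = l then (1 : F) else 0) • 1 := fun k l => by
    rw [hab, ← one_kronecker_one (m := Fin m) (n := ρ), Matrix.mul_sub, Matrix.sub_mul, block_kron, block_kron,
      Matrix.one_apply]
  by_cases hoff : ∃ i j, i ≠ j ∧ A i j ≠ 0
  · obtain ⟨i, j, hij, hA⟩ := hoff
    obtain ⟨k, hki, hkj⟩ : ∃ k : Fin m, k ≠ i ∧ k ≠ j := by
      have : 0 < (({i, j} : Finset (Fin m))ᶜ).card := by
        rw [Finset.card_compl, Fintype.card_fin]
        have := Finset.card_le_two (a := i) (b := j)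
        omega
      obtain ⟨k, hk⟩ := Finset.card_pos.1 this
      exact ⟨k, by simpa using hk⟩
    have h1 := block_eq a b i j k k (K' := (A i j)⁻¹ • Bi)
      (by rw [hblk, if_neg hij, zero_smul, sub_zero, Matrix.smul_mul, Matrix.mul_smul, smul_smul, hBBi,
        mul_inv_cancel₀ hA, one_smul])
    simp only [hblk, if_neg hkj, if_neg (Ne.symm hki), if_pos, zero_smul, sub_zero, one_smul, Matrix.smul_mul,
      Matrix.mul_smul, smul_smul, hBBi, Matrix.one_mul] at h1
    have h2 : (A k k - A k j * (A i j)⁻¹ * A i k) • B = 1 := by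
      rw [sub_smul]
      linear_combination (norm := module) h1
    have hc : A k k - A k j * (A i j)⁻¹ * A i k ≠ 0 := fun h => by
      rw [h, zero_smul] at h2; exact zero_ne_one h2
    have hB : B = (A k k - A k j * (A i j)⁻¹ * A i k)⁻¹ • (1 : Matrix ρ ρ F) := by
      rw [← h2, smul_smul, inv_mul_cancel₀ hc, one_smul]
    left
    obtain ⟨u, φ, hu, hφ, h0, he⟩ := root_of_kron haL hbR hba
      (N := (A k k - A k j * (A i j)⁻¹ * A i k)⁻¹ • A - 1)
      (by rw [hab, hB, kronecker_smul, kron_sub, smul_kronecker, one_kronecker_one])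
    exact ⟨u, φ, hu, hφ, h0, by rw [e, he]⟩
  · right
    push Not at hoff
    have hsq : ∀ k, IsNilpotent (A k k • B - 1) := fun k => ⟨2, by
      have h2 : a * b * (a * b) = 0 := by rw [Matrix.mul_assoc, ← Matrix.mul_assoc b, hba, Matrix.zero_mul,
        Matrix.mul_zero]
      have hK : a * b * io (ρ := ρ) (Pi.single k (1 : F)) = io (ρ := ρ) (Pi.single k (1 : F)) * (A k k • B - 1) := by
        rw [hab, Matrix.sub_mul, kron_mul_io, Matrix.one_mul, Matrix.mul_sub, Matrix.mul_one,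
          show A *ᵥ Pi.single k 1 = A k k • (Pi.single k 1 : Fin m → F) from ?_, io_smul, Matrix.smul_mul,
          Matrix.mul_smul]
        funext r
        rcases eq_or_ne r k with rfl | hr
        · simp [mulVec, dotProduct, Pi.single_apply]
        · simp [mulVec, dotProduct, Pi.single_apply, hr, hoff r k hr]
      have h3 := congrArg (fun Z => pr (ρ := ρ) (Pi.single k (1 : F)) * (Z * io (ρ := ρ) (Pi.single k (1 : F)))) h2
      simp only [Matrix.mul_assoc, Matrix.zero_mul, Matrix.mul_zero] at h3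
      rw [← Matrix.mul_assoc a b (io _), hK, ← Matrix.mul_assoc b, ← Matrix.mul_assoc a, ← Matrix.mul_assoc a, hK,
        Matrix.mul_assoc, pr_io_mul, single_dotProduct, Pi.single_eq_same, one_mul, one_smul] at h3
      rw [pow_two]; exact h3⟩
    have hall : ∀ k l, A k k = A l l := by
      intro k l
      by_contra hne
      have hc : Commute (A l l • B - 1) (A k k • B - 1) :=
        ((((Commute.refl B).smul_left _).smul_right _).sub_right (Commute.one_right _)).sub_left (Commute.one_left _)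
      have hn : IsNilpotent (A k k • (A l l • B - 1) - A l l • (A k k • B - 1)) :=
        Commute.isNilpotent_sub ((hc.smul_left _).smul_right _) ((hsq l).smul _) ((hsq k).smul _)
      rw [show A k k • (A l l • B - 1) - A l l • (A k k • B - 1) = (A l l - A k k) • (1 : Matrix ρ ρ F) by
        rw [smul_sub, smul_sub, sub_smul, smul_smul, smul_smul, mul_comm (A k k) (A l l)]; abel] at hn
      obtain ⟨d, hd⟩ := hn
      rw [smul_pow, one_pow] at hd
      exact hne (sub_eq_zero.1 ((smul_eq_zero.1 hd).resolve_right one_ne_zero |> pow_eq_zero_iff'.1 |>.1)).symm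
    have : NeZero m := ⟨by omega⟩
    refine ⟨A 0 0 • B, ?_⟩
    rw [eAB, kronecker_smul, ← smul_kronecker]
    congr 1
    refine Matrix.ext fun k l => ?_
    rcases eq_or_ne k l with rfl | hkl
    · simp [hall k 0]
    · simp [hoff k l hkl, hkl]

/-- The classification. -/
theorem classify [Nonempty ρ] (hm : 3 ≤ m) {t : GL (Fin m × ρ) F} (ht : Conj M t) (hw : Weak t) :
    IsRoot t ∨ IsOuter t := by
  obtain ⟨a, b, aL, bR, e, hba, haL, hbR⟩ := ht.data
  exact classify_data hm e hba haL hbR hw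

end Cfsg.Agent.H98.TensorWreath
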