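import Cfsg.Agent.H98.TensorWreath.SwapBasic

/-!
No conjugate of a root carries a root of the slot to the other factor, odd characteristic.
-/

set_option autoImplicit false
set_option linter.unusedSectionVars false

namespace Cfsg.Agent.H98.TensorWreath

open Matrix
open scoped Kronecker

variable {F : Type*} [Field F] {m : ℕ} {ρ : Type*} [Fintype ρ] [DecidableEq ρ]
variable {M : Subgroup (GL (Fin m × ρ) F)}

theorem swap_false_odd [Nonempty ρ] (hM : Over M) (hS : Small M) (hm : 3 ≤ m) (h2 : (2 : F) ≠ 0)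
    {g : GL (Fin m × ρ) F} (hg : Conj M g) {u φ : Fin m → F} (hu : u ≠ 0) (hφ : φ ≠ 0) (h0 : φ ⬝ᵥ u = 0)
    {X : Matrix ρ ρ F} (hX : (g : V F m ρ) * (io u * pr φ) = oc X * (g : V F m ρ)) : False := by
  obtain ⟨a, b, aL, bR, eg, hba, -, -⟩ := hg.data
  set N : V F m ρ := a * b with hN
  have hNN : N * N = 0 := by rw [hN, Matrix.mul_assoc, ← Matrix.mul_assoc b, hba, Matrix.zero_mul, Matrix.mul_zero]
  have eg' : ((g⁻¹ : GL (Fin m × ρ) F) : V F m ρ) = 1 - N := coe_inv hNN eg
  have hoc := exists_oc hM hS hm (hg.mem hM) hu hφ h0 hX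
  -- the conjugates of matrix units commute with the slot algebra
  have hA : ∀ c d c' d' : Fin m,
      Commute ((1 - N) * sl (Matrix.single c d (1 : F)) * (1 + N)) (sl (ρ := ρ) (Matrix.single c' d' (1 : F))) := by
    intro c d c' d'
    obtain ⟨Y, hY⟩ := hoc c d
    rw [eg', eg] at hY
    rw [hY]
    exact (sl_mul_oc _ Y).symm
  have hp : (1 + N) * (1 - N) = 1 := by rw [mul_sub, mul_one, add_mul, one_mul, hNN]; abel
  have hm' : (1 - N) * (1 + N) = 1 := by rw [mul_add, mul_one, sub_mul, one_mul, hNN]; abel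
  have hA' : ∀ c d c' d' : Fin m,
      Commute ((1 + N) * sl (Matrix.single c d (1 : F)) * (1 - N)) (sl (ρ := ρ) (Matrix.single c' d' (1 : F))) := by
    intro c d c' d'
    have h := (hA c' d' c d).eq
    have h' := congrArg (fun Z => (1 + N) * Z * (1 - N)) h
    rw [Commute, SemiconjBy]
    simp only [mul_assoc] at h' ⊢
    simp only [← mul_assoc (1 + N) (1 - N), hp, one_mul, mul_one] at h'
    exact h'.symm
  have hD : ∀ c d c' d' : Fin m, Commute (sl (Matrix.single c d (1 : F)) * N - N * sl (Matrix.single c d (1 : F)))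
      (sl (ρ := ρ) (Matrix.single c' d' (1 : F))) := by
    intro c d c' d'
    have h := (hA c d c' d').sub_left (hA' c d c' d')
    have e : ∀ E : V F m ρ, (1 - N) * E * (1 + N) - (1 + N) * E * (1 - N) = (2 : F) • (E * N - N * E) := fun E => by
      rw [two_smul]; noncomm_ring
    rw [e] at h
    have h' := h.smul_left (2 : F)⁻¹
    rwa [smul_smul, inv_mul_cancel₀ h2, one_smul] at h'
  let B : Fin m → Fin m → Matrix ρ ρ F := fun i j =>
    pr (ρ := ρ) (Pi.single i (1 : F)) * N * io (ρ := ρ) (Pi.single j (1 : F))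
  have hoff : ∀ i j, i ≠ j → B i j = 0 := by
    intro i j hij
    have h := (hD j i j i).eq
    have hE : sl (ρ := ρ) (Matrix.single j i (1 : F)) * sl (Matrix.single j i (1 : F)) = 0 := by
      rw [sl_mul, single_mul_single_of_ne _ _ _ _ hij]; simp [sl]
    set E := sl (ρ := ρ) (Matrix.single j i (1 : F)) with hEdef
    have hENE : (2 : F) • (E * N * E) = 0 := by
      rw [two_smul]
      have := sub_eq_zero.2 h
      simp only [sub_mul, mul_sub, ← mul_assoc, hE, zero_mul, zero_sub] at this
      rw [show N * E * E = 0 by rw [mul_assoc, hE, mul_zero], sub_zero, sub_neg_eq_add] at this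
      exact this
    have := congrArg (fun Z => pr (ρ := ρ) (Pi.single j (1 : F)) * Z * io (ρ := ρ) (Pi.single i (1 : F)))
      ((smul_eq_zero.1 hENE).resolve_left h2)
    simp only [hEdef, single_eq_root, Matrix.mul_assoc, pr_io_mul, pr_single_io_single, if_pos, single_dotProduct,
      Pi.single_eq_same, one_mul, one_smul, Matrix.mul_one, Matrix.mul_zero, Matrix.zero_mul] at this
    simpa only [B, Matrix.mul_assoc] using this
  have hdiag : ∀ i j, B i i = B j j := by
    intro i j
    rcases eq_or_ne i j with rfl | hij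
    · rfl
    obtain ⟨c, hci, hcj⟩ : ∃ c : Fin m, c ≠ i ∧ c ≠ j := by
      have : 0 < (({i, j} : Finset (Fin m))ᶜ).card := by
        rw [Finset.card_compl, Fintype.card_fin]
        have := Finset.card_le_two (a := i) (b := j)
        omega
      obtain ⟨k, hk⟩ := Finset.card_pos.1 this
      exact ⟨k, by simpa using hk⟩
    have h := congrArg (fun Z => pr (ρ := ρ) (Pi.single i (1 : F)) * Z * io (ρ := ρ) (Pi.single c (1 : F)))
      (hD i j j c).eq
    simp only [single_eq_root, Matrix.sub_mul, Matrix.mul_sub, Matrix.mul_assoc, pr_io_mul, pr_single_io_single,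
      single_dotProduct, Pi.single_eq_same, Pi.single_eq_of_ne hij, Pi.single_eq_of_ne hij.symm,
      Pi.single_eq_of_ne hci, Pi.single_eq_of_ne hci.symm,
      one_mul, mul_zero, zero_smul, one_smul, if_pos, if_neg hij, if_neg hij.symm, Matrix.mul_one, Matrix.mul_zero,
      Matrix.zero_mul, sub_zero, zero_sub, Matrix.neg_mul, Matrix.mul_neg, neg_zero] at h
    simp only [B, Matrix.mul_assoc]
    exact (sub_eq_zero.1 h).symm
  have : NeZero m := ⟨by omega⟩
  have hNoc : N = oc (B 0 0) := ext_io fun j => ext_pr fun i => by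
    rw [oc_io, pr_io_mul, single_dotProduct, one_mul, Pi.single_apply, ← Matrix.mul_assoc]
    rcases eq_or_ne i j with rfl | hij
    · rw [if_pos rfl, one_smul]; exact hdiag i 0
    · rw [if_neg hij, zero_smul]; exact hoff i j hij
  have hcomm : (g : V F m ρ) * (io u * pr φ) = io u * pr φ * (g : V F m ρ) := by
    rw [eg, hNoc, root_eq_sl, mul_add, add_mul, one_mul, mul_one, sl_mul_oc]
  refine root_ne_oc (by omega) hu hφ h0 X ?_
  have := congrArg (· * ((g⁻¹ : GL (Fin m × ρ) F) : V F m ρ)) (hcomm.symm.trans hX)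
  simpa only [Matrix.mul_assoc, Units.mul_inv, Matrix.mul_one] using this

end Cfsg.Agent.H98.TensorWreath
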