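import Cfsg.Agent.H98.TensorWreath.SwapTwo
import Cfsg.Agent.H98.TensorWreath.SwapOdd
import Mathlib.GroupTheory.Nilpotent
import Mathlib.GroupTheory.Sylow
import Mathlib.Algebra.CharP.Lemmas
import Mathlib.FieldTheory.Finite.Basic
import Mathlib.RingTheory.AdjoinRoot

/-!
A conjugate of a root with a nilpotent pairing against a root respects the slot.
-/

set_option autoImplicit false
set_option linter.unusedSectionVars false

namespace Cfsg.Agent.H98.TensorWreath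

open Matrix
open scoped Kronecker commutatorElement

variable {F : Type*} [Field F] {m : ℕ} {ρ : Type*} [Fintype ρ] [DecidableEq ρ]
variable {M : Subgroup (GL (Fin m × ρ) F)}

/-- The pairing of an element with the root `(u, φ)`. -/
def qm (u φ : Fin m → F) (t : GL (Fin m × ρ) F) : Matrix ρ ρ F :=
  pr (ρ := ρ) φ * ((t : V F m ρ) - 1) * io (ρ := ρ) u

theorem swap_false [Nonempty ρ] (hM : Over M) (hS : Small M) (hm : 3 ≤ m)
    {g : GL (Fin m × ρ) F} (hg : Conj M g) {u φ : Fin m → F} (hu : u ≠ 0) (hφ : φ ≠ 0) (h0 : φ ⬝ᵥ u = 0)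
    {X : Matrix ρ ρ F} (hX : (g : V F m ρ) * (io u * pr φ) = oc X * (g : V F m ρ)) : False := by
  by_cases h2 : (2 : F) = 0
  · exact swap_false_two hM hS hm h2 hg hu hφ h0 hX
  · exact swap_false_odd hM hS hm h2 hg hu hφ h0 hX

theorem Conj.of_root {r : GL (Fin m × ρ) F} (hr : IsRoot r) : Conj M r := by
  obtain ⟨u, φ, hu, hφ, h0, e⟩ := hr
  exact ⟨1, M.one_mem, u, φ, hu, hφ, h0, by rw [e, inv_one, Units.val_one, Matrix.one_mul, Matrix.mul_one]⟩

variable {u φ : Fin m → F} {r : GL (Fin m × ρ) F}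

theorem qm_shift (h0 : φ ⬝ᵥ u = 0) (hr : (r : V F m ρ) = 1 + io u * pr φ) {t : GL (Fin m × ρ) F} (ht : Conj M t) :
    qm u φ (t * r * t⁻¹) = -(qm u φ t * qm u φ t) := by
  obtain ⟨a, b, aL, bR, e, hba, -, -⟩ := ht.data
  have hN : a * b * (a * b) = 0 := by
    rw [Matrix.mul_assoc, ← Matrix.mul_assoc b, hba, Matrix.zero_mul, Matrix.mul_zero]
  have e1 : ((t * r * t⁻¹ : GL (Fin m × ρ) F) : V F m ρ) - 1 =
      (1 + a * b) * (io u * pr φ) * (1 - a * b) := by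
    rw [Units.val_mul, Units.val_mul, hr, coe_inv hN e, e, mul_add, mul_one, add_mul,
      show (1 + a * b) * (1 - a * b) = 1 by rw [mul_sub, mul_one, add_mul, one_mul, hN]; abel]
    abel
  rw [qm, qm, e1, e, add_sub_cancel_left]
  simp only [Matrix.add_mul, Matrix.mul_add, Matrix.sub_mul, Matrix.mul_sub, Matrix.one_mul, Matrix.mul_one,
    Matrix.mul_assoc, pr_io_mul, pr_mul_io, h0, zero_smul, Matrix.mul_zero, Matrix.zero_mul, sub_zero, zero_add,
    zero_sub, Matrix.mul_neg, neg_zero]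

/-- If the shift respects the slot then so does the element. -/
theorem weak_of_shift [Nonempty ρ] (hM : Over M) (hS : Small M) (hm : 3 ≤ m) (hu : u ≠ 0) (hφ : φ ≠ 0)
    (h0 : φ ⬝ᵥ u = 0) (hr : (r : V F m ρ) = 1 + io u * pr φ) {t : GL (Fin m × ρ) F} (ht : Conj M t)
    (hw : Weak (t * r * t⁻¹)) : Weak t := by
  have hs : Conj M (t * r * t⁻¹) := (Conj.of_root ⟨u, φ, hu, hφ, h0, hr⟩).conj (ht.mem hM)
  have e1 : ((t * r * t⁻¹ : GL (Fin m × ρ) F) : V F m ρ) * (t : V F m ρ) = (t : V F m ρ) * (1 + io u * pr φ) := by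
    rw [← Units.val_mul, inv_mul_cancel_right, Units.val_mul, hr]
  rcases classify hm hs hw with ⟨u', φ', hu', -, -, e⟩ | ⟨C, e⟩
  · refine weak_of_conj hM hS hm (ht.mem hM) hu hφ hu' (φ' := φ') ?_
    rw [e, add_mul, one_mul, mul_add, mul_one] at e1
    exact (add_left_cancel e1).symm
  · refine (swap_false hM hS hm ht hu hφ h0 (X := C - 1) ?_).elim
    rw [e, mul_add, mul_one] at e1
    rw [oc_sub_one, sub_mul, one_mul, oc, e1, add_sub_cancel_left]

/-- A nilpotent pairing. -/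
theorem weak_of_nilpotent [Nonempty ρ] (hM : Over M) (hS : Small M) (hm : 3 ≤ m) (hu : u ≠ 0) (hφ : φ ≠ 0)
    (h0 : φ ⬝ᵥ u = 0) (hr : (r : V F m ρ) = 1 + io u * pr φ) {t : GL (Fin m × ρ) F} (ht : Conj M t)
    (hn : IsNilpotent (qm u φ t)) : Weak t := by
  suffices H : ∀ k : ℕ, ∀ t : GL (Fin m × ρ) F, Conj M t → qm u φ t ^ (2 ^ k) = 0 → Weak t by
    obtain ⟨k, hk⟩ := hn
    exact H k t ht (pow_eq_zero_of_le (Nat.lt_two_pow_self).le hk)
  intro k
  induction k with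
  | zero =>
    intro t ht hq
    rw [pow_zero, pow_one] at hq
    obtain ⟨a, b, aL, bR, e, hba, -, -⟩ := ht.data
    have hN : a * b * (a * b) = 0 := by
      rw [Matrix.mul_assoc, ← Matrix.mul_assoc b, hba, Matrix.zero_mul, Matrix.mul_zero]
    have hrM : r ∈ M := (Conj.of_root ⟨u, φ, hu, hφ, h0, hr⟩).mem hM
    have hsM : t * r * t⁻¹ ∈ M := M.mul_mem (M.mul_mem (ht.mem hM) hrM) (M.inv_mem (ht.mem hM))
    refine weak_of_shift hM hS hm hu hφ h0 hr ht (weak_of_conj hM hS hm hsM hu hφ hu (φ' := φ) ?_)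
    rw [qm, e, add_sub_cancel_left] at hq
    have q1 : pr (ρ := ρ) φ * (t : V F m ρ) * io (ρ := ρ) u = 0 := by
      rw [e, Matrix.mul_add, Matrix.mul_one, Matrix.add_mul, pr_mul_io, h0, zero_smul, hq, zero_add]
    have q2 : pr (ρ := ρ) φ * ((t⁻¹ : GL (Fin m × ρ) F) : V F m ρ) * io (ρ := ρ) u = 0 := by
      rw [coe_inv hN e, Matrix.mul_sub, Matrix.mul_one, Matrix.sub_mul, pr_mul_io, h0, zero_smul, hq, sub_zero]
    have z1 : io u * pr φ * (t : V F m ρ) * (io u * pr φ) = (0 : V F m ρ) := by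
      calc io u * pr φ * (t : V F m ρ) * (io u * pr φ)
          = io u * (pr (ρ := ρ) φ * (t : V F m ρ) * io (ρ := ρ) u) * pr φ := by simp only [Matrix.mul_assoc]
        _ = 0 := by rw [q1, Matrix.mul_zero, Matrix.zero_mul]
    have z2 : io u * pr φ * ((t⁻¹ : GL (Fin m × ρ) F) : V F m ρ) * (io u * pr φ) = (0 : V F m ρ) := by
      calc io u * pr φ * ((t⁻¹ : GL (Fin m × ρ) F) : V F m ρ) * (io u * pr φ)
          = io u * (pr (ρ := ρ) φ * ((t⁻¹ : GL (Fin m × ρ) F) : V F m ρ) * io (ρ := ρ) u) * pr φ := by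
            simp only [Matrix.mul_assoc]
        _ = 0 := by rw [q2, Matrix.mul_zero, Matrix.zero_mul]
    rw [Units.val_mul, Units.val_mul, hr, mul_add, mul_one, add_mul, Units.mul_inv, add_mul, one_mul, mul_add,
      mul_one, mul_assoc ((t : V F m ρ) * (io u * pr φ)), mul_assoc (t : V F m ρ), ← mul_assoc (io u * pr φ) _
        (io u * pr φ), z2, mul_zero, ← mul_assoc (io u * pr φ) ((t : V F m ρ) * (io u * pr φ)),
      ← mul_assoc (io u * pr φ) (t : V F m ρ), z1, zero_mul]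
  | succ k ih =>
    intro t ht hq
    refine weak_of_shift hM hS hm hu hφ h0 hr ht (ih _ ?_ ?_)
    · exact (Conj.of_root ⟨u, φ, hu, hφ, h0, hr⟩).conj (ht.mem hM)
    · rw [qm_shift h0 hr ht, ← neg_one_mul, (Commute.neg_one_left _).mul_pow, ← pow_two, ← pow_mul, ← pow_succ',
        hq, mul_zero]

/-- The iterated shifts. -/
def shift (r t : GL (Fin m × ρ) F) : ℕ → GL (Fin m × ρ) F
  | 0 => t
  | k + 1 => shift r t k * r * (shift r t k)⁻¹

theorem shift_conj [Nonempty ρ] (hM : Over M) (hr : IsRoot r) {t : GL (Fin m × ρ) F} (ht : Conj M t) :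
    ∀ k, Conj M (shift r t k)
  | 0 => ht
  | k + 1 => (Conj.of_root hr).conj ((shift_conj hM hr ht k).mem hM)

theorem shift_qm [Nonempty ρ] (hM : Over M) (hu : u ≠ 0) (hφ : φ ≠ 0) (h0 : φ ⬝ᵥ u = 0)
    (hr : (r : V F m ρ) = 1 + io u * pr φ) {t : GL (Fin m × ρ) F} (ht : Conj M t) :
    ∀ k, ∃ c : F, c ≠ 0 ∧ qm u φ (shift r t k) = c • qm u φ t ^ (2 ^ k)
  | 0 => ⟨1, one_ne_zero, by simp [shift]⟩
  | k + 1 => by
    obtain ⟨c, hc, e⟩ := shift_qm hM hu hφ h0 hr ht k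
    refine ⟨-(c * c), neg_ne_zero.2 (mul_ne_zero hc hc), ?_⟩
    rw [shift, qm_shift h0 hr (shift_conj hM ⟨u, φ, hu, hφ, h0, hr⟩ ht k), e, smul_mul_smul_comm, ← pow_add,
      neg_smul, pow_succ, mul_two]

theorem shift_not_weak [Nonempty ρ] (hM : Over M) (hS : Small M) (hm : 3 ≤ m) (hu : u ≠ 0) (hφ : φ ≠ 0)
    (h0 : φ ⬝ᵥ u = 0) (hr : (r : V F m ρ) = 1 + io u * pr φ) {t : GL (Fin m × ρ) F} (ht : Conj M t) (hw : ¬ Weak t) :
    ∀ k, ¬ Weak (shift r t k)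
  | 0 => hw
  | k + 1 => fun h => shift_not_weak hM hS hm hu hφ h0 hr ht hw k
      (weak_of_shift hM hS hm hu hφ h0 hr (shift_conj hM ⟨u, φ, hu, hφ, h0, hr⟩ ht k) h)

/-- A conjugate of a root in a `p`-subgroup with the root has nilpotent pairing. -/
theorem qm_nilpotent_of_pgroup [Finite F] [Nonempty ρ] (hM : Over M) (hu : u ≠ 0) (hφ : φ ≠ 0) (h0 : φ ⬝ᵥ u = 0)
    (hr : (r : V F m ρ) = 1 + io u * pr φ) {p : ℕ} [Fact p.Prime] {P : Subgroup (GL (Fin m × ρ) F)} (hP : IsPGroup p P)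
    (hrP : r ∈ P) {s : GL (Fin m × ρ) F} (hsP : s ∈ P) (hs : Conj M s) : IsNilpotent (qm u φ s) := by
  have : Group.IsNilpotent P := hP.isNilpotent
  obtain ⟨n, hn⟩ := Subgroup.nilpotent_iff_lowerCentralSeries.1 this
  have hmem : ∀ k, ∃ x : P, (x : GL (Fin m × ρ) F) = shift r s k ∧
      x * (⟨r, hrP⟩ : P)⁻¹ ∈ (⊤ : Subgroup P).lowerCentralSeries k := by
    intro k
    induction k with
    | zero => exact ⟨⟨s, hsP⟩, rfl, Subgroup.mem_top _⟩
    | succ k ih =>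
      obtain ⟨x, hx, hxr⟩ := ih
      refine ⟨x * ⟨r, hrP⟩ * x⁻¹, ?_, ?_⟩
      · rw [shift, ← hx]; rfl
      · have e : x * ⟨r, hrP⟩ * x⁻¹ * (⟨r, hrP⟩ : P)⁻¹ =
            ⁅x * (⟨r, hrP⟩ : P)⁻¹, (⟨r, hrP⟩ : P)⁆ := by rw [commutatorElement_def]; group
        rw [e]
        exact Subgroup.commutator_mem_commutator hxr (Subgroup.mem_top _)
  obtain ⟨x, hx, hxr⟩ := hmem n
  rw [hn, Subgroup.mem_bot, mul_inv_eq_one] at hxr
  obtain ⟨c, hc, e⟩ := shift_qm hM hu hφ h0 hr hs n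
  rw [← hx, hxr] at e
  refine ⟨2 ^ n, (smul_eq_zero.1 (e.symm.trans ?_)).resolve_left hc⟩
  change qm u φ r = 0
  rw [qm, hr, add_sub_cancel_left]
  simp only [pr_io_mul, h0, zero_smul, Matrix.zero_mul]

end Cfsg.Agent.H98.TensorWreath
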