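import Cfsg.Agent.H98.TensorWreath.SwapBasic
import Mathlib.LinearAlgebra.Basis.VectorSpace
import Mathlib.LinearAlgebra.Matrix.FiniteDimensional

/-!
In dimension three the commutators of depth three in the stabiliser of a root are trivial on the slot.
-/

set_option autoImplicit false
set_option linter.unusedSectionVars false

namespace Cfsg.Agent.H98.TensorWreath

open Matrix Module
open scoped Kronecker

variable {F : Type*} [Field F] {m : ℕ} {ρ : Type*} [Fintype ρ] [DecidableEq ρ]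

theorem kron_prop [Nonempty ρ] {A A' : Matrix (Fin m) (Fin m) F} {B B' : Matrix ρ ρ F} (hB : IsUnit B) (hB' : IsUnit B')
    (hA : A ≠ 0) (h : A ⊗ₖ B = A' ⊗ₖ B') : ∃ μ : F, μ ≠ 0 ∧ A' = μ • A := by
  obtain ⟨k, l, hkl⟩ : ∃ k l, A k l ≠ 0 := by
    by_contra hc; push Not at hc; exact hA (Matrix.ext hc)
  have e : ∀ i j, A i j • B = A' i j • B' := fun i j => by
    simpa only [block_kron] using
      congrArg (fun Z => pr (ρ := ρ) (Pi.single i (1 : F)) * Z * io (ρ := ρ) (Pi.single j (1 : F))) h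
  have hkl' : A' k l ≠ 0 := fun h0 => by
    have := e k l
    rw [h0, zero_smul, smul_eq_zero] at this
    exact hB.ne_zero (this.resolve_left hkl)
  refine ⟨A' k l / A k l, div_ne_zero hkl' hkl, Matrix.ext fun i j => ?_⟩
  have h1 : B = (A' k l / A k l) • B' := by
    rw [div_eq_inv_mul, mul_smul, ← e, smul_smul, inv_mul_cancel₀ hkl, one_smul]
  have h2 := e i j
  rw [h1, smul_smul, ← sub_eq_zero, ← sub_smul, smul_eq_zero] at h2
  rw [Matrix.smul_apply, smul_eq_mul, mul_comm, ← sub_eq_zero, ← neg_sub, neg_eq_zero]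
  exact h2.resolve_right hB'.ne_zero

/-- The matrix of a unit Kronecker product is injective. -/
theorem mulVec_ne_zero [Nonempty ρ] {A : Matrix (Fin m) (Fin m) F} {B : Matrix ρ ρ F} {y : GL (Fin m × ρ) F}
    (h : (y : V F m ρ) = A ⊗ₖ B) {u : Fin m → F} (hu : u ≠ 0) : A *ᵥ u ≠ 0 := fun h0 => by
  have h1 := congrArg (fun Z => ((y⁻¹ : GL (Fin m × ρ) F) : V F m ρ) * (Z * io (ρ := ρ) u)) h
  simp only [kron_mul_io, h0, io_zero, Matrix.zero_mul, Matrix.mul_zero, ← Matrix.mul_assoc, Units.inv_mul,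
    Matrix.one_mul] at h1
  exact hu (eq_zero_of_io h1)

/-- The slot part of a commutator. -/
theorem comm_kron [Nonempty ρ] (hm : 0 < m) {y₁ y₂ c : GL (Fin m × ρ) F} (hc : c * (y₂ * y₁) = y₁ * y₂)
    {A₁ A₂ A : Matrix (Fin m) (Fin m) F} {B₁ B₂ B : Matrix ρ ρ F}
    (h₁ : (y₁ : V F m ρ) = A₁ ⊗ₖ B₁) (h₂ : (y₂ : V F m ρ) = A₂ ⊗ₖ B₂) (h : (c : V F m ρ) = A ⊗ₖ B)
    (hB₁ : IsUnit B₁) (hB₂ : IsUnit B₂) (hB : IsUnit B) :
    ∃ (A' : Matrix (Fin m) (Fin m) F) (B' : Matrix ρ ρ F), IsUnit B' ∧ (c : V F m ρ) = A' ⊗ₖ B' ∧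
      A' * (A₂ * A₁) = A₁ * A₂ := by
  have e := congrArg (fun z : GL (Fin m × ρ) F => (z : V F m ρ)) hc
  simp only [Units.val_mul, h₁, h₂, h, ← mul_kronecker_mul] at e
  have hne : A * (A₂ * A₁) ≠ 0 := fun h0 => by
    rw [h0, zero_kronecker] at e
    have e' : ((y₁ * y₂ : GL (Fin m × ρ) F) : V F m ρ) = 0 := by
      rw [Units.val_mul, h₁, h₂, ← mul_kronecker_mul, ← e]
    have : Nonempty (Fin m) := ⟨⟨0, hm⟩⟩
    exact Units.ne_zero _ e'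
  obtain ⟨μ, hμ, hμA⟩ := kron_prop (hB.mul (hB₂.mul hB₁)) (hB₁.mul hB₂) hne e
  refine ⟨μ • A, μ⁻¹ • B, ?_, ?_, ?_⟩
  · rw [show μ⁻¹ • B = (μ⁻¹ • (1 : Matrix ρ ρ F)) * B by rw [Matrix.smul_mul, Matrix.one_mul]]
    exact (IsUnit.of_mul_eq_one (μ • (1 : Matrix ρ ρ F)) (by
      rw [Matrix.smul_mul, Matrix.mul_smul, Matrix.one_mul, smul_smul, inv_mul_cancel₀ hμ, one_smul])).mul hB
  · rw [h, smul_kronecker, kronecker_smul, smul_smul, mul_inv_cancel₀ hμ, one_smul]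
  · rw [Matrix.smul_mul, ← hμA]

/-- A commutator of depth three has trivial slot part. -/
theorem slot_trivial {w ξ v x : Fin 3 → F} (hξw : ξ ⬝ᵥ w = 0) (hξv : ξ ⬝ᵥ v = 0) (hξx : ξ ⬝ᵥ x = 1)
    (hw : w ≠ 0) (hv : ∀ c : F, v ≠ c • w) :
    ∃ (P₁ P₂ : Matrix (Fin 3) (Fin 3) F → Prop),
      (∀ A₁ A₂ A : Matrix (Fin 3) (Fin 3) F, (∃ c : F, c ≠ 0 ∧ A₁ *ᵥ w = c • w ∧ ξ ᵥ* A₁ = c • ξ ∧ A₁ *ᵥ v ≠ 0) →
        (∃ c : F, c ≠ 0 ∧ A₂ *ᵥ w = c • w ∧ ξ ᵥ* A₂ = c • ξ ∧ A₂ *ᵥ v ≠ 0) →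
        (∀ p, A₁ *ᵥ p = 0 → p = 0) → (∀ p, A₂ *ᵥ p = 0 → p = 0) →
        A * (A₂ * A₁) = A₁ * A₂ → P₁ A) ∧
      (∀ A₁ A₂ A, P₁ A₁ → P₁ A₂ → A * (A₂ * A₁) = A₁ * A₂ → P₂ A) ∧
      (∀ A₁ A₂ A, P₂ A₁ → P₂ A₂ → A * (A₂ * A₁) = A₁ * A₂ → A = 1) := by
  classical
  have hli : LinearIndependent F ![w, v, x] := by
    rw [Fintype.linearIndependent_iff]
    intro g hg
    simp [Fin.sum_univ_three] at hg
    have h2 : g 2 = 0 := by
      have := congrArg (ξ ⬝ᵥ ·) hg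
      simpa [dotProduct_add, dotProduct_smul, hξw, hξv, hξx] using this
    rw [h2, zero_smul, add_zero] at hg
    have h1 : g 1 = 0 := by
      by_contra h
      refine hv (-(g 0 / g 1)) ?_
      have : g 1 • (v - (-(g 0 / g 1)) • w) = 0 := by
        rw [smul_sub, smul_smul, mul_neg, mul_div_cancel₀ _ h, neg_smul, sub_neg_eq_add, add_comm]; exact hg
      exact sub_eq_zero.1 ((smul_eq_zero.1 this).resolve_left h)
    rw [h1, zero_smul, add_zero, smul_eq_zero] at hg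
    intro i; fin_cases i <;> simp [h1, h2, hg.resolve_right hw]
  let bs := basisOfLinearIndependentOfCardEqFinrank hli (by simp)
  have hbs : ∀ p : Fin 3 → F, ∃ a b c : F, p = a • w + b • v + c • x := fun p => by
    refine ⟨bs.repr p 0, bs.repr p 1, bs.repr p 2, ?_⟩
    conv_lhs => rw [← bs.sum_repr p]
    simp [bs, Fin.sum_univ_three]
  have hext : ∀ A A' : Matrix (Fin 3) (Fin 3) F, A *ᵥ w = A' *ᵥ w → A *ᵥ v = A' *ᵥ v → A *ᵥ x = A' *ᵥ x → A = A' :=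
    fun A A' hw hv hx => Matrix.ext_of_mulVec_single fun i => by
      obtain ⟨a, b, c, h⟩ := hbs (Pi.single i 1)
      rw [h]; simp [mulVec_add, mulVec_smul, hw, hv, hx]
  have coef : ∀ {a b c a' b' c' : F}, a • w + b • v + c • x = a' • w + b' • v + c' • x → a = a' ∧ b = b' ∧ c = c' := by
    intro a b c a' b' c' h
    have := Fintype.linearIndependent_iff.1 hli ![a - a', b - b', c - c'] (by
      simp [Fin.sum_univ_three, sub_smul]; linear_combination (norm := module) h)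
    exact ⟨sub_eq_zero.1 (this 0), sub_eq_zero.1 (this 1), sub_eq_zero.1 (this 2)⟩
  refine ⟨fun A => ∃ n q r : F, A *ᵥ w = w ∧ A *ᵥ v = v + n • w ∧ A *ᵥ x = x + q • v + r • w,
    fun A => ∃ r : F, A *ᵥ w = w ∧ A *ᵥ v = v ∧ A *ᵥ x = x + r • w, ?_, ?_, ?_⟩
  · rintro A₁ A₂ A ⟨c₁, hc₁, h1w, h1ξ, -⟩ ⟨c₂, hc₂, h2w, h2ξ, -⟩ hi₁ hi₂ hA
    have kill : ∀ {B : Matrix (Fin 3) (Fin 3) F} {c : F}, ξ ᵥ* B = c • ξ → ∀ p, ξ ⬝ᵥ (B *ᵥ p) = c * (ξ ⬝ᵥ p) :=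
      fun h p => by rw [dotProduct_mulVec, h, smul_dotProduct, smul_eq_mul]
    have vform : ∀ {B : Matrix (Fin 3) (Fin 3) F} {c : F}, c ≠ 0 → B *ᵥ w = c • w → ξ ᵥ* B = c • ξ →
        (∀ p, B *ᵥ p = 0 → p = 0) → ∃ χ n q r : F, χ ≠ 0 ∧ B *ᵥ v = χ • v + n • w ∧ B *ᵥ x = c • x + q • v + r • w := by
      intro B c hc hBw hBξ hinj
      obtain ⟨n, χ, z, hz⟩ := hbs (B *ᵥ v)
      obtain ⟨r, q, z', hz'⟩ := hbs (B *ᵥ x)
      have e1 := kill hBξ v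
      have e2 := kill hBξ x
      simp [hz, hz', dotProduct_add, dotProduct_smul, hξw, hξv, hξx] at e1 e2
      rw [e1, zero_smul, add_zero] at hz
      rw [e2] at hz'
      refine ⟨χ, n, q, r, fun h => ?_, by rw [hz]; abel, by rw [hz']; abel⟩
      rw [h, zero_smul, add_zero] at hz
      have := hinj (v - (n / c) • w) (by
        rw [mulVec_sub, mulVec_smul, hz, hBw, smul_smul, div_mul_cancel₀ _ hc, sub_self])
      exact hv _ (sub_eq_zero.1 this)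
    obtain ⟨χ₁, n₁, q₁, r₁, hχ₁, h1v, h1x⟩ := vform hc₁ h1w h1ξ hi₁
    obtain ⟨χ₂, n₂, q₂, r₂, hχ₂, h2v, h2x⟩ := vform hc₂ h2w h2ξ hi₂
    have e : ∀ p, A *ᵥ (A₂ *ᵥ (A₁ *ᵥ p)) = A₁ *ᵥ (A₂ *ᵥ p) := fun p => by
      simp only [mulVec_mulVec, hA]
    have ew := e w
    simp only [h1w, h2w, mulVec_smul, smul_smul] at ew
    have hAw : A *ᵥ w = w := by
      have := congrArg ((c₁ * c₂)⁻¹ • ·) ew
      simp only [smul_smul] at this
      rwa [inv_mul_cancel₀ (mul_ne_zero hc₁ hc₂), one_smul, mul_comm c₂ c₁, inv_mul_cancel₀ (mul_ne_zero hc₁ hc₂),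
        one_smul] at this
    have ev := e v
    simp only [h1w, h2w, h1v, h2v, mulVec_smul, mulVec_add, smul_add, smul_smul, hAw] at ev
    obtain ⟨n, hn⟩ : ∃ n : F, A *ᵥ v = v + n • w := by
      refine ⟨(χ₁ * χ₂)⁻¹ * (χ₂ * n₁ + n₂ * c₁ - (χ₁ * n₂ + n₁ * c₂)), ?_⟩
      refine smul_right_injective _ (mul_ne_zero hχ₁ hχ₂) ?_
      dsimp only
      rw [smul_add, smul_smul, mul_inv_cancel_left₀ (mul_ne_zero hχ₁ hχ₂)]
      linear_combination (norm := module) ev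
    have ex := e x
    simp only [h1w, h2w, h1v, h2v, h1x, h2x, mulVec_smul, mulVec_add, smul_add, smul_smul, hAw, hn] at ex
    refine ⟨n, (c₁ * c₂)⁻¹ * ((c₂ * q₁ + q₂ * χ₁) - (c₁ * q₂ + q₁ * χ₂)),
      (c₁ * c₂)⁻¹ * ((c₂ * r₁ + q₂ * n₁ + r₂ * c₁) - (c₁ * r₂ + q₁ * n₂ + r₁ * c₂) - (c₁ * q₂ + q₁ * χ₂) * n),
      hAw, hn, ?_⟩
    refine smul_right_injective _ (mul_ne_zero hc₁ hc₂) ?_
    dsimp only
    rw [smul_add, smul_add, smul_smul, smul_smul, mul_inv_cancel_left₀ (mul_ne_zero hc₁ hc₂),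
      mul_inv_cancel_left₀ (mul_ne_zero hc₁ hc₂)]
    linear_combination (norm := module) ex
  · rintro A₁ A₂ A ⟨n₁, q₁, r₁, h1w, h1v, h1x⟩ ⟨n₂, q₂, r₂, h2w, h2v, h2x⟩ hA
    have e : ∀ p, A *ᵥ (A₂ *ᵥ (A₁ *ᵥ p)) = A₁ *ᵥ (A₂ *ᵥ p) := fun p => by
      simp only [mulVec_mulVec, hA]
    have ew := e w
    simp only [h1w, h2w] at ew
    have ev := e v
    simp only [h1w, h2w, h1v, h2v, mulVec_smul, mulVec_add, ew] at ev
    have hAv : A *ᵥ v = v := by linear_combination (norm := module) ev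
    have ex := e x
    simp only [h1w, h2w, h1v, h2v, h1x, h2x, mulVec_smul, mulVec_add, ew, hAv] at ex
    exact ⟨q₂ * n₁ - q₁ * n₂, ew, hAv, by linear_combination (norm := module) ex⟩
  · rintro A₁ A₂ A ⟨r₁, h1w, h1v, h1x⟩ ⟨r₂, h2w, h2v, h2x⟩ hA
    have e : ∀ p, A *ᵥ (A₂ *ᵥ (A₁ *ᵥ p)) = A₁ *ᵥ (A₂ *ᵥ p) := fun p => by
      simp only [mulVec_mulVec, hA]
    have ew := e w
    simp only [h1w, h2w] at ew
    have ev := e v
    simp only [h1v, h2v] at ev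
    have ex := e x
    simp only [h1w, h2w, h1x, h2x, mulVec_smul, mulVec_add, ew] at ex
    refine hext A 1 (by rw [ew, one_mulVec]) (by rw [ev, one_mulVec]) ?_
    rw [one_mulVec]
    linear_combination (norm := module) ex

end Cfsg.Agent.H98.TensorWreath
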