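import Cfsg.Agent.H98.TensorWreath.Basic
import Mathlib.LinearAlgebra.Matrix.GeneralLinearGroup.Defs
import Mathlib.LinearAlgebra.Matrix.NonsingularInverse

/-!
An element mapping some `u ⊗ F^ρ` to another line of the slot respects the slot, in a small overgroup.
-/

set_option autoImplicit false
set_option linter.unusedSectionVars false

namespace Cfsg.Agent.H98.TensorWreath

open Matrix
open scoped Kronecker

variable {F : Type*} [Field F] {m : ℕ} {ρ : Type*} [Fintype ρ] [DecidableEq ρ]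

/-- `N` squares to zero and `1 + N` lies in `M`. -/
def MN {ι : Type*} [Fintype ι] [DecidableEq ι] (M : Subgroup (GL ι F)) (N : Matrix ι ι F) : Prop :=
  N * N = 0 ∧ ∃ g ∈ M, (g : Matrix ι ι F) = 1 + N

section MN

variable {ι : Type*} [Fintype ι] [DecidableEq ι] {M : Subgroup (GL ι F)}

theorem coe_inv {N : Matrix ι ι F} (hN : N * N = 0) {g : GL ι F} (hg : (g : Matrix ι ι F) = 1 + N) :
    ((g⁻¹ : GL ι F) : Matrix ι ι F) = 1 - N :=
  Units.inv_eq_of_mul_eq_one_right (by rw [hg, add_mul, one_mul, mul_sub, mul_one, hN]; abel)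

theorem MN.neg {N : Matrix ι ι F} (h : MN M N) : MN M (-N) := by
  obtain ⟨hN, g, hg, e⟩ := h
  exact ⟨by rw [neg_mul_neg, hN], g⁻¹, M.inv_mem hg, by rw [coe_inv hN e, sub_eq_add_neg]⟩

theorem MN.zero : MN M 0 := ⟨mul_zero 0, 1, M.one_mem, by simp⟩

theorem MN.add {A B : Matrix ι ι F} (hA : MN M A) (hB : MN M B) (hab : A * B = 0) (hba : B * A = 0) :
    MN M (A + B) := by
  obtain ⟨hA2, g, hg, eA⟩ := hA
  obtain ⟨hB2, k, hk, eB⟩ := hB
  refine ⟨?_, g * k, M.mul_mem hg hk, ?_⟩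
  · rw [add_mul, mul_add, mul_add, hA2, hB2, hab, hba]; simp
  · rw [Units.val_mul, eA, eB, add_mul, one_mul, mul_add, mul_one, hab]; abel

theorem MN.comm {A B : Matrix ι ι F} (hA : MN M A) (hB : MN M B) (hab : A * B = 0) : MN M (B * A) := by
  obtain ⟨hA2, g, hg, eA⟩ := hA
  obtain ⟨hB2, k, hk, eB⟩ := hB
  have z1 : ∀ X, A * (B * X) = 0 := fun X => by rw [← mul_assoc, hab, zero_mul]
  have z2 : ∀ X, A * (A * X) = 0 := fun X => by rw [← mul_assoc, hA2, zero_mul]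
  have z3 : ∀ X, B * (B * X) = 0 := fun X => by rw [← mul_assoc, hB2, zero_mul]
  refine ⟨by rw [mul_assoc, z1, mul_zero], k * g * k⁻¹ * g⁻¹,
    M.mul_mem (M.mul_mem (M.mul_mem hk hg) (M.inv_mem hk)) (M.inv_mem hg), ?_⟩
  rw [Units.val_mul, Units.val_mul, Units.val_mul, coe_inv hA2 eA, coe_inv hB2 eB, eA, eB]
  simp only [add_mul, mul_add, sub_mul, mul_sub, one_mul, mul_one, mul_assoc, hab, hA2, hB2, z1, z2, z3,
    mul_zero, zero_mul, add_zero, sub_zero]
  abel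

theorem MN.conj {N : Matrix ι ι F} (h : MN M N) {g : GL ι F} (hg : g ∈ M) :
    MN M ((g : Matrix ι ι F) * N * ((g⁻¹ : GL ι F) : Matrix ι ι F)) := by
  obtain ⟨hN, u, hu, e⟩ := h
  refine ⟨?_, g * u * g⁻¹, M.mul_mem (M.mul_mem hg hu) (M.inv_mem hg), ?_⟩
  · simp only [mul_assoc, Units.inv_mul_cancel_left]
    rw [← mul_assoc N, hN, zero_mul, mul_zero]
  · rw [Units.val_mul, Units.val_mul, e, mul_add, mul_one, add_mul, Units.mul_inv]

end MN

variable (M : Subgroup (GL (Fin m × ρ) F))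

/-- `M` contains the roots of the slot. -/
def Over : Prop := ∀ u φ : Fin m → F, φ ⬝ᵥ u = 0 → MN M (io u * pr φ)

/-- `M` contains only scalar multiples of the roots of the slot. -/
def Small : Prop :=
  ∀ (u φ : Fin m → F) (X : Matrix ρ ρ F), φ ⬝ᵥ u = 0 → u ≠ 0 → φ ≠ 0 → MN M (io u * X * pr φ) →
    ∃ c : F, X = c • 1

/-- An element respecting the slot. -/
def Weak (g : GL (Fin m × ρ) F) : Prop :=
  ∃ (A : Matrix (Fin m) (Fin m) F) (B : Matrix ρ ρ F), IsUnit B ∧ (g : V F m ρ) = A ⊗ₖ B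

variable {M}

theorem pr_io_mul (φ u : Fin m → F) {κ : Type*} (Z : Matrix ρ κ F) : pr φ * (io u * Z) = (φ ⬝ᵥ u) • Z := by
  rw [← Matrix.mul_assoc, pr_mul_io, Matrix.smul_mul, Matrix.one_mul]

theorem mul_io_pr {κ : Type*} (Z : Matrix κ (Fin m × ρ) F) (u φ : Fin m → F) :
    Z * (io u * pr φ) = Z * io (ρ := ρ) u * pr φ := (Matrix.mul_assoc _ _ _).symm

/-- A map killing `u ⊗ F^ρ` with image there is pure. -/
theorem pure_row (hM : Over M) (hS : Small M) (hm : 3 ≤ m) {u : Fin m → F} (hu : u ≠ 0)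
    {Φ : Matrix ρ (Fin m × ρ) F} (hΦu : Φ * io (ρ := ρ) u = 0) (h : MN M (io u * Φ)) :
    ∃ φ : Fin m → F, Φ = pr φ := by
  have key : ∀ w : Fin m → F, ∃ c : F, Φ * io w = c • (1 : Matrix ρ ρ F) := fun w => by
    obtain ⟨ξ, hξ, hξu, hξw⟩ := exists_perp_two hm u w
    refine hS u ξ _ hξu hu hξ ?_
    have := MN.comm (hM w ξ hξw) h
      (by rw [Matrix.mul_assoc (io w), pr_io_mul, hξu, zero_smul, Matrix.mul_zero])
    simpa only [Matrix.mul_assoc] using this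
  choose φ hφ using fun a => key (Pi.single a 1)
  exact ⟨φ, ext_io fun a => by rw [hφ, pr_mul_io, dotProduct_single, mul_one]⟩

/-- The dual statement. -/
theorem pure_col (hM : Over M) (hS : Small M) (hm : 3 ≤ m) {φ : Fin m → F} (hφ : φ ≠ 0)
    {Ψ : Matrix (Fin m × ρ) ρ F} (hΨ : pr (ρ := ρ) φ * Ψ = 0) (h : MN M (Ψ * pr φ)) :
    ∃ w : Fin m → F, Ψ = io w := by
  have key : ∀ ξ : Fin m → F, ∃ c : F, pr ξ * Ψ = c • (1 : Matrix ρ ρ F) := fun ξ => by
    obtain ⟨w, hw, hwφ, hwξ⟩ := exists_perp_two' hm φ ξ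
    refine hS w φ _ hwφ hw hφ ?_
    have := MN.comm h (hM w ξ hwξ)
      (by rw [Matrix.mul_assoc Ψ, pr_io_mul, hwφ, zero_smul, Matrix.mul_zero])
    simpa only [Matrix.mul_assoc] using this
  choose w hw using fun a => key (Pi.single a 1)
  exact ⟨w, ext_pr fun a => by rw [hw, pr_mul_io, single_dotProduct, one_mul]⟩

/-- An element mapping a line of the slot to a line of the slot respects the slot. -/
theorem weak_of_line [Nonempty ρ] (hM : Over M) (hS : Small M) (hm : 3 ≤ m) {g : GL (Fin m × ρ) F} (hg : g ∈ M)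
    {u u' : Fin m → F} (hu : u ≠ 0) (hu' : u' ≠ 0) {B : Matrix ρ ρ F}
    (hB : (g : V F m ρ) * io (ρ := ρ) u = io (ρ := ρ) u' * B) : Weak g := by
  set g' : V F m ρ := ((g⁻¹ : GL (Fin m × ρ) F) : V F m ρ) with hg'
  have hgg : g' * (g : V F m ρ) = 1 := Units.inv_mul g
  have hgg' : (g : V F m ρ) * g' = 1 := Units.mul_inv g
  obtain ⟨ψ, hψ⟩ := exists_eq_one hu
  have hBu : IsUnit B := IsUnit.of_mul_eq_one_right (pr (ρ := ρ) ψ * g' * io (ρ := ρ) u') (by
    rw [Matrix.mul_assoc, ← hB, Matrix.mul_assoc, ← Matrix.mul_assoc g', hgg, Matrix.one_mul, pr_mul_io, hψ,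
      one_smul])
  obtain ⟨Bi, hBBi, hBiB⟩ : ∃ Bi, B * Bi = 1 ∧ Bi * B = 1 := by
    obtain ⟨Bu, rfl⟩ := hBu
    exact ⟨_, Bu.mul_inv, Bu.inv_mul⟩
  have e1 : g' * io (ρ := ρ) u' = io (ρ := ρ) u * Bi := by
    calc g' * io (ρ := ρ) u' = g' * (io (ρ := ρ) u' * B) * Bi := by
          rw [Matrix.mul_assoc, Matrix.mul_assoc, hBBi, Matrix.mul_one]
      _ = io u * Bi := by rw [← hB, ← Matrix.mul_assoc, hgg, Matrix.one_mul]
  have key : ∀ w : Fin m → F, ∃ w' : Fin m → F, (g : V F m ρ) * io (ρ := ρ) w = io (ρ := ρ) w' * B := by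
    intro w
    obtain ⟨φ, hφ, hφu, hφw⟩ := exists_perp_two hm u w
    have h1 := (hM u φ hφu).conj hg
    rw [← hg', mul_io_pr, hB, Matrix.mul_assoc, Matrix.mul_assoc] at h1
    obtain ⟨φ', hφ'⟩ := pure_row hM hS hm hu'
      (by rw [Matrix.mul_assoc, Matrix.mul_assoc, e1, pr_io_mul, hφu, zero_smul, Matrix.mul_zero]) h1
    have hrow : pr (ρ := ρ) φ' * (g : V F m ρ) = B * pr (ρ := ρ) φ := by
      rw [← hφ', Matrix.mul_assoc, Matrix.mul_assoc, hgg, Matrix.mul_one]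
    have hrow' : pr (ρ := ρ) φ * g' = Bi * pr (ρ := ρ) φ' := by
      rw [← hφ', ← Matrix.mul_assoc Bi, hBiB, Matrix.one_mul]
    have hφ'0 : φ' ≠ 0 := fun h => by
      obtain ⟨w₀, hw₀⟩ := exists_eq_one' hφ
      rw [h, pr_zero, Matrix.zero_mul] at hrow
      have := congrArg (fun Z => Bi * Z * io w₀) hrow
      simp only [Matrix.mul_zero, Matrix.zero_mul, ← Matrix.mul_assoc, hBiB, Matrix.one_mul, pr_mul_io, hw₀,
        one_smul] at this
      exact zero_ne_one this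
    have h2 := (hM w φ hφw).conj hg
    rw [← hg', mul_io_pr, Matrix.mul_assoc, hrow', ← Matrix.mul_assoc] at h2
    obtain ⟨w', hw'⟩ := pure_col hM hS hm hφ'0
      (by rw [← Matrix.mul_assoc, ← Matrix.mul_assoc, hrow, Matrix.mul_assoc B, pr_mul_io, hφw, zero_smul,
        Matrix.mul_zero, Matrix.zero_mul]) h2
    exact ⟨w', by rw [← hw', Matrix.mul_assoc ((g : V F m ρ) * io w), hBiB, Matrix.mul_one]⟩
  choose a ha using fun i => key (Pi.single i 1)
  refine ⟨Matrix.of fun r c => a c r, B, hBu, ext_io fun i => ?_⟩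
  rw [ha, kron_mul_io]
  congr 2
  funext r
  simp [mulVec, dotProduct, Pi.single_apply]

theorem Weak.one : Weak (1 : GL (Fin m × ρ) F) := ⟨1, 1, isUnit_one, by simp⟩

/-- A root datum mapped to a root datum respects the slot. -/
theorem weak_of_conj [Nonempty ρ] (hM : Over M) (hS : Small M) (hm : 3 ≤ m) {g : GL (Fin m × ρ) F} (hg : g ∈ M)
    {u φ u' φ' : Fin m → F} (hu : u ≠ 0) (hφ : φ ≠ 0) (hu' : u' ≠ 0)
    (h : (g : V F m ρ) * (io (ρ := ρ) u * pr φ) = io (ρ := ρ) u' * pr φ' * (g : V F m ρ)) : Weak g := by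
  obtain ⟨v, hv⟩ := exists_eq_one' hφ
  refine weak_of_line hM hS hm hg hu hu' (B := pr (ρ := ρ) φ' * (g : V F m ρ) * io (ρ := ρ) v) ?_
  have := congrArg (· * io (ρ := ρ) v) h
  simp only [Matrix.mul_assoc, pr_mul_io, hv, one_smul, Matrix.mul_one] at this
  simpa only [Matrix.mul_assoc] using this

end Cfsg.Agent.H98.TensorWreath
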