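import Cfsg.Agent.Aschbacher.Wreath
import Cfsg.Agent.H98.TensorWreath.Line

/-!
The algebras of the factors of a tensor power: a subspace stable under the root operations.
-/

set_option autoImplicit false
set_option linter.unusedSectionVars false

namespace Cfsg.Agent.H98.TensorWreath.Full

open Matrix
open Cfsg.Agent.Aschbacher (pureMat pureMat_mul pureMat_one)

variable {F : Type*} [Field F] {m t : ℕ}

/-- Matrices of the tensor power. -/
abbrev W (F : Type*) (m t : ℕ) := Matrix (Fin t → Fin m) (Fin t → Fin m) F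

/-- A matrix in one factor. -/
def slot (i : Fin t) (A : Matrix (Fin m) (Fin m) F) : W F m t :=
  pureMat (Function.update (fun _ => 1) i A)

/-- A matrix unit of one factor. -/
def eu (i : Fin t) (a b : Fin m) : W F m t := slot i (Matrix.single a b (1 : F))

theorem slot_apply (i : Fin t) (A : Matrix (Fin m) (Fin m) F) (x y : Fin t → Fin m) :
    slot i A x y = if (∀ j, j ≠ i → x j = y j) then A (x i) (y i) else 0 := by
  classical
  rw [slot, Aschbacher.pureMat, Matrix.of_apply, ← Finset.mul_prod_erase _ _ (Finset.mem_univ i),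
    Function.update_self]
  split_ifs with h
  · rw [Finset.prod_eq_one, mul_one]
    intro j hj
    rw [Function.update_of_ne (Finset.ne_of_mem_erase hj), h j (Finset.ne_of_mem_erase hj), Matrix.one_apply_eq]
  · push Not at h
    obtain ⟨j, hj, hne⟩ := h
    rw [Finset.prod_eq_zero (Finset.mem_erase.2 ⟨hj, Finset.mem_univ _⟩)
      (by rw [Function.update_of_ne hj, Matrix.one_apply_ne hne]), mul_zero]

theorem slot_mul (i : Fin t) (A B : Matrix (Fin m) (Fin m) F) : slot i A * slot i B = slot i (A * B) := by
  rw [slot, slot, pureMat_mul, slot]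
  congr 1
  funext j
  rcases eq_or_ne j i with rfl | hj
  · simp
  · simp [Function.update_of_ne hj]

theorem slot_one (i : Fin t) : slot i (1 : Matrix (Fin m) (Fin m) F) = 1 := by
  rw [slot, Function.update_eq_self_iff.2 rfl, pureMat_one]

theorem slot_comm {i j : Fin t} (h : i ≠ j) (A B : Matrix (Fin m) (Fin m) F) :
    Commute (slot i A) (slot j B) := by
  rw [Commute, SemiconjBy, slot, slot, pureMat_mul, pureMat_mul]
  congr 1
  funext k
  rcases eq_or_ne k i with rfl | hk
  · simp [Function.update_of_ne h]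
  · simp [Function.update_of_ne hk]

theorem slot_add (i : Fin t) (A B : Matrix (Fin m) (Fin m) F) : slot i (A + B) = slot i A + slot i B := by
  ext x y
  simp only [Matrix.add_apply, slot_apply]
  split_ifs <;> simp

theorem slot_smul (i : Fin t) (c : F) (A : Matrix (Fin m) (Fin m) F) : slot i (c • A) = c • slot i A := by
  ext x y
  simp only [Matrix.smul_apply, slot_apply, smul_ite, smul_zero]

theorem slot_zero (i : Fin t) : slot i (0 : Matrix (Fin m) (Fin m) F) = 0 := by
  ext x y
  simp [slot_apply]

/-- The factor as an algebra map. -/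
def slotHom (i : Fin t) : Matrix (Fin m) (Fin m) F →ₐ[F] W F m t :=
  AlgHom.ofLinearMap ⟨⟨slot i, slot_add i⟩, slot_smul i⟩ (slot_one i) fun A B => (slot_mul i A B).symm

theorem slotHom_apply (i : Fin t) (A : Matrix (Fin m) (Fin m) F) : slotHom i A = slot i A := rfl

theorem slot_injective (i : Fin t) : Function.Injective (slot (F := F) (m := m) i) := by
  intro A B h
  ext a b
  have hp : ∀ j, j ≠ i → Function.update (fun _ => a) i a j = Function.update (fun _ : Fin t => a) i b j := fun j hj => by
    simp [Function.update_of_ne hj]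
  have := congrFun (congrFun h (Function.update (fun _ => a) i a)) (Function.update (fun _ => a) i b)
  rwa [slot_apply, slot_apply, if_pos hp, if_pos hp, Function.update_self, Function.update_self] at this

theorem eu_mul (i : Fin t) (a b c d : Fin m) :
    eu (F := F) i a b * eu i c d = if b = c then eu i a d else 0 := by
  rw [eu, eu, slot_mul]
  split_ifs with h
  · subst h; rw [single_mul_single_same, one_mul, eu]
  · simp [h, slot_zero]

theorem eu_same (i : Fin t) (a b c : Fin m) : eu (F := F) i a b * eu i b c = eu i a c := by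
  rw [eu_mul, if_pos rfl]

theorem eu_ne (i : Fin t) {a b c d : Fin m} (h : b ≠ c) : eu (F := F) i a b * eu i c d = 0 := by
  rw [eu_mul, if_neg h]

theorem sum_eu (i : Fin t) : ∑ a : Fin m, eu (F := F) i a a = 1 := by
  simp only [eu, ← slotHom_apply]
  rw [← map_sum, Matrix.sum_single_one, map_one]

theorem commute_slot {i : Fin t} {X : W F m t} (h : ∀ a b, a ≠ b → Commute (eu i a b) X) (hm : 2 ≤ m)
    (A : Matrix (Fin m) (Fin m) F) : Commute (slot i A) X := by
  have hall : ∀ a b, Commute (eu (F := F) i a b) X := fun a b => by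
    rcases eq_or_ne a b with rfl | hab
    · have : Nontrivial (Fin m) := Fin.nontrivial_iff_two_le.2 hm
      obtain ⟨c, hc⟩ := exists_ne a
      rw [← eu_same i a c a]
      exact (h a c hc.symm).mul_left (h c a hc)
    · exact h a b hab
  rw [Matrix.matrix_eq_sum_single A, ← slotHom_apply, map_sum]
  refine Commute.sum_left _ _ _ fun a _ => ?_
  rw [map_sum]
  refine Commute.sum_left _ _ _ fun b _ => ?_
  rw [← mul_one (A a b), ← smul_eq_mul, ← Matrix.smul_single, map_smul]
  exact (hall a b).smul_left _

/-- Products of matrix units of chosen factors. -/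
theorem pureMat_insert {S : Finset (Fin t)} {j : Fin t} (hj : j ∉ S) (Y : Fin t → Matrix (Fin m) (Fin m) F) :
    pureMat (fun k => if k ∈ insert j S then Y k else 1) =
      slot j (Y j) * pureMat (fun k => if k ∈ S then Y k else 1) := by
  rw [slot, pureMat_mul]
  congr 1
  funext k
  rcases eq_or_ne k j with rfl | hk
  · simp [hj]
  · simp [hk]

theorem single_eq (x y : Fin t → Fin m) :
    Matrix.single x y (1 : F) = pureMat fun k => Matrix.single (x k) (y k) (1 : F) := by
  ext p q
  simp only [Aschbacher.pureMat, Matrix.of_apply, Matrix.single_apply]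
  split_ifs with h
  · obtain ⟨rfl, rfl⟩ := h
    simp
  · symm
    rcases not_and_or.1 h with h | h <;> obtain ⟨k, hk⟩ := Function.ne_iff.1 h <;>
      exact Finset.prod_eq_zero (Finset.mem_univ k) (by simp [hk])

/-- A matrix commuting with every factor is scalar. -/
theorem scalar_of_commute {X : W F m t} (h : ∀ i A, Commute (slot i A) X) : ∃ c : F, X = c • 1 := by
  have hp : ∀ (Y : Fin t → Matrix (Fin m) (Fin m) F) (S : Finset (Fin t)),
      Commute (pureMat fun k => if k ∈ S then Y k else 1) X := by
    intro Y S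
    induction S using Finset.induction_on with
    | empty => simpa [pureMat_one] using Commute.one_left X
    | insert j S hj ih => rw [pureMat_insert hj]; exact (h j _).mul_left ih
  obtain ⟨c, hc⟩ := Matrix.mem_range_scalar_of_commute_single (M := X) fun x y _ => by
    have := hp (fun k => Matrix.single (x k) (y k) (1 : F)) Finset.univ
    simpa [← single_eq] using this
  exact ⟨c, by rw [← hc, Matrix.smul_one_eq_diagonal]; rfl⟩

/-- The difference of conjugating by `1 + E` when `E² = 0`. -/
def tw (E X : W F m t) : W F m t := E * X - X * E - E * X * E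

theorem tw_smul (E X : W F m t) (c : F) : tw E (c • X) = c • tw E X := by
  simp only [tw, Matrix.mul_smul, Matrix.smul_mul, smul_sub]

theorem tw_mul_left {E Y X : W F m t} (h : Commute E Y) : tw E (Y * X) = Y * tw E X := by
  simp only [tw, mul_sub, ← mul_assoc, h.eq]

theorem commute_tw {E Y X : W F m t} (hE : Commute Y E) (hX : Commute Y X) : Commute Y (tw E X) :=
  ((hE.mul_right hX).sub_right (hX.mul_right hE)).sub_right ((hE.mul_right hX).mul_right hE)

/-- Stable under the operations of the factors in `S`. -/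
structure Closed (S : Finset (Fin t)) (K : Set (W F m t)) : Prop where
  add : ∀ X ∈ K, ∀ Y ∈ K, X + Y ∈ K
  smul : ∀ (c : F), ∀ X ∈ K, c • X ∈ K
  mul : ∀ X ∈ K, ∀ Y ∈ K, X * Y ∈ K
  op : ∀ k ∈ S, ∀ a b : Fin m, a ≠ b → ∀ X ∈ K, tw (eu k a b) X ∈ K

/-- The part of `K` over one factor. -/
def part (j : Fin t) (K : Set (W F m t)) : Set (W F m t) :=
  {B | (∀ A, Commute (slot j A) B) ∧ ∀ a b : Fin m, a ≠ b → eu j a b * B ∈ K}

theorem exists_third (hm : 3 ≤ m) (a b : Fin m) : ∃ c : Fin m, c ≠ a ∧ c ≠ b := by
  have : 0 < (({a, b} : Finset (Fin m))ᶜ).card := by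
    rw [Finset.card_compl, Fintype.card_fin]
    have := Finset.card_le_two (a := a) (b := b)
    omega
  obtain ⟨c, hc⟩ := Finset.card_pos.1 this
  exact ⟨c, by simpa using hc⟩

theorem Closed.part (hm : 3 ≤ m) {S : Finset (Fin t)} {K : Set (W F m t)} (hK : Closed S K) (j : Fin t) :
    Closed (S.erase j) (Full.part j K) where
  add X hX Y hY := ⟨fun A => (hX.1 A).add_right (hY.1 A), fun a b h => by
    rw [mul_add]; exact hK.add _ (hX.2 a b h) _ (hY.2 a b h)⟩
  smul c X hX := ⟨fun A => (hX.1 A).smul_right c, fun a b h => by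
    rw [mul_smul_comm]; exact hK.smul c _ (hX.2 a b h)⟩
  mul X hX Y hY := ⟨fun A => (hX.1 A).mul_right (hY.1 A), fun a b h => by
    obtain ⟨c, hca, hcb⟩ := exists_third hm a b
    have := hK.mul _ (hX.2 a c hca.symm) _ (hY.2 c b hcb)
    have hc : eu j c b * X = X * eu j c b := (hX.1 _).eq
    rwa [mul_assoc (eu j a c), ← mul_assoc X, ← hc, mul_assoc (eu j c b), ← mul_assoc, eu_same] at this⟩
  op k hk p q hpq X hX := by
    obtain ⟨hkj, hkS⟩ := Finset.mem_erase.1 hk
    refine ⟨fun A => commute_tw (slot_comm hkj.symm _ _) (hX.1 A), fun a b h => ?_⟩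
    rw [← tw_mul_left (E := eu k p q) (Y := eu j a b) (slot_comm hkj _ _)]
    exact hK.op k hkS p q hpq _ (hX.2 a b h)

/-- An element of `K` moving a factor puts a whole element over it. -/
theorem exists_part (hm : 3 ≤ m) {S : Finset (Fin t)} {K : Set (W F m t)} (hK : Closed S K) {j : Fin t} (hj : j ∈ S)
    {X : W F m t} (hX : X ∈ K) (hXS : ∀ k, k ∉ S → ∀ A, Commute (slot k A) X)
    (hne : ¬ ∀ A, Commute (slot j A) X) :
    ∃ B ∈ Full.part j K, B ≠ 0 ∧ ∀ k, k ∉ S.erase j → ∀ A, Commute (slot k A) B := by
  set e : Fin m → Fin m → W F m t := eu j with he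
  have es : ∀ a b c, e a b * e b c = e a c := eu_same j
  have e0 : ∀ {a b c d : Fin m}, b ≠ c → e a b * e c d = 0 := fun h => eu_ne j h
  have es' : ∀ a b c Z, e a b * (e b c * Z) = e a c * Z := fun a b c Z => by rw [← mul_assoc, es]
  have e0' : ∀ {a b c d : Fin m} Z, b ≠ c → e a b * (e c d * Z) = 0 := fun Z h => by
    rw [← mul_assoc, e0 h, zero_mul]
  obtain ⟨Y, hY, hYS, p, q, hpq, hV⟩ : ∃ Y ∈ K, (∀ k, k ∉ S → ∀ A, Commute (slot k A) Y) ∧
      ∃ p q, p ≠ q ∧ e q p * Y * e q p ≠ 0 := by
    by_contra hc
    push Not at hc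
    have h0 := hc X hX hXS
    have h2 : ∀ a c, a ≠ c → e a a * X * e c c = 0 := fun a c h => by
      have := congrArg (fun Z => e a c * Z * e a c) (h0 a c h)
      simpa only [mul_assoc, es, es', mul_zero, zero_mul] using this
    have h1 : ∀ a b, a ≠ b → e b b * X * e b a = e b a * X * e a a := fun a b h => by
      have := hc (tw (e a b) X) (hK.op j hj a b h X hX)
        (fun k hk A => commute_tw (slot_comm (fun hkj => hk (by rw [hkj]; exact hj)) _ _) (hXS k hk A)) a b h
      simp only [tw, mul_sub, sub_mul, mul_assoc, es, es'] at this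
      rw [← mul_assoc (e b b) X (e a a), h2 b a h.symm, sub_zero] at this
      simpa only [mul_assoc] using sub_eq_zero.1 this
    refine hne (commute_slot (fun a b h => ?_) (by omega))
    change e a b * X = X * e a b
    calc e a b * X = ∑ c, e a b * X * e c c := by rw [← Finset.mul_sum, sum_eu, mul_one]
      _ = e a b * X * e b b := by
            refine Finset.sum_eq_single b (fun c _ hc' => ?_) (fun h => absurd (Finset.mem_univ _) h)
            rw [← es a b b, mul_assoc (e a b), mul_assoc (e a b), h2 b c hc'.symm, mul_zero]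
      _ = e a a * X * e a b := (h1 b a h.symm).symm
      _ = ∑ c, e c c * X * e a b := by
            symm
            refine Finset.sum_eq_single a (fun c _ hc' => ?_) (fun h => absurd (Finset.mem_univ _) h)
            rw [← es a a b, ← mul_assoc (e c c * X), h2 c a hc', zero_mul]
      _ = X * e a b := by rw [← Finset.sum_mul, ← Finset.sum_mul, sum_eu, one_mul]
  obtain ⟨b, hbp, hbq⟩ := exists_third hm p q
  have hVK : e q p * Y * e q p ∈ K := by
    have h3 := hK.op j hj b p hbp _ (hK.op j hj q p hpq.symm _ (hK.op j hj q b hbq.symm Y hY))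
    simp only [← he, tw, mul_sub, sub_mul, mul_assoc, es, es', e0 hbq, e0 hbp, e0 hbp.symm, e0 hpq,
      e0 hpq.symm, e0' _ hbq, e0' _ hbp, e0' _ hbp.symm, e0' _ hpq, e0' _ hpq.symm, mul_zero, zero_mul, sub_zero,
      zero_sub, neg_zero, mul_neg, neg_mul, neg_neg, sub_self] at h3
    simpa only [mul_assoc] using h3
  set B := ∑ c, e c p * Y * e q c with hB
  have hBl : ∀ a b, e a b * B = e a p * Y * e q b := fun a b => by
    rw [hB, Finset.mul_sum, Finset.sum_eq_single b (fun c _ hc => by rw [mul_assoc (e c p), e0' _ hc.symm]) (by simp),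
      mul_assoc, es', mul_assoc]
  have hBr : ∀ a b, B * e a b = e a p * Y * e q b := fun a b => by
    rw [hB, Finset.sum_mul, Finset.sum_eq_single a (fun c _ hc => by rw [mul_assoc, e0 hc, mul_zero]) (by simp),
      mul_assoc, es]
  have hBc : ∀ A, Commute (slot j A) B := commute_slot (fun a b _ => (hBl a b).trans (hBr a b).symm) (by omega)
  have hBe : ∀ a b, B * e a b = e a b * B := fun a b => (hBr a b).trans (hBl a b).symm
  have hleft : ∀ a b c : Fin m, c ≠ a → c ≠ b → e a b * B ∈ K → e c b * B ∈ K := fun a b c hca hcb h => by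
    have h3 := hK.op j hj c a hca _ h
    simp only [← he, tw, ← mul_assoc, es] at h3
    rwa [mul_assoc (e a b) B, hBe, mul_assoc (e c b) B, hBe, ← mul_assoc,
      ← mul_assoc, e0 hcb.symm, e0 hcb.symm, zero_mul, sub_zero, sub_zero] at h3
  have hright : ∀ a b d : Fin m, d ≠ a → d ≠ b → e a b * B ∈ K → e a d * B ∈ K := fun a b d hda hdb h => by
    have h3 := hK.op j hj b d hdb.symm _ h
    simp only [← he, tw, ← mul_assoc, e0 hda, zero_mul, zero_sub, sub_zero] at h3
    rw [mul_assoc (e a b) B, hBe, ← mul_assoc, es] at h3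
    simpa using hK.smul (-1) _ h3
  have hmem : ∀ a b : Fin m, a ≠ b → e a b * B ∈ K := by
    have h0 : e q p * B ∈ K := by rw [hBl]; exact hVK
    have hl : ∀ a, a ≠ p → e a p * B ∈ K := fun a ha => by
      rcases eq_or_ne a q with rfl | haq
      · exact h0
      · exact hleft q p a haq ha h0
    intro a d had
    rcases eq_or_ne a p with rfl | hap
    · obtain ⟨c, hca, hcq⟩ := exists_third hm a q
      have h1 : e q c * B ∈ K := hright q a c hcq hca h0
      have h2 : e a c * B ∈ K := hleft q c a hpq hca.symm h1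
      rcases eq_or_ne d c with rfl | hdc
      · exact h2
      · exact hright a c d had.symm hdc h2
    · rcases eq_or_ne d p with rfl | hdp
      · exact hl a hap
      · exact hright a p d had.symm hdp (hl a hap)
  refine ⟨B, ⟨hBc, hmem⟩, fun h => hV ?_, fun k hk A => ?_⟩
  · rw [← hBl, h, mul_zero]
  · rcases eq_or_ne k j with rfl | hkj
    · exact hBc A
    · have hkS : k ∉ S := fun h => hk (Finset.mem_erase.2 ⟨hkj, h⟩)
      exact Commute.sum_right _ _ _ fun c _ => ((slot_comm hkj _ _).mul_right (hYS k hkS A)).mul_right (slot_comm hkj _ _)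

/-- A non-zero closed set contains the identity. -/
theorem one_mem (hm : 3 ≤ m) : ∀ (S : Finset (Fin t)) (K : Set (W F m t)), Closed S K → ∀ X ∈ K, X ≠ 0 →
    (∀ k, k ∉ S → ∀ A, Commute (slot k A) X) → (1 : W F m t) ∈ K := by
  intro S
  induction S using Finset.strongInduction with
  | H S ih =>
    intro K hK X hX hX0 hXS
    by_cases hall : ∀ k, ∀ A, Commute (slot k A) X
    · obtain ⟨c, rfl⟩ := scalar_of_commute hall
      have hc : c ≠ 0 := fun h => hX0 (by rw [h, zero_smul])
      simpa [smul_smul, inv_mul_cancel₀ hc] using hK.smul c⁻¹ _ hX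
    · obtain ⟨j, hj⟩ := not_forall.1 hall
      have hjS : j ∈ S := by_contra fun h => hj (hXS j h)
      obtain ⟨B, hB, hB0, hBS⟩ := exists_part hm hK hjS hX hXS hj
      have h1 := ih _ (Finset.erase_ssubset hjS) _ (hK.part hm j) B hB hB0 hBS
      have h2 : ∀ a b : Fin m, a ≠ b → eu j a b ∈ K := fun a b h => by simpa using h1.2 a b h
      rw [← sum_eu j]
      have h3 : ∀ T : Finset (Fin m), T.Nonempty → (∑ a ∈ T, eu (F := F) j a a) ∈ K := by
        intro T hT
        induction hT using Finset.Nonempty.cons_induction with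
        | singleton a =>
          obtain ⟨c, hc, -⟩ := exists_third hm a a
          rw [Finset.sum_singleton, ← eu_same j a c a]
          exact hK.mul _ (h2 a c hc.symm) _ (h2 c a hc)
        | cons a T ha _ ih =>
          obtain ⟨c, hc, -⟩ := exists_third hm a a
          rw [Finset.sum_cons, ← eu_same j a c a]
          exact hK.add _ (hK.mul _ (h2 a c hc.symm) _ (h2 c a hc)) _ ih
      exact h3 _ ⟨⟨0, by omega⟩, Finset.mem_univ _⟩

/-- A non-scalar element gives the matrix units of a factor. -/
theorem exists_units (hm : 3 ≤ m) {S : Finset (Fin t)} {K : Set (W F m t)} (hK : Closed S K) {X : W F m t}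
    (hX : X ∈ K) (hXS : ∀ k, k ∉ S → ∀ A, Commute (slot k A) X) (hns : ∀ c : F, X ≠ c • 1) :
    ∃ j ∈ S, ∀ a b : Fin m, a ≠ b → eu j a b ∈ K := by
  have hall : ¬ ∀ k, ∀ A, Commute (slot k A) X := fun hall => by
    obtain ⟨c, hc⟩ := scalar_of_commute hall
    exact hns c hc
  obtain ⟨j, hj⟩ := not_forall.1 hall
  have hjS : j ∈ S := by_contra fun h => hj (hXS j h)
  obtain ⟨B, hB, hB0, hBS⟩ := exists_part hm hK hjS hX hXS hj
  have h1 := one_mem hm _ _ (hK.part hm j) B hB hB0 hBS
  exact ⟨j, hjS, fun a b h => by simpa using h1.2 a b h⟩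

end Cfsg.Agent.H98.TensorWreath.Full
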