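import Cfsg.Agent.H98.TensorWreath.Stab
import Mathlib.Algebra.Polynomial.Expand

/-!
The group generated by a root and a conjugate of a root with non-nilpotent pairing.
-/

set_option autoImplicit false
set_option linter.unusedSectionVars false

namespace Cfsg.Agent.H98.TensorWreath

open Matrix Polynomial
open scoped Kronecker

variable {F : Type*} [Field F] {m : ℕ} {ρ : Type*} [Fintype ρ] [DecidableEq ρ]

/-- The generated elements move everything into `u ⊗ F^ρ + im (t - 1)`. -/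
theorem img_form {u : Fin m → F} {a : Matrix (Fin m × ρ) ρ F} {S : Set (GL (Fin m × ρ) F)}
    (hS : ∀ x ∈ S, ∃ α β : Matrix ρ (Fin m × ρ) F, (x : V F m ρ) - 1 = io u * α + a * β)
    {x : GL (Fin m × ρ) F} (hx : x ∈ Subgroup.closure S) :
    ∃ α β : Matrix ρ (Fin m × ρ) F, (x : V F m ρ) - 1 = io u * α + a * β := by
  induction hx using Subgroup.closure_induction with
  | mem x hx => exact hS x hx
  | one => exact ⟨0, 0, by simp⟩
  | mul x y _ _ hx hy =>
    obtain ⟨α, β, e⟩ := hx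
    obtain ⟨α', β', e'⟩ := hy
    refine ⟨α * (y : V F m ρ) + α', β * (y : V F m ρ) + β', ?_⟩
    rw [Units.val_mul, show (x : V F m ρ) * y - 1 = ((x : V F m ρ) - 1) * y + ((y : V F m ρ) - 1) by noncomm_ring,
      e, e', Matrix.add_mul, Matrix.mul_assoc, Matrix.mul_assoc, Matrix.mul_add, Matrix.mul_add]
    abel
  | inv x _ hx =>
    obtain ⟨α, β, e⟩ := hx
    refine ⟨-(α * ((x⁻¹ : GL (Fin m × ρ) F) : V F m ρ)), -(β * ((x⁻¹ : GL (Fin m × ρ) F) : V F m ρ)), ?_⟩
    rw [show ((x⁻¹ : GL (Fin m × ρ) F) : V F m ρ) - 1 = -(((x : V F m ρ) - 1) * ((x⁻¹ : GL (Fin m × ρ) F) : V F m ρ)) by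
      rw [sub_mul, one_mul, Units.mul_inv]; abel, e, Matrix.add_mul, Matrix.mul_assoc, Matrix.mul_assoc,
      Matrix.mul_neg, Matrix.mul_neg]
    abel

/-- The dual statement. -/
theorem row_form {φ : Fin m → F} {b : Matrix ρ (Fin m × ρ) F} {S : Set (GL (Fin m × ρ) F)}
    (hS : ∀ x ∈ S, ∃ γ δ : Matrix (Fin m × ρ) ρ F, (x : V F m ρ) - 1 = γ * pr φ + δ * b)
    {x : GL (Fin m × ρ) F} (hx : x ∈ Subgroup.closure S) :
    ∃ γ δ : Matrix (Fin m × ρ) ρ F, (x : V F m ρ) - 1 = γ * pr φ + δ * b := by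
  induction hx using Subgroup.closure_induction with
  | mem x hx => exact hS x hx
  | one => exact ⟨0, 0, by simp⟩
  | mul x y _ _ hx hy =>
    obtain ⟨γ, δ, e⟩ := hx
    obtain ⟨γ', δ', e'⟩ := hy
    refine ⟨(x : V F m ρ) * γ' + γ, (x : V F m ρ) * δ' + δ, ?_⟩
    rw [Units.val_mul, show (x : V F m ρ) * y - 1 = (x : V F m ρ) * ((y : V F m ρ) - 1) + ((x : V F m ρ) - 1) by
      noncomm_ring, e, e', Matrix.mul_add, ← Matrix.mul_assoc, ← Matrix.mul_assoc, Matrix.add_mul, Matrix.add_mul]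
    abel
  | inv x _ hx =>
    obtain ⟨γ, δ, e⟩ := hx
    refine ⟨-(((x⁻¹ : GL (Fin m × ρ) F) : V F m ρ) * γ), -(((x⁻¹ : GL (Fin m × ρ) F) : V F m ρ) * δ), ?_⟩
    rw [show ((x⁻¹ : GL (Fin m × ρ) F) : V F m ρ) - 1 =
        -(((x⁻¹ : GL (Fin m × ρ) F) : V F m ρ) * ((x : V F m ρ) - 1)) by rw [mul_sub, mul_one, Units.inv_mul]; abel,
      e, Matrix.mul_add, ← Matrix.mul_assoc, ← Matrix.mul_assoc, Matrix.neg_mul, Matrix.neg_mul]
    abel

section Transfer

variable {u φ : Fin m → F} {r t : GL (Fin m × ρ) F}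

/-- The action on the pair of columns `u ⊗ 1`, `(t - 1) (u ⊗ 1)` is by polynomial matrices in the pairing. -/
def Rep (u φ : Fin m → F) (t x : GL (Fin m × ρ) F) (R : Matrix (Fin 2) (Fin 2) F[X]) : Prop :=
  (x : V F m ρ) * io (ρ := ρ) u = io (ρ := ρ) u * aeval (qm u φ t) (R 0 0) + ((t : V F m ρ) - 1) * io (ρ := ρ) u * aeval (qm u φ t) (R 1 0) ∧
  (x : V F m ρ) * (((t : V F m ρ) - 1) * io (ρ := ρ) u) =
    io (ρ := ρ) u * aeval (qm u φ t) (R 0 1) + ((t : V F m ρ) - 1) * io (ρ := ρ) u * aeval (qm u φ t) (R 1 1)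

theorem Rep.mul {x y : GL (Fin m × ρ) F} {R S : Matrix (Fin 2) (Fin 2) F[X]} (hx : Rep u φ t x R)
    (hy : Rep u φ t y S) : Rep u φ t (x * y) (R * S) := by
  obtain ⟨hx0, hx1⟩ := hx
  obtain ⟨hy0, hy1⟩ := hy
  constructor <;>
    simp only [Units.val_mul, Matrix.mul_assoc (x : V F m ρ), Matrix.mul_apply, Fin.sum_univ_two, map_add, map_mul]
  · rw [hy0, Matrix.mul_add, ← Matrix.mul_assoc (x : V F m ρ), ← Matrix.mul_assoc (x : V F m ρ), hx0, hx1]
    simp only [Matrix.add_mul, Matrix.mul_add, Matrix.mul_assoc]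
    abel
  · rw [hy1, Matrix.mul_add, ← Matrix.mul_assoc (x : V F m ρ), ← Matrix.mul_assoc (x : V F m ρ), hx0, hx1]
    simp only [Matrix.add_mul, Matrix.mul_add, Matrix.mul_assoc]
    abel

theorem exists_rep [Finite F] (hφu : φ ⬝ᵥ u = 0) (hr : (r : V F m ρ) = 1 + io u * pr φ) {a : Matrix (Fin m × ρ) ρ F}
    {b : Matrix ρ (Fin m × ρ) F} (e : (t : V F m ρ) = 1 + a * b) (hba : b * a = 0)
    {x : GL (Fin m × ρ) F} (hx : x ∈ Subgroup.closure ({r, t} : Set (GL (Fin m × ρ) F))) :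
    ∃ R : Matrix (Fin 2) (Fin 2) F[X], R.det = 1 ∧ Rep u φ t x R := by
  classical
  have hN : ((t : V F m ρ) - 1) * ((t : V F m ρ) - 1) = 0 := by
    rw [e, add_sub_cancel_left, Matrix.mul_assoc, ← Matrix.mul_assoc b, hba, Matrix.zero_mul, Matrix.mul_zero]
  induction hx using Subgroup.closure_induction'' with
  | one => exact ⟨1, Matrix.det_one, by simp [Rep]⟩
  | mem x hx =>
    rcases hx with rfl | hx
    · refine ⟨!![1, X; 0, 1], by simp [Matrix.det_fin_two], ?_, ?_⟩
      · simp [hr, Matrix.add_mul, Matrix.mul_assoc, pr_mul_io, hφu]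
      · simp [hr, qm, Matrix.add_mul, Matrix.mul_assoc]
        abel
    · rw [Set.mem_singleton_iff] at hx
      subst hx
      refine ⟨!![1, 0; 1, 1], by simp [Matrix.det_fin_two], ?_, ?_⟩
      · simp only [Matrix.cons_val', Matrix.cons_val_zero, Matrix.cons_val_one, Matrix.of_apply, map_one,
          Matrix.mul_one, Matrix.sub_mul, Matrix.one_mul]
        simp
      · simp only [Matrix.cons_val', Matrix.cons_val_zero, Matrix.cons_val_one, Matrix.of_apply, map_one, map_zero,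
          Matrix.mul_one, Matrix.mul_zero, zero_add]
        rw [← Matrix.mul_assoc, show (x : V F m ρ) * ((x : V F m ρ) - 1) = (x : V F m ρ) - 1 by
          rw [← sub_eq_zero]; calc (x : V F m ρ) * ((x : V F m ρ) - 1) - ((x : V F m ρ) - 1)
              = ((x : V F m ρ) - 1) * ((x : V F m ρ) - 1) := by noncomm_ring
            _ = 0 := hN]
  | inv_mem x hx =>
    rcases hx with rfl | hx
    · refine ⟨!![1, -X; 0, 1], by simp [Matrix.det_fin_two], ?_, ?_⟩ <;>
        rw [coe_inv (by rw [Matrix.mul_assoc, pr_io_mul, hφu, zero_smul, Matrix.mul_zero]) hr]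
      · simp [Matrix.sub_mul, Matrix.mul_assoc, pr_mul_io, hφu]
      · simp [qm, Matrix.sub_mul, Matrix.mul_assoc]
        abel
    · rw [Set.mem_singleton_iff] at hx
      subst hx
      refine ⟨!![1, 0; -1, 1], by simp [Matrix.det_fin_two], ?_, ?_⟩ <;>
        rw [coe_inv hN (show (x : V F m ρ) = 1 + ((x : V F m ρ) - 1) by abel)]
      · simp [Matrix.sub_mul]
        abel
      · simp only [Matrix.cons_val', Matrix.cons_val_zero, Matrix.cons_val_one, Matrix.of_apply, map_one, map_zero,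
          Matrix.mul_one, Matrix.mul_zero, zero_add]
        rw [← Matrix.mul_assoc, sub_mul (1 : V F m ρ), one_mul, hN, sub_zero]
  | mul x y _ _ hx hy =>
    obtain ⟨R, hR, hxR⟩ := hx
    obtain ⟨S, hS, hyS⟩ := hy
    exact ⟨R * S, by rw [Matrix.det_mul, hR, hS, one_mul], hxR.mul hyS⟩

/-- An element of the other factor is not conjugate to `t` in the generated group. -/
theorem outer_not_conj [Finite F] [Nonempty ρ] (hu : u ≠ 0) (hφu : φ ⬝ᵥ u = 0)
    (hr : (r : V F m ρ) = 1 + io u * pr φ) {a : Matrix (Fin m × ρ) ρ F} {b : Matrix ρ (Fin m × ρ) F}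
    (e : (t : V F m ρ) = 1 + a * b) (hba : b * a = 0) (hnil : ¬ IsNilpotent (qm u φ t))
    (hred : (2 : F) ≠ 0 ∨ ∀ q : F[X], aeval (qm u φ t) q * aeval (qm u φ t) q = 0 → aeval (qm u φ t) q = 0)
    {g : GL (Fin m × ρ) F} (hg : g ∈ Subgroup.closure ({r, t} : Set (GL (Fin m × ρ) F))) {C : Matrix ρ ρ F}
    (hsC : ((g * t * g⁻¹ : GL (Fin m × ρ) F) : V F m ρ) = oc C) (hC : (C - 1) * (C - 1) = 0) : False := by
  set Q := qm u φ t with hQ
  set N : V F m ρ := (t : V F m ρ) - 1 with hNdef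
  set G2 := Subgroup.closure ({r, t} : Set (GL (Fin m × ρ) F))
  have htG : t ∈ G2 := Subgroup.subset_closure (by simp)
  obtain ⟨R, hdet, hR0, hR1⟩ := exists_rep hφu hr e hba (G2.mul_mem (G2.mul_mem hg htG) (G2.inv_mem hg))
  rw [hsC, oc_io] at hR0
  rw [hsC, ← hNdef] at hR1
  rw [← hNdef] at hR0
  rw [← hQ] at hR0 hR1
  set A := R 0 0 with hA
  set B := R 0 1 with hB
  set Cc := R 1 0 with hCc
  set Dd := R 1 1 with hDd
  have hev : ∀ {p q r : F[X]}, p * q = r → aeval Q p * aeval Q q = aeval Q r := fun h => by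
    rw [← map_mul, h]
  have hX : aeval Q (X : F[X]) = Q := aeval_X Q
  have hNN : N * N = 0 := by
    rw [hNdef, e, add_sub_cancel_left, Matrix.mul_assoc, ← Matrix.mul_assoc b, hba, Matrix.zero_mul, Matrix.mul_zero]
  have k1 : pr (ρ := ρ) φ * N * io (ρ := ρ) u = Q := rfl
  have k2 : ∀ Z : Matrix ρ ρ F, pr (ρ := ρ) φ * (N * io (ρ := ρ) u * Z) = Q * Z := fun Z => by
    rw [← Matrix.mul_assoc, ← Matrix.mul_assoc, k1]
  have e1 : aeval Q (X * Cc) = 0 := by
    have := congrArg (pr (ρ := ρ) φ * ·) hR0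
    simp only [Matrix.mul_add] at this
    rw [pr_io_mul, pr_io_mul, hφu, zero_smul, zero_smul, zero_add, k2] at this
    rw [map_mul, hX, ← this]
  have e2 : Q * C = aeval Q (X * A) := by
    have := congrArg (pr (ρ := ρ) φ * N * ·) hR0
    simp only [Matrix.mul_add, ← Matrix.mul_assoc, k1] at this
    rw [map_mul, hX, this, Matrix.mul_assoc (pr φ) N N, hNN, Matrix.mul_zero]
    simp
  have e3 : C * Q = aeval Q (X * Dd) := by
    have := congrArg (pr (ρ := ρ) φ * ·) hR1
    simp only [Matrix.mul_add] at this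
    rw [pr_io_mul, hφu, zero_smul, zero_add, k2, ← Matrix.mul_assoc, pr_oc, Matrix.mul_assoc,
      ← Matrix.mul_assoc (pr φ) N, k1] at this
    rw [map_mul, hX, this]
  obtain ⟨χ, hχ⟩ := exists_eq_one hu
  set Y := pr (ρ := ρ) χ * N * io (ρ := ρ) u with hY
  have e4 : C * Y = aeval Q B + Y * aeval Q Dd := by
    have := congrArg (pr (ρ := ρ) χ * ·) hR1
    simp only [Matrix.mul_add] at this
    rw [pr_io_mul, hχ, one_smul, ← Matrix.mul_assoc _ (N * io u) (aeval Q Dd), ← Matrix.mul_assoc (pr χ) (oc C),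
      pr_oc, Matrix.mul_assoc C, ← Matrix.mul_assoc (pr χ) N] at this
    exact this
  have x1 : Q * (C - 1) = aeval Q (X * (A - 1)) := by
    rw [mul_sub, mul_one, e2, mul_sub, mul_one, map_sub, hX]
  have x2 : (C - 1) * Q = aeval Q (X * (Dd - 1)) := by
    rw [sub_mul, one_mul, e3, mul_sub, mul_one, map_sub, hX]
  have q1 : aeval Q (X * X * (A - 1)) = aeval Q (X * X * (Dd - 1)) := by
    calc aeval Q (X * X * (A - 1)) = aeval Q (X * (A - 1)) * aeval Q X := (hev (by ring)).symm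
      _ = Q * ((C - 1) * Q) := by rw [← x1, hX, Matrix.mul_assoc]
      _ = aeval Q X * aeval Q (X * (Dd - 1)) := by rw [x2, hX]
      _ = _ := hev (by ring)
  have q2 : aeval Q (X * ((Dd - 1) * (Dd - 1))) = 0 := by
    calc aeval Q (X * ((Dd - 1) * (Dd - 1))) = aeval Q (X * (Dd - 1)) * aeval Q (Dd - 1) := (hev (by ring)).symm
      _ = (C - 1) * (aeval Q X * aeval Q (Dd - 1)) := by rw [← x2, hX, Matrix.mul_assoc]
      _ = (C - 1) * ((C - 1) * Q) := by rw [hev rfl, x2]
      _ = 0 := by rw [← Matrix.mul_assoc, hC, Matrix.zero_mul]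
  have q3 : aeval Q (X * X * (Dd - 1)) = 0 := by
    rcases hred with h2 | hred
    · have hd : A * Dd - B * Cc = 1 := by rw [hA, hB, hCc, hDd, ← Matrix.det_fin_two R, hdet]
      have hb : aeval Q (X * X * (B * Cc)) = 0 := by
        rw [show X * X * (B * Cc) = X * B * (X * Cc) by ring, map_mul, e1, mul_zero]
      have hm' : aeval Q (X * X * ((A - 1) * (Dd - 1))) = 0 := by
        rw [← hev (show X * X * (A - 1) * (Dd - 1) = X * X * ((A - 1) * (Dd - 1)) by ring), q1,
          hev (show X * X * (Dd - 1) * (Dd - 1) = X * (X * ((Dd - 1) * (Dd - 1))) by ring), map_mul, q2, mul_zero]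
      have key : X * X * (A - 1) + X * X * (Dd - 1) + X * X * ((A - 1) * (Dd - 1)) - X * X * (B * Cc)
          = (0 : F[X]) := by linear_combination (X * X : F[X]) * hd
      have := congrArg (aeval Q) key
      rw [map_sub, map_add, map_add, hb, hm', q1, add_zero, sub_zero, map_zero, ← two_smul F] at this
      exact (smul_eq_zero.1 this).resolve_left h2
    · have h0 : aeval Q (X * (Dd - 1)) = 0 := hred _ (by
        rw [hev (show X * (Dd - 1) * (X * (Dd - 1)) = X * (X * ((Dd - 1) * (Dd - 1))) by ring), map_mul, q2, mul_zero])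
      rw [← hev (show X * (X * (Dd - 1)) = X * X * (Dd - 1) by ring), h0, Matrix.mul_zero]
  have q4 : aeval Q (X * X * (A - 1)) = 0 := q1.trans q3
  have xl : aeval Q (X * X : F[X]) * (C - 1) = 0 := by
    calc aeval Q (X * X : F[X]) * (C - 1) = aeval Q (X : F[X]) * (Q * (C - 1)) := by rw [map_mul, hX, Matrix.mul_assoc]
      _ = aeval Q (X : F[X]) * aeval Q (X * (A - 1)) := by rw [x1]
      _ = 0 := by rw [hev (show X * (X * (A - 1)) = X * X * (A - 1) by ring), q4]
  have q5 : aeval Q (X * X : F[X]) * aeval Q B * aeval Q (X * X : F[X]) = 0 := by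
    have hb : aeval Q B = (C - 1) * Y - Y * aeval Q (Dd - 1) := by
      rw [map_sub, map_one, sub_mul, one_mul, mul_sub, mul_one, e4]; abel
    have hn0 : aeval Q (Dd - 1) * aeval Q (X * X : F[X]) = 0 := by rw [hev (mul_comm _ _), q3]
    rw [hb, Matrix.mul_sub, ← Matrix.mul_assoc _ (C - 1), xl, Matrix.zero_mul, zero_sub, Matrix.neg_mul,
      Matrix.mul_assoc, Matrix.mul_assoc Y, hn0, Matrix.mul_zero, Matrix.mul_zero, neg_zero]
  -- conjugating back
  set D : Matrix ρ ρ F := aeval Q (X * X * (X * X) : F[X]) with hD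
  have hb0 : aeval Q B * D = 0 := by
    rw [← q5, hev rfl, hev rfl, hev rfl]; congr 1; ring
  have hc0 : aeval Q Cc * D = 0 := by
    rw [hD, hev (show Cc * (X * X * (X * X)) = X * X * X * (X * Cc) by ring), map_mul, e1, mul_zero]
  have ha0 : aeval Q A * D = D := by
    rw [hD, hev (show A * (X * X * (X * X)) = X * X * (X * X * (A - 1)) + X * X * (X * X) by ring), map_add,
      map_mul, q4, mul_zero, zero_add]
  have hd0 : aeval Q Dd * D = D := by
    rw [hD, hev (show Dd * (X * X * (X * X)) = X * X * (X * X * (Dd - 1)) + X * X * (X * X) by ring), map_add,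
      map_mul, q3, mul_zero, zero_add]
  have hDc : ∀ p : F[X], aeval Q p * D = D * aeval Q p := fun p => by
    rw [hD, hev (mul_comm _ _), hev rfl]
  have s0 : oc C * io (ρ := ρ) u * D = io (ρ := ρ) u * D := by
    rw [oc_io, hR0, Matrix.add_mul, Matrix.mul_assoc, ha0, Matrix.mul_assoc, hc0, Matrix.mul_zero, add_zero]
  have s1 : oc C * (N * io (ρ := ρ) u) * D = N * io (ρ := ρ) u * D := by
    rw [hR1, Matrix.add_mul, Matrix.mul_assoc, hb0, Matrix.mul_zero, zero_add, Matrix.mul_assoc, hd0]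
  obtain ⟨Rg, -, hg0, -⟩ := exists_rep hφu hr e hba hg
  rw [← hNdef] at hg0
  have fixg : oc C * ((g : V F m ρ) * io (ρ := ρ) u * D) = (g : V F m ρ) * io (ρ := ρ) u * D := by
    have p0 : io (ρ := ρ) u * aeval Q (Rg 0 0) * D = io (ρ := ρ) u * D * aeval Q (Rg 0 0) := by
      rw [Matrix.mul_assoc, hDc, ← Matrix.mul_assoc]
    have p1 : N * io (ρ := ρ) u * aeval Q (Rg 1 0) * D = N * io (ρ := ρ) u * D * aeval Q (Rg 1 0) := by
      rw [Matrix.mul_assoc, hDc, ← Matrix.mul_assoc]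
    rw [hg0, Matrix.add_mul, p0, p1, Matrix.mul_add, ← Matrix.mul_assoc (oc C) (io u * D),
      ← Matrix.mul_assoc (oc C) (io u), s0, ← Matrix.mul_assoc (oc C) (N * io u * D),
      ← Matrix.mul_assoc (oc C) (N * io u), s1]
  have hfin : (t : V F m ρ) * io (ρ := ρ) u * D = io (ρ := ρ) u * D := by
    rw [← hsC] at fixg
    have := congrArg (((g⁻¹ : GL (Fin m × ρ) F) : V F m ρ) * ·) fixg
    simp only [← Matrix.mul_assoc, ← Units.val_mul, inv_mul_cancel, Units.val_one, Matrix.one_mul] at this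
    rwa [show g⁻¹ * (g * t * g⁻¹ * g) = t by group] at this
  refine hnil ⟨5, ?_⟩
  have : N * io (ρ := ρ) u * D = 0 := by
    rw [hNdef, Matrix.sub_mul, Matrix.one_mul, Matrix.sub_mul, hfin, sub_self]
  have := congrArg (pr (ρ := ρ) φ * ·) this
  simp only [k2, Matrix.mul_zero] at this
  rw [← this, hD, map_mul, map_mul, hX]
  simp only [pow_succ, pow_zero, one_mul, mul_assoc]

end Transfer

end Cfsg.Agent.H98.TensorWreath
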