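import Cfsg.Agent.H98.TensorWreath.Descend
import Mathlib.Algebra.Polynomial.SpecificDegree

/-!
The rank bound for an element of the slot stabiliser moving `(u, φ)`.
-/

set_option autoImplicit false
set_option linter.unusedSectionVars false
set_option linter.style.haveILetI false

namespace Cfsg.Agent.H98.TensorWreath

open Matrix Module Polynomial
open scoped Kronecker

variable {F : Type*} [Field F] {m : ℕ} {ρ : Type*} [Fintype ρ] [DecidableEq ρ]

/-- A functional separating `w` from the span of two vectors. -/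
theorem exists_sep_two {u e w : Fin m → F} (h : ∀ c d : F, w ≠ c • u + d • e) :
    ∃ ψ : Fin m → F, ψ ⬝ᵥ u = 0 ∧ ψ ⬝ᵥ e = 0 ∧ ψ ⬝ᵥ w = 1 := by
  have hw : w ∉ Submodule.span F {u, e} := fun hw => by
    obtain ⟨c, d, hcd⟩ := Submodule.mem_span_pair.1 hw
    exact h c d hcd.symm
  obtain ⟨f, hf, hle⟩ := Submodule.exists_le_ker_of_notMem hw
  have he : ∀ x, (dotProductEquiv F (Fin m)).symm f ⬝ᵥ x = f x := fun x => by
    conv_rhs => rw [← LinearEquiv.apply_symm_apply (dotProductEquiv F (Fin m)) f]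
    rw [dotProductEquiv_apply_apply]
  refine ⟨(f w)⁻¹ • (dotProductEquiv F (Fin m)).symm f, ?_, ?_, ?_⟩
  · rw [smul_dotProduct, he, show f u = 0 from hle (Submodule.subset_span (by simp)), smul_zero]
  · rw [smul_dotProduct, he, show f e = 0 from hle (Submodule.subset_span (by simp)), smul_zero]
  · rw [smul_dotProduct, he, smul_eq_mul, inv_mul_cancel₀ hf]

theorem exists_perp_three (hm : 4 ≤ m) (u e w : Fin m → F) :
    ∃ φ : Fin m → F, φ ≠ 0 ∧ φ ⬝ᵥ u = 0 ∧ φ ⬝ᵥ e = 0 ∧ φ ⬝ᵥ w = 0 := by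
  let f : (Fin m → F) →ₗ[F] F × F × F :=
    (dotProductBilin F F u).prod ((dotProductBilin F F e).prod (dotProductBilin F F w))
  have h := LinearMap.ker_ne_bot_of_finrank_lt (f := f)
    (by rw [Module.finrank_prod, Module.finrank_prod, Module.finrank_self, Module.finrank_fin_fun]; omega)
  obtain ⟨φ, hφ, hφ0⟩ := Submodule.exists_mem_ne_zero_of_ne_bot h
  refine ⟨φ, hφ0, ?_, ?_, ?_⟩
  · rw [dotProduct_comm]; exact congrArg Prod.fst hφ
  · rw [dotProduct_comm]; exact congrArg (fun p => p.2.1) hφ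
  · rw [dotProduct_comm]; exact congrArg (fun p => p.2.2) hφ

/-- A matrix with an irreducible quadratic killing it has even size. -/
theorem even_card_of_quadratic {B : Matrix ρ ρ F} {x y : F} (hx : x ≠ 0) (hB : x • (B * B) + y • B = 1)
    (heig : ∀ (Y : Matrix ρ ρ F) (l : F), B * Y = l • Y → Y = 0) (hne : ∀ c : F, B ≠ c • 1) :
    Even (Fintype.card ρ) := by
  set p : F[X] := C x * X ^ 2 + C y * X + C (-1) with hp
  have hdeg : p.natDegree = 2 := natDegree_quadratic hx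
  have hroot : ∀ l : F, ¬ p.IsRoot l := by
    intro l hl
    simp [hp] at hl
    refine hne (-(l + y / x)) (eq_of_sub_eq_zero ?_)
    rw [neg_smul, sub_neg_eq_add]
    refine heig _ l ?_
    have e1 : x * (l * l + (y / x) * l) = 1 := by field_simp; linear_combination hl
    have e2 : B * B + (y / x) • B = x⁻¹ • (1 : Matrix ρ ρ F) := by
      rw [← hB, smul_add, smul_smul, smul_smul, inv_mul_cancel₀ hx, one_smul, div_eq_inv_mul]
    rw [mul_add, mul_smul_comm, mul_one, smul_add, smul_smul, show l * (l + y / x) = x⁻¹ by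
      field_simp at e1 ⊢; linear_combination e1, ← e2, add_smul]
    abel
  have hirr : Irreducible p :=
    irreducible_of_degree_le_three_of_not_isRoot (by rw [hdeg]; decide) hroot
  haveI : Fact (Irreducible p) := ⟨hirr⟩
  have heval : aeval (Matrix.toLinAlgEquiv' B) p = 0 := by
    have : aeval B p = 0 := by
      simp only [hp, map_add, map_mul, map_pow, aeval_X, map_neg, aeval_C, Algebra.algebraMap_eq_smul_one,
        smul_mul_assoc, one_mul, map_one]
      rw [pow_two, hB]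
      abel
    change aeval (Matrix.toLinAlgEquiv'.toAlgHom B) p = 0
    rw [Polynomial.aeval_algHom_apply, this, map_zero]
  let ψ : AdjoinRoot p →ₐ[F] Module.End F (ρ → F) :=
    Ideal.Quotient.liftₐ (Ideal.span {p}) (aeval (Matrix.toLinAlgEquiv' B)) fun q hq => by
      obtain ⟨r, rfl⟩ := Ideal.mem_span_singleton'.1 hq
      rw [map_mul, heval, mul_zero]
  letI : Module (AdjoinRoot p) (ρ → F) := Module.compHom _ ψ.toRingHom
  haveI : IsScalarTower F (AdjoinRoot p) (ρ → F) :=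
    ⟨fun c k v => by
      change ψ (c • k) v = c • ψ k v
      rw [map_smul, LinearMap.smul_apply]⟩
  haveI : Module.Finite (AdjoinRoot p) (ρ → F) := Module.Finite.of_restrictScalars_finite F _ _
  refine ⟨finrank (AdjoinRoot p) (ρ → F), ?_⟩
  have := finrank_mul_finrank F (AdjoinRoot p) (ρ → F)
  rw [(AdjoinRoot.powerBasis hirr.ne_zero).finrank, AdjoinRoot.powerBasis_dim, hdeg, finrank_pi] at this
  omega

/-- The element `h = A ⊗ B` cannot move the functional. -/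
theorem stab_false [Nonempty ρ] (hm : 3 ≤ m) (hodd : m = 3 → Odd (Fintype.card ρ))
    {u φ ψ₀ : Fin m → F} (hu : u ≠ 0) (hφ : φ ≠ 0) (hφu : φ ⬝ᵥ u = 0) (hψu : ψ₀ ⬝ᵥ u = 0)
    (hind : ∀ c : F, ψ₀ ≠ c • φ) {a : Matrix (Fin m × ρ) ρ F}
    (hfix : ∀ χ : Fin m → F, χ ≠ 0 → χ ⬝ᵥ u = 0 → ∀ Y : Matrix ρ ρ F, pr (ρ := ρ) χ * a * Y = 0 →
      ∃ α, a * Y = io (ρ := ρ) u * α)
    {h : GL (Fin m × ρ) F} {A : Matrix (Fin m) (Fin m) F} {B : Matrix ρ ρ F} (hB : IsUnit B)
    (hAB : (h : V F m ρ) = A ⊗ₖ B) {c : F} (hAu : A *ᵥ u = c • u) (hψA : ψ₀ ᵥ* A = c • φ)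
    (himg : ∃ α β, (h : V F m ρ) - 1 = io u * α + a * β) : False := by
  obtain ⟨α, β, hform⟩ := himg
  have pureL : ∀ (w : Fin m → F) (Y α β : Matrix ρ ρ F), io w * Y = io (ρ := ρ) u * α + a * β →
      (∀ k : F, w ≠ k • u) → Y = 0 := by
    intro w Y α β e hw
    obtain ⟨χ, hχ, hχu, hχw⟩ := exists_perp_two hm u w
    have h1 := congrArg (pr (ρ := ρ) χ * ·) e
    simp only [Matrix.mul_add, pr_io_mul, hχu, hχw, zero_smul, zero_add, ← Matrix.mul_assoc (pr (ρ := ρ) χ) a] at h1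
    obtain ⟨α', hα'⟩ := hfix χ hχ hχu β h1.symm
    rw [hα', ← Matrix.mul_add] at e
    obtain ⟨ψ, hψu, hψw⟩ := exists_sep hw
    have h2 := congrArg (pr (ρ := ρ) ψ * ·) e
    simpa only [pr_io_mul, hψu, hψw, zero_smul, one_smul] using h2
  have img : ∀ f : Fin m → F, io (ρ := ρ) (A *ᵥ f) * B - io f = io u * (α * io f) + a * (β * io f) := fun f => by
    rw [← kron_mul_io, ← hAB, ← Matrix.mul_assoc, ← Matrix.mul_assoc, ← Matrix.add_mul, ← hform, Matrix.sub_mul,
      Matrix.one_mul]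
  have heig : ∀ (Y : Matrix ρ ρ F) (l : F), B * Y = l • Y → Y = 0 := by
    intro Y l hY
    by_contra hY0
    have key : ∀ f, ∃ k : F, l • (A *ᵥ f) - f = k • u := fun f => by
      by_contra hk
      push Not at hk
      refine hY0 (pureL _ Y (α * io f * Y) (β * io f * Y) ?_ hk)
      rw [io_sub, io_smul, Matrix.sub_mul, Matrix.smul_mul, ← Matrix.mul_smul, ← hY, ← Matrix.mul_assoc (io _) B,
        ← Matrix.sub_mul, img, Matrix.add_mul, Matrix.mul_assoc (io u), Matrix.mul_assoc a]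
    refine hind (l * c) ?_
    funext i
    obtain ⟨k, hk⟩ := key (Pi.single i 1)
    have e := congrArg (ψ₀ ⬝ᵥ ·) hk
    simp only [dotProduct_sub, dotProduct_smul, dotProduct_mulVec, hψA, hψu, smul_dotProduct, smul_zero,
      dotProduct_single, mul_one, smul_eq_mul, mul_zero, sub_eq_zero] at e
    rw [Pi.smul_apply, smul_eq_mul, ← e, Pi.smul_apply, smul_eq_mul]
    ring
  have hne : ∀ k : F, B ≠ k • 1 := fun k hk => one_ne_zero (heig 1 k (by rw [Matrix.mul_one]; exact hk))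
  obtain ⟨Bi, hBBi, hBiB⟩ : ∃ Bi, B * Bi = 1 ∧ Bi * B = 1 := by
    obtain ⟨Bu, rfl⟩ := hB
    exact ⟨_, Bu.mul_inv, Bu.inv_mul⟩
  obtain ⟨v, hv⟩ := exists_eq_one' hφ
  have hvu : ∀ k : F, v ≠ k • u := fun k hk => by
    rw [hk, dotProduct_smul, hφu, smul_zero] at hv
    exact zero_ne_one hv
  have hAv : ∀ k μ : F, A *ᵥ v ≠ k • u + μ • v := by
    intro k μ hk
    have e := img v
    rw [hk, io_add, io_smul, io_smul, Matrix.add_mul, Matrix.smul_mul, Matrix.smul_mul] at e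
    have h1 := pureL v (μ • B - 1) (α * io v - k • B) (β * io v) (by
      rw [Matrix.mul_sub, Matrix.mul_sub, Matrix.mul_smul, Matrix.mul_smul, Matrix.mul_one]
      linear_combination (norm := abel) e) hvu
    rcases eq_or_ne μ 0 with rfl | hμ
    · rw [zero_smul, zero_sub, neg_eq_zero] at h1; exact one_ne_zero h1
    · exact hne μ⁻¹ (by rw [← sub_eq_zero.1 h1, smul_smul, inv_mul_cancel₀ hμ, one_smul])
  obtain ⟨ψ₂, hψ₂u, hψ₂v, hψ₂A⟩ := exists_sep_two hAv
  have hβ : B = pr (ρ := ρ) ψ₂ * a * (β * io v) := by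
    have := congrArg (pr (ρ := ρ) ψ₂ * ·) (img v)
    simpa only [Matrix.mul_sub, Matrix.mul_add, pr_io_mul, pr_mul_io, hψ₂u, hψ₂v, hψ₂A, zero_smul, one_smul,
      sub_zero, zero_add, ← Matrix.mul_assoc (pr (ρ := ρ) ψ₂) a] using this
  set βv := β * io (ρ := ρ) v with hβv
  obtain ⟨βi, hβi⟩ : ∃ βi, βv * βi = 1 := ⟨Bi * (pr (ρ := ρ) ψ₂ * a), by
    rw [mul_eq_one_comm, Matrix.mul_assoc Bi, ← hβ, hBiB]⟩
  rcases Nat.lt_or_ge m 4 with hm4 | hm4
  · have hm3 : m = 3 := by omega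
    obtain ⟨ψ₁, hψ₁u, hψ₁A, hψ₁v⟩ := exists_sep_two (u := u) (e := A *ᵥ v) (w := v) fun k μ hk => by
      rcases eq_or_ne μ 0 with rfl | hμ
      · exact hvu k (by rw [hk, zero_smul, add_zero])
      · refine hAv (-(μ⁻¹ * k)) μ⁻¹ ?_
        nth_rw 2 [hk]
        rw [smul_add, smul_smul, smul_smul, inv_mul_cancel₀ hμ, one_smul, neg_smul]
        abel
    have e1 : -(1 : Matrix ρ ρ F) = pr (ρ := ρ) ψ₁ * a * βv := by
      have := congrArg (pr (ρ := ρ) ψ₁ * ·) (img v)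
      simpa only [Matrix.mul_sub, Matrix.mul_add, pr_io_mul, pr_mul_io, hψ₁u, hψ₁v, hψ₁A, zero_smul, one_smul,
        zero_sub, zero_add, ← Matrix.mul_assoc (pr (ρ := ρ) ψ₁) a] using this
    have rel : pr (ρ := ρ) ψ₂ * a = -(B * (pr (ρ := ρ) ψ₁ * a)) := by
      have h1 : pr (ρ := ρ) ψ₁ * a = -βi := by
        rw [← Matrix.mul_one (pr (ρ := ρ) ψ₁ * a), ← hβi, ← Matrix.mul_assoc, ← e1, Matrix.neg_mul, Matrix.one_mul]
      rw [← Matrix.mul_one (pr (ρ := ρ) ψ₂ * a), ← hβi, ← Matrix.mul_assoc, ← hβ, h1, Matrix.mul_neg, neg_neg]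
    set x := ψ₁ ⬝ᵥ A *ᵥ (A *ᵥ v)
    set y := ψ₂ ⬝ᵥ A *ᵥ (A *ᵥ v)
    set γ := β * io (ρ := ρ) (A *ᵥ v) with hγ
    have e2 : x • B = pr (ρ := ρ) ψ₁ * a * γ := by
      have := congrArg (pr (ρ := ρ) ψ₁ * ·) (img (A *ᵥ v))
      simpa only [Matrix.mul_sub, Matrix.mul_add, pr_io_mul, pr_mul_io, hψ₁u, hψ₁A, zero_smul,
        sub_zero, zero_add, ← Matrix.mul_assoc (pr (ρ := ρ) ψ₁) a] using this
    have e3 : y • B - 1 = pr (ρ := ρ) ψ₂ * a * γ := by
      have := congrArg (pr (ρ := ρ) ψ₂ * ·) (img (A *ᵥ v))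
      simpa only [Matrix.mul_sub, Matrix.mul_add, pr_io_mul, pr_mul_io, hψ₂u, hψ₂A, zero_smul, one_smul,
        zero_add, ← Matrix.mul_assoc (pr (ρ := ρ) ψ₂) a] using this
    rw [rel, Matrix.neg_mul, Matrix.mul_assoc B, ← e2, Matrix.mul_smul] at e3
    have hquad : x • (B * B) + y • B = 1 := by linear_combination (norm := abel) e3
    have hx : x ≠ 0 := fun hx => by
      rw [hx, zero_smul, zero_add] at hquad
      rcases eq_or_ne y 0 with hy | hy
      · rw [hy, zero_smul] at hquad; exact zero_ne_one hquad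
      · exact hne y⁻¹ (by rw [← hquad, smul_smul, inv_mul_cancel₀ hy, one_smul])
    exact Nat.not_even_iff_odd.2 (hodd hm3) (even_card_of_quadratic hx hquad heig hne)
  · obtain ⟨ψ, hψ0, hψu', hψv, hψA'⟩ := exists_perp_three hm4 u v (A *ᵥ v)
    have h1 : pr (ρ := ρ) ψ * a = 0 := by
      have := congrArg (pr (ρ := ρ) ψ * ·) (img v)
      simp only [Matrix.mul_sub, Matrix.mul_add, pr_io_mul, pr_mul_io, hψu', hψv, hψA', zero_smul,
        sub_zero, zero_add, ← Matrix.mul_assoc (pr (ρ := ρ) ψ) a, ← hβv] at this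
      rw [← Matrix.mul_one (pr (ρ := ρ) ψ * a), ← hβi, ← Matrix.mul_assoc, ← this, Matrix.zero_mul]
    obtain ⟨f, hf⟩ := exists_eq_one' hψ0
    have := congrArg (pr (ρ := ρ) ψ * ·) (img f)
    simp only [Matrix.mul_sub, Matrix.mul_add, pr_io_mul, pr_mul_io, hψu', hf, zero_smul, one_smul, zero_add,
      ← Matrix.mul_assoc (pr (ρ := ρ) ψ) a, h1, Matrix.zero_mul, sub_eq_zero] at this
    rcases eq_or_ne (ψ ⬝ᵥ A *ᵥ f) 0 with hz | hz
    · rw [hz, zero_smul] at this; exact zero_ne_one this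
    · exact hne _ (by rw [← this, smul_smul, inv_mul_cancel₀ hz, one_smul])

end Cfsg.Agent.H98.TensorWreath
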