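import Cfsg.Agent.H98.TensorWreath.Classify

/-!
A conjugate of a root carrying a root of the slot to the other factor: the slot algebra goes there whole.
-/

set_option autoImplicit false
set_option linter.unusedSectionVars false

namespace Cfsg.Agent.H98.TensorWreath

open Matrix
open scoped Kronecker

variable {F : Type*} [Field F] {m : ℕ} {ρ : Type*} [Fintype ρ] [DecidableEq ρ]
variable {M : Subgroup (GL (Fin m × ρ) F)}

/-- A matrix of the slot. -/
def sl (A : Matrix (Fin m) (Fin m) F) : V F m ρ := A ⊗ₖ (1 : Matrix ρ ρ F)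

/-- A matrix of the other factor. -/
def oc (X : Matrix ρ ρ F) : V F m ρ := (1 : Matrix (Fin m) (Fin m) F) ⊗ₖ X

theorem sl_mul (A A' : Matrix (Fin m) (Fin m) F) : (sl A * sl A' : V F m ρ) = sl (A * A') := by
  rw [sl, sl, sl, ← mul_kronecker_mul, Matrix.one_mul]

theorem oc_mul (X Y : Matrix ρ ρ F) : (oc X * oc Y : V F m ρ) = oc (X * Y) := by
  rw [oc, oc, oc, ← mul_kronecker_mul, Matrix.one_mul]

theorem sl_mul_oc (A : Matrix (Fin m) (Fin m) F) (X : Matrix ρ ρ F) : sl A * oc X = oc X * (sl A : V F m ρ) := by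
  simp only [sl, oc, ← mul_kronecker_mul, Matrix.one_mul, Matrix.mul_one]

theorem pr_oc (φ : Fin m → F) (X : Matrix ρ ρ F) : pr φ * oc X = X * pr (ρ := ρ) φ := by
  rw [oc, pr_mul_kron, vecMul_one]

theorem oc_io (u : Fin m → F) (X : Matrix ρ ρ F) : oc X * io u = io (ρ := ρ) u * X := by
  rw [oc, kron_mul_io, one_mulVec]

theorem root_eq_sl (u φ : Fin m → F) : (io u * pr φ : V F m ρ) = sl (vecMulVec u φ) := io_mul_pr u φ

theorem single_eq_root (a b : Fin m) :
    sl (ρ := ρ) (Matrix.single a b (1 : F)) = io (Pi.single a (1 : F)) * pr (Pi.single b (1 : F)) := by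
  rw [root_eq_sl]
  congr 1
  ext i j
  simp [vecMulVec_apply, Matrix.single_apply, Pi.single_apply]
  split_ifs <;> simp_all

theorem pr_single_io_single (a b : Fin m) :
    pr (Pi.single a (1 : F)) * io (Pi.single b (1 : F)) = if a = b then (1 : Matrix ρ ρ F) else 0 := by
  rw [pr_mul_io, single_dotProduct, one_mul, Pi.single_apply]
  split_ifs <;> simp

/-- A root of the slot does not act on the other factor only. -/
theorem root_ne_oc [Nonempty ρ] (hm : 2 ≤ m) {u φ : Fin m → F} (hu : u ≠ 0) (hφ : φ ≠ 0) (h0 : φ ⬝ᵥ u = 0)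
    (X : Matrix ρ ρ F) : (io u * pr φ : V F m ρ) ≠ oc X := by
  intro h
  obtain ⟨v, hv⟩ := exists_eq_one' hφ
  have h1 := congrArg (· * io (ρ := ρ) v) h
  simp only [Matrix.mul_assoc, pr_mul_io, hv, one_smul, Matrix.mul_one, oc_io] at h1
  obtain ⟨ψ, hψu, hψv⟩ := exists_sep (u := u) (w := v) fun c hc => by
    rw [hc, dotProduct_smul, h0, smul_zero] at hv
    exact zero_ne_one hv
  have h2 := congrArg (pr (ρ := ρ) ψ * ·) h1
  simp only [pr_mul_io, pr_io_mul, hψu, hψv, zero_smul, one_smul] at h2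
  rw [← h2, Matrix.mul_zero] at h1
  exact hu (eq_zero_of_io h1)

theorem oc_sub_one (C : Matrix ρ ρ F) : oc (C - 1) = oc C - (1 : V F m ρ) := by
  ext ⟨a, r⟩ ⟨b, s⟩
  simp [oc, Matrix.one_apply]
  split_ifs <;> simp_all

/-- The elements of the slot algebra go to the other factor. -/
theorem exists_oc [Nonempty ρ] (hM : Over M) (hS : Small M) (hm : 3 ≤ m) {g : GL (Fin m × ρ) F} (hg : g ∈ M)
    {u φ : Fin m → F} (hu : u ≠ 0) (hφ : φ ≠ 0) (h0 : φ ⬝ᵥ u = 0) {X : Matrix ρ ρ F}
    (hX : (g : V F m ρ) * (io u * pr φ) = oc X * (g : V F m ρ)) :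
    ∀ a b : Fin m, ∃ Y : Matrix ρ ρ F,
      ((g⁻¹ : GL (Fin m × ρ) F) : V F m ρ) * sl (Matrix.single a b (1 : F)) * (g : V F m ρ) = oc Y := by
  set g' : V F m ρ := ((g⁻¹ : GL (Fin m × ρ) F) : V F m ρ) with hg'
  have hgg : g' * (g : V F m ρ) = 1 := Units.inv_mul g
  have hgg' : (g : V F m ρ) * g' = 1 := Units.mul_inv g
  have hN : g' * oc X = io u * pr φ * g' := by
    calc g' * oc X = g' * (oc X * (g : V F m ρ)) * g' := by
          rw [Matrix.mul_assoc, Matrix.mul_assoc, hgg', Matrix.mul_one]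
      _ = io u * pr φ * g' := by rw [← hX, ← Matrix.mul_assoc, hgg, Matrix.one_mul]
  have roots : ∀ w ξ : Fin m → F, w ≠ 0 → ξ ≠ 0 → ξ ⬝ᵥ w = 0 →
      ∃ Y : Matrix ρ ρ F, g' * (io w * pr ξ) * (g : V F m ρ) = oc Y := by
    intro w ξ hw hξ hwξ
    obtain ⟨-, r, hr, er⟩ := hM w ξ hwξ
    set s := g⁻¹ * r * g with hs
    have hsM : s ∈ M := M.mul_mem (M.mul_mem (M.inv_mem hg) hr) hg
    have hsc : Conj M s := ⟨g⁻¹, M.inv_mem hg, w, ξ, hw, hξ, hwξ, by
      rw [inv_inv, hs, Units.val_mul, Units.val_mul, er]⟩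
    have es : (s : V F m ρ) = 1 + g' * (io w * pr ξ) * (g : V F m ρ) := by
      rw [hs, Units.val_mul, Units.val_mul, er, ← hg', mul_add, mul_one, add_mul, hgg]
    have hcomm : g' * (io w * pr ξ) * (g : V F m ρ) * (io u * pr φ) =
        io u * pr φ * (g' * (io w * pr ξ) * (g : V F m ρ)) := by
      calc g' * (io w * pr ξ) * (g : V F m ρ) * (io u * pr φ)
          = g' * ((io w * pr ξ) * oc X) * (g : V F m ρ) := by
            rw [Matrix.mul_assoc, hX]; simp only [Matrix.mul_assoc]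
        _ = g' * oc X * ((io w * pr ξ) * (g : V F m ρ)) := by
            rw [root_eq_sl w ξ, sl_mul_oc]; simp only [Matrix.mul_assoc]
        _ = _ := by rw [hN]; simp only [Matrix.mul_assoc]
    have hweak : Weak s := weak_of_conj hM hS hm hsM hu hφ hu (φ' := φ) (by
      rw [es, add_mul, one_mul, mul_add (io u * pr φ), mul_one, hcomm])
    rcases classify hm hsc hweak with ⟨w', ξ', hw', -, -, e'⟩ | ⟨C, e'⟩
    · exfalso
      have hgw : Weak g⁻¹ := weak_of_conj hM hS hm (M.inv_mem hg) hw hξ hw' (φ' := ξ') (by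
        rw [es] at e'
        rw [← add_left_cancel e', ← hg', Matrix.mul_assoc (g' * (io w * pr ξ)), hgg', Matrix.mul_one])
      obtain ⟨A, B, hB, eAB⟩ := hgw
      rw [← hg'] at eAB
      obtain ⟨k, l, hkl⟩ : ∃ k l, A k l ≠ 0 := by
        by_contra hA
        push Not at hA
        rw [show A = 0 from Matrix.ext hA, zero_kronecker] at eAB
        rw [eAB, Matrix.zero_mul] at hgg
        have : Nonempty (Fin m) := ⟨⟨0, by omega⟩⟩
        exact zero_ne_one hgg
      have h1 := congrArg (fun Z => pr (ρ := ρ) (Pi.single k (1 : F)) * Z * io (ρ := ρ) (Pi.single l (1 : F))) hN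
      simp only [eAB, oc, io_mul_pr, ← mul_kronecker_mul, Matrix.mul_one, Matrix.one_mul, block_kron] at h1
      obtain ⟨Bu, rfl⟩ := hB
      have hXc : X = ((A k l)⁻¹ * (vecMulVec u φ * A) k l) • (1 : Matrix ρ ρ F) := by
        have h2 := congrArg (fun Z => (A k l)⁻¹ • ((↑Bu⁻¹ : Matrix ρ ρ F) * Z)) h1
        simp only [Matrix.mul_smul, ← Matrix.mul_assoc, Units.inv_mul, Matrix.one_mul, smul_smul,
          inv_mul_cancel₀ hkl, one_smul] at h2
        exact h2
      refine root_ne_oc (by omega) hu hφ h0 X ?_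
      calc (io u * pr φ : V F m ρ) = g' * ((g : V F m ρ) * (io u * pr φ)) := by
            rw [← Matrix.mul_assoc g', hgg, Matrix.one_mul]
        _ = oc X := by
            rw [hX, hXc, oc, kronecker_smul, one_kronecker_one, Matrix.smul_mul, Matrix.one_mul, Matrix.mul_smul,
              hgg]
    · refine ⟨C - 1, ?_⟩
      rw [oc_sub_one, oc, ← e', es, add_sub_cancel_left]
  intro a b
  rcases eq_or_ne a b with rfl | hab
  · have : Nontrivial (Fin m) := Fin.nontrivial_iff_two_le.2 (by omega)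
    obtain ⟨c, hc⟩ := exists_ne a
    obtain ⟨Y, hY⟩ := roots (Pi.single a (1 : F)) (Pi.single c (1 : F)) (by simp) (by simp) (by simp [hc])
    obtain ⟨Y', hY'⟩ := roots (Pi.single c (1 : F)) (Pi.single a (1 : F)) (by simp) (by simp) (by simp [hc.symm])
    refine ⟨Y * Y', ?_⟩
    rw [← oc_mul, ← hY, ← hY', ← single_eq_root, ← single_eq_root]
    calc g' * sl (Matrix.single a a (1 : F)) * (g : V F m ρ)
        = g' * (sl (Matrix.single a c (1 : F)) * sl (Matrix.single c a (1 : F))) * (g : V F m ρ) := by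
          rw [sl_mul, single_mul_single_same, one_mul]
      _ = g' * sl (Matrix.single a c (1 : F)) * ((g : V F m ρ) * g') * sl (Matrix.single c a (1 : F)) *
          (g : V F m ρ) := by rw [hgg', Matrix.mul_one]; simp only [Matrix.mul_assoc]
      _ = _ := by simp only [Matrix.mul_assoc]
  · rw [single_eq_root]
    exact roots _ _ (by simp) (by simp) (by simp [hab])

end Cfsg.Agent.H98.TensorWreath
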