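import Cfsg.Agent.H98.TensorWreath.SwapUnits

/-!
An exchanging involution of rank at most `|ρ|` forces dimension three and is a plain exchange.
-/

set_option autoImplicit false
set_option linter.unusedSectionVars false

namespace Cfsg.Agent.H98.TensorWreath

open Matrix Module
open scoped Kronecker

variable {F : Type*} [Field F] {m : ℕ} {ρ : Type*} [Fintype ρ] [DecidableEq ρ]

theorem card_pairs {m : ℕ} (hm : 4 ≤ m) : m < Fintype.card {p : Fin m × Fin m // p.1 < p.2} := by
  let F₁ : Fin m ⊕ Unit → {p : Fin m × Fin m // p.1 < p.2} := Sum.elim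
    (fun i => if h0 : (i : ℕ) = 0 then ⟨(⟨2, by omega⟩, ⟨3, by omega⟩), by show (2 : ℕ) < 3; omega⟩
      else ⟨(⟨0, by omega⟩, i), by show (0 : ℕ) < i.1; omega⟩)
    (fun _ => ⟨(⟨1, by omega⟩, ⟨2, by omega⟩), by show (1 : ℕ) < 2; omega⟩)
  have hF₁ : Function.Injective F₁ := by
    rintro (i | _) (j | _) h <;> simp only [F₁, Sum.elim_inl, Sum.elim_inr] at h <;>
      (try split_ifs at h) <;> simp [Subtype.ext_iff, Prod.ext_iff, Fin.ext_iff] at h ⊢ <;> omega
  have := Fintype.card_le_of_injective F₁ hF₁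
  simp at this; omega

theorem card_pairs_three : Fintype.card {p : Fin 3 × Fin 3 // p.1 < p.2} = 3 := by decide

namespace Exch

variable {G : V F m ρ} {f : Fin m → Fin m → Matrix ρ ρ F} [NeZero m]

theorem coord_pair (E : Exch G f) (a b c d : Fin m) :
    coord f c d * ((G - 1) * (io (ρ := ρ) (Pi.single a (1 : F)) * f b 0)) =
      (if d = a then (if c = b then theta G else 0) else 0) - (if c = a then (if d = b then f 0 0 else 0) else 0) := by
  rw [← Matrix.mul_assoc, E.coord_sub_one, Matrix.sub_mul, Matrix.mul_assoc (theta G), coord_io, coord_io, E.mul,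
    E.mul]
  congr 1
  split_ifs <;> simp [E.theta_f]

theorem f_ne_zero [Nonempty ρ] (E : Exch G f) : f 0 0 ≠ 0 := by
  intro h
  have hall : ∀ a, f a a = 0 := fun a => by
    have := E.mul a 0 0 a
    rw [if_pos rfl] at this
    rw [← this, show f a 0 = f a 0 * f 0 0 by rw [E.mul, if_pos rfl], h, Matrix.mul_zero, Matrix.zero_mul]
  have := E.sum
  simp only [hall, Finset.sum_const_zero] at this
  exact zero_ne_one this

theorem theta_eq [Nonempty ρ] (E : Exch G f) (hm : 3 ≤ m) {A₀ : Matrix (Fin m × ρ) ρ F}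
    {B₀ : Matrix ρ (Fin m × ρ) F} (hN : G - 1 = A₀ * B₀) : m = 3 ∧ theta G = f 0 0 := by
  classical
  set Z : Submodule F (ρ → F) := LinearMap.range (f 0 0).mulVecLin with hZ
  have hfZ : ∀ z : Z, f 0 0 *ᵥ (z : ρ → F) = z := fun z => by
    obtain ⟨r, hr⟩ := z.2
    rw [← hr, mulVecLin_apply, mulVec_mulVec, E.mul, if_pos rfl]
  have memZ : ∀ a (r : ρ → F), f 0 a *ᵥ r ∈ Z := fun a r =>
    ⟨f 0 a *ᵥ r, by rw [mulVecLin_apply, mulVec_mulVec, E.mul, if_pos rfl]⟩
  let e : (ρ → F) ≃ₗ[F] (Fin m → Z) :=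
    { toFun := fun r a => ⟨f 0 a *ᵥ r, memZ a r⟩
      map_add' := fun r s => funext fun a => Subtype.ext (mulVec_add _ _ _)
      map_smul' := fun c r => funext fun a => Subtype.ext (mulVec_smul _ _ _)
      invFun := fun z => ∑ a, f a 0 *ᵥ (z a : ρ → F)
      left_inv := fun r => by
        simp only [mulVec_mulVec, E.mul, if_pos]
        rw [← Matrix.sum_mulVec, E.sum, one_mulVec]
      right_inv := fun z => funext fun a => Subtype.ext (by
        simp only [Matrix.mulVec_sum, mulVec_mulVec, E.mul]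
        rw [Finset.sum_eq_single a (fun c _ hc => by rw [if_neg hc.symm, zero_mulVec]) (by simp), if_pos rfl, hfZ]) }
  have hcard : Fintype.card ρ = m * finrank F Z := by
    have := e.finrank_eq
    rwa [finrank_pi, finrank_pi_fintype, Finset.sum_const, Finset.card_univ, Fintype.card_fin, smul_eq_mul] at this
  have hzpos : 0 < finrank F Z := by
    have := Fintype.card_pos (α := ρ)
    rw [hcard] at this
    exact Nat.pos_of_mul_pos_left this
  let inj : Fin m → Fin m → Z →ₗ[F] (Fin m × ρ → F) := fun a b =>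
    ((G - 1) * (io (ρ := ρ) (Pi.single a (1 : F)) * f b 0)).mulVecLin ∘ₗ Z.subtype
  have hinj : ∀ a b c d (z : Z), coord f c d *ᵥ inj a b z =
      (if d = a then (if c = b then theta G *ᵥ (z : ρ → F) else 0) else 0) -
        (if c = a then (if d = b then (z : ρ → F) else 0) else 0) := fun a b c d z => by
    simp only [inj, LinearMap.comp_apply, Submodule.subtype_apply, mulVecLin_apply, mulVec_mulVec, E.coord_pair,
      Matrix.sub_mulVec]
    congr 1 <;> split_ifs <;> simp [hfZ]
  have hmem : ∀ a b z, inj a b z ∈ LinearMap.range A₀.mulVecLin := fun a b z =>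
    ⟨B₀ *ᵥ ((io (ρ := ρ) (Pi.single a (1 : F)) * f b 0) *ᵥ (z : ρ → F)), by
      simp [inj, hN, mulVec_mulVec, Matrix.mul_assoc]⟩
  let Φ : ({p : Fin m × Fin m // p.1 < p.2} → Z) →ₗ[F] LinearMap.range A₀.mulVecLin := LinearMap.codRestrict _
    (∑ p : {p : Fin m × Fin m // p.1 < p.2}, inj p.1.1 p.1.2 ∘ₗ LinearMap.proj p) fun v => by
      simp only [LinearMap.sum_apply, LinearMap.comp_apply]
      exact Submodule.sum_mem _ fun p _ => hmem _ _ _
  have hΦ : ∀ v (p : {p : Fin m × Fin m // p.1 < p.2}),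
      coord f p.1.1 p.1.2 *ᵥ (Φ v : Fin m × ρ → F) = -(v p : ρ → F) := fun v p => by
    simp only [Φ, LinearMap.codRestrict_apply, LinearMap.sum_apply, LinearMap.comp_apply, LinearMap.proj_apply,
      Matrix.mulVec_sum, hinj]
    rw [Finset.sum_eq_single p]
    · rw [if_neg p.2.ne', if_pos rfl, if_pos rfl, zero_sub]
    · intro q _ hq
      have hd : ¬ (p.1.2 = q.1.1 ∧ p.1.1 = q.1.2) := fun h => by
        have := q.2; rw [← h.1, ← h.2] at this; exact lt_asymm this p.2
      have hd' : ¬ (p.1.1 = q.1.1 ∧ p.1.2 = q.1.2) := fun h => hq (Subtype.ext (Prod.ext h.1.symm h.2.symm))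
      split_ifs <;> simp_all
    · simp
  have hΦinj : Function.Injective Φ := (injective_iff_map_eq_zero Φ).2 fun v hv => funext fun p => Subtype.ext (by
    have := hΦ v p
    rw [hv] at this
    simpa using this.symm)
  have hrange : finrank F (LinearMap.range A₀.mulVecLin) ≤ Fintype.card ρ :=
    (LinearMap.finrank_range_le _).trans (finrank_pi F).le
  have hdom : finrank F ({p : Fin m × Fin m // p.1 < p.2} → Z) =
      Fintype.card {p : Fin m × Fin m // p.1 < p.2} * finrank F Z := by
    rw [finrank_pi_fintype, Finset.sum_const, Finset.card_univ, smul_eq_mul]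
  have hle := (LinearMap.finrank_le_finrank_of_injective hΦinj).trans hrange
  rw [hdom, hcard] at hle
  have hm3 : m = 3 := by
    by_contra hne
    have h5 := card_pairs (show 4 ≤ m by omega)
    have := Nat.le_of_mul_le_mul_right hle hzpos
    omega
  refine ⟨hm3, ?_⟩
  have hsurj : Function.Surjective Φ := by
    rw [← LinearMap.range_eq_top]
    refine Submodule.eq_top_of_finrank_eq ?_
    have h := LinearMap.finrank_range_of_inj hΦinj
    have h' := Submodule.finrank_le (LinearMap.range Φ)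
    have hP : Fintype.card {p : Fin m × Fin m // p.1 < p.2} = m := by subst hm3; exact card_pairs_three
    rw [h, hdom, hP] at h' ⊢
    omega
  have hθz : ∀ z : Z, theta G *ᵥ (z : ρ → F) = z := fun z => by
    obtain ⟨v, hv⟩ := hsurj ⟨inj 0 0 z, hmem _ _ _⟩
    have hv0 : v = 0 := funext fun p => Subtype.ext (by
      have h := hΦ v p
      rw [hv] at h
      change coord f p.1.1 p.1.2 *ᵥ inj 0 0 z = _ at h
      rw [hinj] at h
      have hp : p.1.1 ≠ p.1.2 := p.2.ne
      split_ifs at h <;> simp_all)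
    rw [hv0, map_zero] at hv
    have h := congrArg (fun y : LinearMap.range A₀.mulVecLin => coord f (0 : Fin m) 0 *ᵥ (y : Fin m × ρ → F)) hv
    simp only [ZeroMemClass.coe_zero, mulVec_zero, hinj, if_pos] at h
    exact sub_eq_zero.1 h.symm
  refine Matrix.ext_of_mulVec_single fun r => ?_
  rw [← E.theta_f, ← mulVec_mulVec]
  exact hθz ⟨_, memZ 0 _⟩

end Exch

end Cfsg.Agent.H98.TensorWreath
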