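import Cfsg.Agent.H98.TensorWreath.Flag

/-!
Commutators of depth three in the centraliser of a conjugate of a root, in dimension three.
-/

set_option autoImplicit false
set_option linter.unusedSectionVars false

namespace Cfsg.Agent.H98.TensorWreath

open Matrix Module
open scoped Kronecker

variable {F : Type*} [Field F] {m : ℕ} {ρ : Type*} [Fintype ρ] [DecidableEq ρ]
variable {M : Subgroup (GL (Fin m × ρ) F)}

theorem commutator_mul {G : Type*} [Group G] {a a' b b' : G} (h₁ : Commute a' b) (h₂ : Commute a b')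
    (h₃ : Commute a a') (h₄ : Commute b b') :
    (a * b * a⁻¹ * b⁻¹) * (a' * b' * a'⁻¹ * b'⁻¹) * ((b * b') * (a * a')) = (a * a') * (b * b') := by
  have e1 : Commute (a' * b' * a'⁻¹ * b'⁻¹) (b * a) :=
    (((h₁.mul_left h₄.symm).mul_left h₁.inv_left).mul_left h₄.symm.inv_left).mul_right
      (((h₃.symm.mul_left h₂.symm).mul_left h₃.symm.inv_left).mul_left h₂.symm.inv_left)
  calc (a * b * a⁻¹ * b⁻¹) * (a' * b' * a'⁻¹ * b'⁻¹) * ((b * b') * (a * a'))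
      = (a * b * a⁻¹ * b⁻¹) * (a' * b' * a'⁻¹ * b'⁻¹) * ((b * a) * (b' * a')) := by
        rw [mul_assoc b b', ← mul_assoc b' a, ← h₂.eq, mul_assoc a b', ← mul_assoc b a]
    _ = (a * b * a⁻¹ * b⁻¹) * ((b * a) * ((a' * b' * a'⁻¹ * b'⁻¹) * (b' * a'))) := by
        rw [mul_assoc _ (a' * b' * a'⁻¹ * b'⁻¹), ← mul_assoc (a' * b' * a'⁻¹ * b'⁻¹), e1.eq, mul_assoc (b * a)]
    _ = (a * b) * (a' * b') := by group
    _ = (a * a') * (b * b') := by rw [mul_assoc a b, ← mul_assoc b a', ← h₁.eq, mul_assoc a' b, ← mul_assoc a a']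

/-- Three levels of commutators. -/
theorem exists_third [Nonempty ρ] {M : Subgroup (GL (Fin 3 × ρ) F)} (hM : Over M) (hS : Small M)
    {g k : GL (Fin 3 × ρ) F} (hk : k ∈ M) {w ξ : Fin 3 → F} (hw : w ≠ 0) (hξ : ξ ≠ 0) (hξw : ξ ⬝ᵥ w = 0)
    (eg : (g : V F 3 ρ) = (k : V F 3 ρ) * (1 + io w * pr ξ) * ((k⁻¹ : GL (Fin 3 × ρ) F) : V F 3 ρ))
    (y : Fin 3 → Fin 3 → GL (Fin 3 × ρ) F) (hy : ∀ a b, a ≠ b → y a b ∈ M ∧ y a b * g = g * y a b)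
    (hrec : ∀ a b c, a ≠ b → a ≠ c → c ≠ b → y a b * (y c b * y a c) = y a c * y c b) :
    ∀ a b, a ≠ b → ∃ B : Matrix ρ ρ F, ((k⁻¹ * y a b * k : GL (Fin 3 × ρ) F) : V F 3 ρ) = oc B := by
  have hm : (3 : ℕ) ≤ 3 := le_rfl
  set k' : V F 3 ρ := ((k⁻¹ : GL (Fin 3 × ρ) F) : V F 3 ρ) with hk'
  obtain ⟨x, hx⟩ := exists_eq_one' hξ
  obtain ⟨v, hv, hξv⟩ : ∃ v : Fin 3 → F, (∀ c : F, v ≠ c • w) ∧ ξ ⬝ᵥ v = 0 := by
    obtain ⟨ψ, hψ⟩ := exists_eq_one hw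
    obtain ⟨v, hv0, hv1, hv2⟩ := exists_perp_two' hm ξ ψ
    refine ⟨v, fun c hc => hv0 ?_, hv1⟩
    rw [hc, dotProduct_smul, hψ, smul_eq_mul, mul_one] at hv2
    rw [hc, hv2, zero_smul]
  obtain ⟨P₁, P₂, s1, s2, s3⟩ := slot_trivial hξw hξv hx hw hv
  -- the rule of commutators
  have hcomm : ∀ a b c, a ≠ b → a ≠ c → c ≠ b →
      (k⁻¹ * y a b * k) * ((k⁻¹ * y c b * k) * (k⁻¹ * y a c * k)) = (k⁻¹ * y a c * k) * (k⁻¹ * y c b * k) := by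
    intro a b c h1 h2 h3
    calc _ = k⁻¹ * (y a b * (y c b * y a c)) * k := by group
      _ = _ := by rw [hrec a b c h1 h2 h3]; group
  -- the stabiliser of the root
  have h0 : ∀ a b, a ≠ b → ∃ (A : Matrix (Fin 3) (Fin 3) F) (B : Matrix ρ ρ F), IsUnit B ∧
      ((k⁻¹ * y a b * k : GL (Fin 3 × ρ) F) : V F 3 ρ) = A ⊗ₖ B ∧
      (∃ c : F, c ≠ 0 ∧ A *ᵥ w = c • w ∧ ξ ᵥ* A = c • ξ ∧ A *ᵥ v ≠ 0) ∧ ∀ p, A *ᵥ p = 0 → p = 0 := by
    intro a b hab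
    obtain ⟨hyM, hyg⟩ := hy a b hab
    set z := k⁻¹ * y a b * k with hz
    have hzN : (z : V F 3 ρ) * (io w * pr ξ) = io w * pr ξ * (z : V F 3 ρ) := by
      have e : k' * (g : V F 3 ρ) * (k : V F 3 ρ) = 1 + io w * pr ξ := by
        simp only [eg, hk', ← Matrix.mul_assoc, Units.inv_mul, Matrix.one_mul]
        rw [Matrix.mul_assoc, Units.inv_mul, Matrix.mul_one]
      have h2 : z * (k⁻¹ * g * k) = (k⁻¹ * g * k) * z := by
        calc z * (k⁻¹ * g * k) = k⁻¹ * (y a b * g) * k := by rw [hz]; group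
          _ = _ := by rw [hyg, hz]; group
      have h3 := congrArg (fun z : GL (Fin 3 × ρ) F => (z : V F 3 ρ)) h2
      simp only [Units.val_mul, ← hk', e] at h3
      rw [mul_add, mul_one, add_mul, one_mul] at h3
      exact add_left_cancel h3
    obtain ⟨A, B, hB, eAB⟩ := weak_of_conj hM hS hm (M.mul_mem (M.mul_mem (M.inv_mem hk) hyM) hk) hw hξ hw hzN
    have hinj : ∀ p, A *ᵥ p = 0 → p = 0 := fun p hp => by_contra fun h => mulVec_ne_zero eAB h hp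
    have h3 : (vecMulVec (A *ᵥ w) ξ - vecMulVec w (ξ ᵥ* A)) ⊗ₖ B = 0 := by
      rw [kron_sub, ← mul_vecMulVec, ← vecMulVec_mul]
      nth_rw 1 [← Matrix.mul_one B]
      nth_rw 2 [← Matrix.one_mul B]
      rw [mul_kronecker_mul, mul_kronecker_mul, ← io_mul_pr, ← eAB, hzN, sub_self]
    have h4 : vecMulVec (A *ᵥ w) ξ = vecMulVec w (ξ ᵥ* A) := Matrix.ext fun i j => by
      have := congrArg (fun Z => pr (ρ := ρ) (Pi.single i (1 : F)) * Z * io (ρ := ρ) (Pi.single j (1 : F))) h3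
      simp only [block_kron, Matrix.mul_zero, Matrix.zero_mul] at this
      exact sub_eq_zero.1 ((smul_eq_zero.1 this).resolve_right hB.ne_zero)
    have h5 : A *ᵥ w = (ξ ᵥ* A ⬝ᵥ x) • w := by
      have := congrArg (· *ᵥ x) h4
      simpa [vecMulVec_mulVec, hx] using this
    have hc : ξ ᵥ* A ⬝ᵥ x ≠ 0 := fun h => hw (hinj w (by rw [h5, h, zero_smul]))
    have h6 : ξ ᵥ* A = (ξ ᵥ* A ⬝ᵥ x) • ξ := by
      obtain ⟨i, hi⟩ := Function.ne_iff.1 hw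
      funext j
      have := congrFun (congrFun h4 i) j
      simp only [vecMulVec_apply, h5, Pi.smul_apply, smul_eq_mul] at this ⊢
      refine mul_left_cancel₀ hi (this.symm.trans (by ring))
    exact ⟨A, B, hB, eAB, ⟨_, hc, h5, h6, fun h => hv 0 (by rw [zero_smul]; exact hinj v h)⟩, hinj⟩
  have third : ∀ a b : Fin 3, a ≠ b → ∃ c, a ≠ c ∧ c ≠ b := by decide
  have h1 : ∀ a b, a ≠ b → ∃ (A : Matrix (Fin 3) (Fin 3) F) (B : Matrix ρ ρ F), IsUnit B ∧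
      ((k⁻¹ * y a b * k : GL (Fin 3 × ρ) F) : V F 3 ρ) = A ⊗ₖ B ∧ P₁ A := by
    intro a b hab
    obtain ⟨c, hac, hcb⟩ := third a b hab
    obtain ⟨A, B, hB, e, -, -⟩ := h0 a b hab
    obtain ⟨A₁, B₁, hB₁, e₁, q₁, i₁⟩ := h0 a c hac
    obtain ⟨A₂, B₂, hB₂, e₂, q₂, i₂⟩ := h0 c b hcb
    obtain ⟨A', B', hB', e', hA'⟩ := comm_kron (by norm_num) (hcomm a b c hab hac hcb) e₁ e₂ e hB₁ hB₂ hB
    exact ⟨A', B', hB', e', s1 A₁ A₂ A' q₁ q₂ i₁ i₂ hA'⟩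
  have h2 : ∀ a b, a ≠ b → ∃ (A : Matrix (Fin 3) (Fin 3) F) (B : Matrix ρ ρ F), IsUnit B ∧
      ((k⁻¹ * y a b * k : GL (Fin 3 × ρ) F) : V F 3 ρ) = A ⊗ₖ B ∧ P₂ A := by
    intro a b hab
    obtain ⟨c, hac, hcb⟩ := third a b hab
    obtain ⟨A, B, hB, e, -⟩ := h1 a b hab
    obtain ⟨A₁, B₁, hB₁, e₁, q₁⟩ := h1 a c hac
    obtain ⟨A₂, B₂, hB₂, e₂, q₂⟩ := h1 c b hcb
    obtain ⟨A', B', hB', e', hA'⟩ := comm_kron (by norm_num) (hcomm a b c hab hac hcb) e₁ e₂ e hB₁ hB₂ hB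
    exact ⟨A', B', hB', e', s2 A₁ A₂ A' q₁ q₂ hA'⟩
  intro a b hab
  obtain ⟨c, hac, hcb⟩ := third a b hab
  obtain ⟨A, B, hB, e, -⟩ := h2 a b hab
  obtain ⟨A₁, B₁, hB₁, e₁, q₁⟩ := h2 a c hac
  obtain ⟨A₂, B₂, hB₂, e₂, q₂⟩ := h2 c b hcb
  obtain ⟨A', B', hB', e', hA'⟩ := comm_kron (by norm_num) (hcomm a b c hab hac hcb) e₁ e₂ e hB₁ hB₂ hB
  exact ⟨B', by rw [e', s3 A₁ A₂ A' q₁ q₂ hA']; rfl⟩

end Cfsg.Agent.H98.TensorWreath
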