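import Cfsg.Agent.H98.TensorWreath.SwapTheta
import Cfsg.Agent.H98.TensorWreath.Third

/-!
No conjugate of a root carries a root of the slot to the other factor, characteristic two.
-/

set_option autoImplicit false
set_option linter.unusedSectionVars false
set_option maxHeartbeats 1000000

namespace Cfsg.Agent.H98.TensorWreath

open Matrix Module
open scoped Kronecker

variable {F : Type*} [Field F] {m : ℕ} {ρ : Type*} [Fintype ρ] [DecidableEq ρ]
variable {M : Subgroup (GL (Fin m × ρ) F)}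

/-- The diagonal elements centralising an exchange in dimension three. -/
theorem exists_diag {M : Subgroup (GL (Fin 3 × ρ) F)} (hM : Over M) {g : GL (Fin 3 × ρ) F} (hgM : g ∈ M)
    {f : Fin 3 → Fin 3 → Matrix ρ ρ F} (E : Exch (g : V F 3 ρ) f)
    (eg' : ((g⁻¹ : GL (Fin 3 × ρ) F) : V F 3 ρ) = (g : V F 3 ρ)) :
    ∃ y : Fin 3 → Fin 3 → GL (Fin 3 × ρ) F, (∀ a b, a ≠ b → y a b ∈ M ∧ y a b * g = g * y a b) ∧
      (∀ a b c, a ≠ b → a ≠ c → c ≠ b → y a b * (y c b * y a c) = y a c * y c b) ∧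
      ∀ a b, a ≠ b → (y a b : V F 3 ρ) = (1 + sl (Matrix.single a b (1 : F))) * oc (1 + f a b) := by
  have hrt : ∀ a b : Fin 3, a ≠ b → ∃ r ∈ M, ((r : GL (Fin 3 × ρ) F) : V F 3 ρ) = 1 + sl (Matrix.single a b (1 : F)) :=
    fun a b hab => by
      obtain ⟨-, r, hr, er⟩ := hM (Pi.single a (1 : F)) (Pi.single b (1 : F)) (by simp [hab])
      exact ⟨r, hr, by rw [er, single_eq_root]⟩
  choose r hrM hr using hrt
  let y : Fin 3 → Fin 3 → GL (Fin 3 × ρ) F := fun a b => if h : a ≠ b then r a b h * (g * r a b h * g⁻¹) else 1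
  have hy0 : ∀ a b (h : a ≠ b), y a b = r a b h * (g * r a b h * g⁻¹) := fun a b h => dif_pos h
  have hginv : g⁻¹ = g := Units.ext eg'
  have hgg : g * g = 1 := by nth_rw 1 [← hginv]; exact inv_mul_cancel g
  have hrs : ∀ a b h, ((g * r a b h * g⁻¹ : GL (Fin 3 × ρ) F) : V F 3 ρ) = oc (1 + f a b) := fun a b h => by
    rw [Units.val_mul, Units.val_mul, hr, eg', mul_add, mul_one, add_mul, E.sq, E.left, Matrix.mul_assoc, E.sq,
      Matrix.mul_one]
    ext ⟨i, r⟩ ⟨j, s⟩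
    simp [oc, Matrix.one_apply]
    split_ifs <;> simp_all
  have hco : ∀ a b c d h h', Commute (r a b h) (g * r c d h' * g⁻¹) := fun a b c d h h' => Units.ext (by
    simp only [Units.val_mul, hr]
    have := hrs c d h'
    simp only [Units.val_mul, hr] at this
    rw [this, add_mul, one_mul, mul_add, mul_one, sl_mul_oc])
  refine ⟨y, fun a b h => ⟨?_, ?_⟩, ?_, fun a b h => ?_⟩
  · rw [hy0 a b h]
    exact M.mul_mem (hrM a b h) (M.mul_mem (M.mul_mem hgM (hrM a b h)) (M.inv_mem hgM))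
  · rw [hy0 a b h]
    conv_rhs => rw [(hco a b a b h h).eq]
    rw [hginv, mul_assoc, mul_assoc, hgg, mul_one, ← mul_assoc g, ← mul_assoc g, ← mul_assoc g g, hgg, one_mul, mul_assoc]
  · intro a b c hab hac hcb
    rw [hy0 a b hab, hy0 a c hac, hy0 c b hcb]
    have hr3 : r a b hab = r a c hac * r c b hcb * (r a c hac)⁻¹ * (r c b hcb)⁻¹ := by
      rw [eq_mul_inv_iff_mul_eq, eq_mul_inv_iff_mul_eq]
      refine Units.ext ?_
      simp only [Units.val_mul, hr, add_mul, mul_add, one_mul, mul_one, mul_assoc, sl_mul]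
      simp [sl, hab.symm, hac.symm, hcb.symm]
      abel
    have hr3' : g * r a b hab * g⁻¹ = (g * r a c hac * g⁻¹) * (g * r c b hcb * g⁻¹) *
        (g * r a c hac * g⁻¹)⁻¹ * (g * r c b hcb * g⁻¹)⁻¹ := by
      rw [hr3]; group
    rw [hr3', hr3]
    exact commutator_mul (hco c b a c hcb hac).symm (hco a c c b hac hcb) (hco a c a c hac hac)
      (hco c b c b hcb hcb)
  · rw [hy0 a b h, Units.val_mul, hr, hrs]

theorem swap_false_two [Nonempty ρ] (hM : Over M) (hS : Small M) (hm : 3 ≤ m) (h2 : (2 : F) = 0)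
    {g : GL (Fin m × ρ) F} (hg : Conj M g) {u φ : Fin m → F} (hu : u ≠ 0) (hφ : φ ≠ 0) (h0 : φ ⬝ᵥ u = 0)
    {X : Matrix ρ ρ F} (hX : (g : V F m ρ) * (io u * pr φ) = oc X * (g : V F m ρ)) : False := by
  classical
  obtain ⟨f, E, eg'⟩ := exists_exch hM hS hm h2 hg hu hφ h0 hX
  have hgM : g ∈ M := hg.mem hM
  obtain ⟨A₀, B₀, aL, bR, eg, -, -, -⟩ := hg.data
  have : NeZero m := ⟨by omega⟩
  obtain ⟨hm3, hθ⟩ := E.theta_eq hm (A₀ := A₀) (B₀ := B₀) (by rw [eg, add_sub_cancel_left])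
  subst hm3
  obtain ⟨k, hk, w, ξ, hw, hξ, hξw, eg0⟩ := hg
  obtain ⟨y, hyM, hrec, hy⟩ := exists_diag hM hgM E eg'
  have hth := exists_third hM hS hk hw hξ hξw eg0 y hyM hrec
  -- the element `z`
  obtain ⟨x, hx⟩ := exists_eq_one' hξ
  obtain ⟨η, hη⟩ := exists_eq_one hw
  set k' : V F 3 ρ := ((k⁻¹ : GL (Fin 3 × ρ) F) : V F 3 ρ) with hk'
  have hkk : k' * (k : V F 3 ρ) = 1 := Units.inv_mul k
  set z : V F 3 ρ := (k : V F 3 ρ) * (io x * pr η) * k' with hz
  set N : V F 3 ρ := (g : V F 3 ρ) - 1 with hN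
  have eN : N = (k : V F 3 ρ) * (io w * pr ξ) * k' := by
    rw [hN, eg0, mul_add, mul_one, add_mul, Units.mul_inv, add_sub_cancel_left]
  have hNzN : N * z * N = N := by
    rw [eN, hz]
    simp only [Matrix.mul_assoc]
    rw [← Matrix.mul_assoc k' (k : V F 3 ρ), hkk, Matrix.one_mul, ← Matrix.mul_assoc k' (k : V F 3 ρ), hkk,
      Matrix.one_mul]
    simp only [pr_io_mul, hx, hη, one_smul]
  have hzy : ∀ a b, a ≠ b → (y a b : V F 3 ρ) * z = z * (y a b : V F 3 ρ) := fun a b h => by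
    obtain ⟨B, hB⟩ := hth a b h
    have e : (y a b : V F 3 ρ) = (k : V F 3 ρ) * oc B * k' := by
      rw [← hB, hk', ← Units.val_mul, ← Units.val_mul]; congr 1; group
    rw [e, hz, root_eq_sl]
    calc (k : V F 3 ρ) * oc B * k' * ((k : V F 3 ρ) * sl (vecMulVec x η) * k')
        = (k : V F 3 ρ) * (oc B * sl (vecMulVec x η)) * k' := by
          simp only [Matrix.mul_assoc]; rw [← Matrix.mul_assoc k' (k : V F 3 ρ), hkk, Matrix.one_mul]
      _ = (k : V F 3 ρ) * (sl (vecMulVec x η) * oc B) * k' := by rw [sl_mul_oc]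
      _ = _ := by
          simp only [Matrix.mul_assoc]; rw [← Matrix.mul_assoc k' (k : V F 3 ρ), hkk, Matrix.one_mul]
  -- the action on the coordinates
  have hκy : ∀ c, (0 : Fin 3) ≠ c → ∀ a b, coord f a b * (y 0 c : V F 3 ρ) = coord f a b +
      (if a = 0 then coord f c b else 0) + (if b = 0 then coord f a c else 0) +
      (if a = 0 then (if b = 0 then coord f c c else 0) else 0) := by
    intro c hc a b
    rw [hy 0 c hc, single_eq_root, Matrix.add_mul, Matrix.one_mul, Matrix.mul_assoc (io _), pr_oc, Matrix.mul_add,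
      Exch.coord_io, coord, Matrix.mul_assoc (f 0 b), pr_oc]
    simp only [← Matrix.mul_assoc, Matrix.mul_add, Matrix.add_mul, Matrix.mul_one, E.mul, coord]
    rcases eq_or_ne a 0 with ha | ha <;> rcases eq_or_ne b 0 with hb | hb <;> simp [ha, hb] <;> abel
  set x₀ : Matrix (Fin 3 × ρ) ρ F := N * (io (ρ := ρ) (Pi.single (0 : Fin 3) (1 : F)) * f 1 0) with hx₀
  have f2 : f 0 0 + f 0 0 = 0 := by nth_rw 2 [← neg_eq_self h2 (f 0 0)]; exact add_neg_cancel _
  have hκx : ∀ a b, coord f a b * x₀ = if (a = 1 ∧ b = 0) ∨ (a = 0 ∧ b = 1) then f 0 0 else 0 := fun a b => by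
    rw [hx₀, hN, E.coord_pair, hθ, sub_eq_add_neg, neg_eq_self h2]
    fin_cases a <;> fin_cases b <;> simp
  have hfix : ∀ c, (0 : Fin 3) ≠ c → (y 0 c : V F 3 ρ) * x₀ = x₀ := fun c hc => E.ext_coord fun a b => by
    rw [← Matrix.mul_assoc, hκy c hc]
    fin_cases a <;> fin_cases b <;> fin_cases c <;> simp_all [Matrix.add_mul, f2]
  have hfix2 : ∀ c, (0 : Fin 3) ≠ c → (y 0 c : V F 3 ρ) * (z * x₀) = z * x₀ := fun c hc => by
    rw [← Matrix.mul_assoc, hzy 0 c hc, Matrix.mul_assoc, hfix c hc]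
  have eqs : ∀ c, (0 : Fin 3) ≠ c → ∀ a b, (if a = 0 then coord f c b * (z * x₀) else 0) +
      (if b = 0 then coord f a c * (z * x₀) else 0) +
      (if a = 0 then (if b = 0 then coord f c c * (z * x₀) else 0) else 0) = 0 := by
    intro c hc a b
    have h := congrArg (coord f a b * ·) (hfix2 c hc)
    simp only [← Matrix.mul_assoc (coord f a b) (y 0 c : V F 3 ρ), hκy c hc, Matrix.add_mul, add_assoc] at h
    have h' := add_eq_left.1 h
    refine Eq.trans ?_ h'
    split_ifs <;> simp [add_assoc]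
  have z22 : ∀ a c, (0 : Fin 3) ≠ c → (0 : Fin 3) ≠ a →
      coord f a c * (z * x₀) = 0 ∧ coord f c a * (z * x₀) = 0 := by
    intro a c hc ha
    exact ⟨by simpa [ha.symm] using eqs c hc a 0, by simpa [ha.symm] using eqs c hc 0 a⟩
  have z0 : ∀ c, (0 : Fin 3) ≠ c → coord f c 0 * (z * x₀) = coord f 0 c * (z * x₀) := by
    intro c hc
    have h := eqs c hc 0 0
    simp only [if_pos, (z22 c c hc hc).1, add_zero] at h
    rw [eq_neg_of_add_eq_zero_left h, neg_eq_self h2]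
  have hNx : x₀ = N * (z * x₀) := by
    rw [hx₀, ← Matrix.mul_assoc z N, ← Matrix.mul_assoc N (z * N), ← Matrix.mul_assoc N z, hNzN]
  have h1 := hκx 1 0
  rw [hNx, ← Matrix.mul_assoc, hN, E.coord_sub_one, hθ, Matrix.sub_mul, Matrix.mul_assoc (f 0 0),
    if_pos (Or.inl ⟨rfl, rfl⟩), ← z0 1 zero_ne_one] at h1
  rw [show f 0 0 * (coord f 1 0 * (z * x₀)) = coord f 1 0 * (z * x₀) by
    simp only [coord, ← Matrix.mul_assoc, E.mul, if_pos], sub_self] at h1
  exact E.f_ne_zero h1.symm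

end Cfsg.Agent.H98.TensorWreath
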