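import Cfsg.Agent.H98.TensorWreath.SwapBasic

/-!
Characteristic two: a conjugate of a root exchanging the slot algebra with matrix units of the other factor.
-/

set_option autoImplicit false
set_option linter.unusedSectionVars false

namespace Cfsg.Agent.H98.TensorWreath

open Matrix
open scoped Kronecker

variable {F : Type*} [Field F] {m : ℕ} {ρ : Type*} [Fintype ρ] [DecidableEq ρ]

/-- An involution exchanging the slot algebra with a system of matrix units of the other factor. -/
structure Exch (G : V F m ρ) (f : Fin m → Fin m → Matrix ρ ρ F) : Prop where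
  sq : G * G = 1
  left : ∀ a b, G * sl (Matrix.single a b (1 : F)) = oc (f a b) * G
  right : ∀ a b, sl (Matrix.single a b (1 : F)) * G = G * oc (f a b)
  mul : ∀ a b c d, f a b * f c d = if b = c then f a d else 0
  sum : ∑ a, f a a = 1

/-- The coordinates. -/
def coord (f : Fin m → Fin m → Matrix ρ ρ F) [NeZero m] (a b : Fin m) : Matrix ρ (Fin m × ρ) F :=
  f 0 b * pr (Pi.single a (1 : F))

/-- The restriction of the involution to the multiplicity space. -/
def theta (G : V F m ρ) [NeZero m] : Matrix ρ ρ F :=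
  pr (ρ := ρ) (Pi.single (0 : Fin m) (1 : F)) * G * io (ρ := ρ) (Pi.single (0 : Fin m) (1 : F))

theorem neg_eq_self (h2 : (2 : F) = 0) {κ κ' : Type*} (Z : Matrix κ κ' F) : -Z = Z := by
  ext i j; simp only [Matrix.neg_apply]; linear_combination -(Z i j) * h2

theorem oc_inj [NeZero m] {Y Y' : Matrix ρ ρ F} (h : (oc Y : V F m ρ) = oc Y') : Y = Y' := by
  have := congrArg
    (fun Z => pr (ρ := ρ) (Pi.single (0 : Fin m) (1 : F)) * Z * io (ρ := ρ) (Pi.single (0 : Fin m) (1 : F))) h
  simpa only [oc, block_kron, Matrix.one_apply_eq, one_smul] using this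

theorem oc_sum {ι : Type*} (s : Finset ι) (Y : ι → Matrix ρ ρ F) : (oc (∑ a ∈ s, Y a) : V F m ρ) = ∑ a ∈ s, oc (Y a) := by
  ext ⟨i, r⟩ ⟨j, t⟩; simp [oc, Matrix.sum_apply, Finset.mul_sum]

variable {M : Subgroup (GL (Fin m × ρ) F)}

theorem exists_exch [Nonempty ρ] (hM : Over M) (hS : Small M) (hm : 3 ≤ m) (h2 : (2 : F) = 0)
    {g : GL (Fin m × ρ) F} (hg : Conj M g) {u φ : Fin m → F} (hu : u ≠ 0) (hφ : φ ≠ 0) (h0 : φ ⬝ᵥ u = 0)
    {X : Matrix ρ ρ F} (hX : (g : V F m ρ) * (io u * pr φ) = oc X * (g : V F m ρ)) :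
    ∃ f, Exch (g : V F m ρ) f ∧ ((g⁻¹ : GL (Fin m × ρ) F) : V F m ρ) = (g : V F m ρ) := by
  have : NeZero m := ⟨by omega⟩
  obtain ⟨A₀, B₀, aL, bR, eg, hba, -, -⟩ := hg.data
  have hNN : A₀ * B₀ * (A₀ * B₀) = 0 := by
    rw [Matrix.mul_assoc, ← Matrix.mul_assoc B₀, hba, Matrix.zero_mul, Matrix.mul_zero]
  have eg' : ((g⁻¹ : GL (Fin m × ρ) F) : V F m ρ) = (g : V F m ρ) := by
    rw [coe_inv hNN eg, eg, sub_eq_add_neg, neg_eq_self h2]
  set G : V F m ρ := (g : V F m ρ) with hG
  have hGG : G * G = 1 := by nth_rw 1 [← eg']; exact Units.inv_mul g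
  have hoc := exists_oc hM hS hm (hg.mem hM) hu hφ h0 hX
  rw [eg'] at hoc
  choose f hf using hoc
  refine ⟨f, ⟨hGG, fun a b => ?_, fun a b => ?_, fun a b c d => ?_, ?_⟩, eg'⟩
  · rw [← hf, Matrix.mul_assoc _ G G, hGG, Matrix.mul_one]
  · rw [← hf, ← Matrix.mul_assoc, ← Matrix.mul_assoc, hGG, Matrix.one_mul]
  · refine oc_inj (m := m) ?_
    rw [← oc_mul, ← hf, ← hf]
    calc G * sl (Matrix.single a b (1 : F)) * G * (G * sl (Matrix.single c d (1 : F)) * G)
        = G * sl (Matrix.single a b (1 : F)) * ((G * G) * (sl (Matrix.single c d (1 : F)) * G)) := by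
          simp only [Matrix.mul_assoc]
      _ = G * sl (Matrix.single a b (1 : F) * Matrix.single c d (1 : F)) * G := by
          rw [hGG, Matrix.one_mul, ← sl_mul]; simp only [Matrix.mul_assoc]
      _ = _ := by
          split_ifs with hbc
          · subst hbc; rw [single_mul_single_same, one_mul, hf]
          · rw [single_mul_single_of_ne _ _ _ _ hbc]; simp [sl, oc]
  · refine oc_inj (m := m) ?_
    rw [oc_sum]
    simp only [← hf]
    rw [← Matrix.sum_mul, ← Matrix.mul_sum]
    simp only [single_eq_root]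
    rw [sum_io_pr, Matrix.mul_one, hGG]
    simp [oc]

namespace Exch

variable {G : V F m ρ} {f : Fin m → Fin m → Matrix ρ ρ F} [NeZero m]

theorem blocks_left (E : Exch G f) (c d i j : Fin m) :
    f c d * (pr (ρ := ρ) (Pi.single i (1 : F)) * G * io (ρ := ρ) (Pi.single j (1 : F))) =
      if d = j then pr (ρ := ρ) (Pi.single i (1 : F)) * G * io (ρ := ρ) (Pi.single c (1 : F)) else 0 := by
  have h := congrArg (fun Z => pr (ρ := ρ) (Pi.single i (1 : F)) * Z * io (ρ := ρ) (Pi.single j (1 : F))) (E.left c d)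
  simp only [single_eq_root] at h
  rw [← Matrix.mul_assoc (f c d), ← Matrix.mul_assoc (f c d), ← pr_oc]
  simp only [Matrix.mul_assoc] at h ⊢
  rw [← h, pr_single_io_single]
  split_ifs <;> simp

theorem blocks_right (E : Exch G f) (c d i j : Fin m) :
    pr (ρ := ρ) (Pi.single i (1 : F)) * G * io (ρ := ρ) (Pi.single j (1 : F)) * f c d =
      if i = c then pr (ρ := ρ) (Pi.single d (1 : F)) * G * io (ρ := ρ) (Pi.single j (1 : F)) else 0 := by
  have h := congrArg (fun Z => pr (ρ := ρ) (Pi.single i (1 : F)) * Z * io (ρ := ρ) (Pi.single j (1 : F))) (E.right c d)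
  simp only [single_eq_root, Matrix.mul_assoc, oc_io, pr_io_mul, single_dotProduct, one_mul, Pi.single_apply] at h
  simp only [Matrix.mul_assoc]
  rw [← h]
  split_ifs <;> simp [Matrix.mul_assoc]

theorem coord_G (E : Exch G f) (a b : Fin m) : coord f a b * G = theta G * coord f b a := by
  refine ext_io fun j => ?_
  simp only [coord, theta, Matrix.mul_assoc, pr_mul_io, single_dotProduct, one_mul, Pi.single_apply]
  have e := E.blocks_left 0 b a j
  have e' := E.blocks_right 0 a 0 0
  simp only [Matrix.mul_assoc, if_true] at e e'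
  rw [e]
  split_ifs with h <;> simp [e']

theorem f_theta (E : Exch G f) : f 0 0 * theta G = theta G := by
  simpa [theta] using E.blocks_left 0 0 0 0

theorem theta_f (E : Exch G f) : theta G * f 0 0 = theta G := by
  simpa [theta] using E.blocks_right 0 0 0 0

theorem coord_io (a b d : Fin m) {κ : Type*} (Y : Matrix ρ κ F) :
    coord f a b * (io (ρ := ρ) (Pi.single d (1 : F)) * Y) = if a = d then f 0 b * Y else 0 := by
  simp only [coord, Matrix.mul_assoc, pr_io_mul, single_dotProduct, one_mul, Pi.single_apply]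
  split_ifs <;> simp

theorem theta_sq (E : Exch G f) : theta G * theta G = f 0 0 := by
  have h := congrArg (· * io (ρ := ρ) (Pi.single (0 : Fin m) (1 : F)))
    (show coord f 0 0 * (G * G) = theta G * (theta G * coord f 0 0) by
      rw [← Matrix.mul_assoc, E.coord_G, Matrix.mul_assoc, E.coord_G])
  rw [E.sq] at h
  simp only [coord, Matrix.mul_assoc, Matrix.mul_one, pr_mul_io, single_dotProduct, Pi.single_eq_same, one_mul,
    one_smul] at h
  rw [E.theta_f] at h
  exact h.symm

theorem ext_coord (E : Exch G f) {κ : Type*} [Fintype κ] {Y Y' : Matrix (Fin m × ρ) κ F}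
    (h : ∀ a b, coord f a b * Y = coord f a b * Y') : Y = Y' := ext_pr fun a => by
  rw [← Matrix.one_mul (pr _ * Y), ← Matrix.one_mul (pr _ * Y'), ← E.sum, Matrix.sum_mul, Matrix.sum_mul]
  refine Finset.sum_congr rfl fun b _ => ?_
  have e := congrArg (f b 0 * ·) (h a b)
  simpa only [coord, ← Matrix.mul_assoc, E.mul, if_pos] using e

theorem coord_sub_one (E : Exch G f) (a b : Fin m) :
    coord f a b * (G - 1) = theta G * coord f b a - coord f a b := by
  rw [Matrix.mul_sub, E.coord_G, Matrix.mul_one]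

end Exch

end Cfsg.Agent.H98.TensorWreath
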