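import Cfsg.Agent.H98.TensorWreath.Bridge
import Cfsg.Agent.Aschbacher.Proper
import Mathlib.LinearAlgebra.Matrix.SchurComplement

/-!
The stabiliser of a tensor decomposition into factors of equal dimension is maximal in the special linear group.
-/

set_option autoImplicit false
set_option linter.unusedSectionVars false

namespace Cfsg.Agent.H98.TensorWreath.Full

open Matrix
open scoped Kronecker
open Cfsg.Geo (glReindex IsMaximalIn specialLinear tensorWreathStandard tensorWreathSubgroup IsPureTensor
  IsFactorPermutation)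
open Cfsg.Agent.Aschbacher (pureMat pureGL factorPerm factorPermGL factorPerm_conj factorPerm_mul_perm factorPerm_one cj)

variable {F : Type*} [Field F] {m t : ℕ}

/-- A root of one factor. -/
def SlotRoot (i : Fin t) (x : GL (Fin t → Fin m) F) : Prop :=
  ∃ u φ : Fin m → F, u ≠ 0 ∧ φ ≠ 0 ∧ φ ⬝ᵥ u = 0 ∧ (x : W F m t) = 1 + slot i (vecMulVec u φ)

theorem det_slot (i : Fin t) (A : Matrix (Fin m) (Fin m) F) :
    (slot i A).det = A.det ^ Fintype.card (Rho m i) := by
  rw [← Matrix.det_reindexAlgEquiv F F (split m i) (slot i A)]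
  change (loc i (slot i A)).det = _
  rw [loc_slot, det_kronecker, det_one, one_pow, mul_one]

theorem roots_of_le {M : Subgroup (GL (Fin t → Fin m) F)}
    (hM : tensorWreathStandard m t F ⊓ specialLinear (Fin t → Fin m) F ≤ M) : Roots M := by
  intro i u φ h
  have hsq : vecMulVec u φ * vecMulVec u φ = 0 := by
    rw [vecMulVec_mul_vecMulVec, h]; simp
  have hN : slot i (vecMulVec u φ) * slot i (vecMulVec u φ) = 0 := by rw [slot_mul, hsq, slot_zero]
  let v : GL (Fin m) F := ⟨1 + vecMulVec u φ, 1 - vecMulVec u φ,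
    by rw [mul_sub, mul_one, add_mul, one_mul, hsq]; abel, by rw [mul_add, mul_one, sub_mul, one_mul, hsq]; abel⟩
  have hval : ((pureGL (Function.update (fun _ => (1 : GL (Fin m) F)) i v) : GL (Fin t → Fin m) F) : W F m t) =
      1 + slot i (vecMulVec u φ) := by
    rw [← slot_one i, ← slot_add, slot]
    change pureMat _ = _
    congr 1
    funext k
    rcases eq_or_ne k i with rfl | hk
    · simp [v]
    · simp [Function.update_of_ne hk]
  refine ⟨hN, _, hM ⟨Subgroup.subset_closure (Or.inl ⟨_, fun x y => rfl⟩), ?_⟩, hval⟩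
  change Matrix.GeneralLinearGroup.det _ = 1
  refine Units.ext ?_
  rw [Matrix.GeneralLinearGroup.val_det_apply, hval, ← slot_one i, ← slot_add, det_slot,
    vecMulVec_eq Unit, det_one_add_replicateCol_mul_replicateRow, h, add_zero, one_pow, Units.val_one]

/-- The factor permutations. -/
def Moves (g : GL (Fin t → Fin m) F) (i k : Fin t) : Prop :=
  ∀ A : Matrix (Fin m) (Fin m) F, (g : W F m t) * slot i A = slot k A * (g : W F m t)

theorem Moves.mul {g h : GL (Fin t → Fin m) F} {i k l : Fin t} (hg : Moves g k l) (hh : Moves h i k) :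
    Moves (g * h) i l := fun A => by
  rw [Units.val_mul, mul_assoc, hh A, ← mul_assoc, hg A, mul_assoc]

theorem moves_factorPerm (σ : Equiv.Perm (Fin t)) (i : Fin t) :
    Moves (factorPermGL (m := m) (F := F) σ) i (σ i) := fun A => by
  change factorPerm σ * slot i A = slot (σ i) A * factorPerm σ
  rw [slot, factorPerm_conj, slot]
  congr 2
  funext j
  rcases eq_or_ne j (σ i) with rfl | hj
  · simp
  · rw [Function.update_of_ne hj, Function.update_of_ne (fun h => hj (by rw [← h, Equiv.apply_symm_apply]))]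

theorem cycles_of_le {M : Subgroup (GL (Fin t → Fin m) F)}
    (hM : tensorWreathStandard m t F ⊓ specialLinear (Fin t → Fin m) F ≤ M) : Cycles M := by
  intro i k l hik hkl hli
  set a : GL (Fin t → Fin m) F := factorPermGL (Equiv.swap i l) with ha
  set b : GL (Fin t → Fin m) F := factorPermGL (Equiv.swap k l) with hb
  have hsq : ∀ p q : Fin t, (factorPermGL (Equiv.swap p q) : GL (Fin t → Fin m) F) *
      factorPermGL (Equiv.swap p q) = 1 := fun p q => Units.ext (by
    change factorPerm (Equiv.swap p q) * factorPerm (Equiv.swap p q) = (1 : W F m t)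
    rw [factorPerm_mul_perm, Equiv.swap_mul_self, factorPerm_one])
  have hmem : ∀ σ : Equiv.Perm (Fin t), (factorPermGL σ : GL (Fin t → Fin m) F) ∈ tensorWreathStandard m t F :=
    fun σ => Subgroup.subset_closure (Or.inr ⟨σ, fun x y => rfl⟩)
  refine ⟨a * b * a * b, hM ⟨mul_mem (mul_mem (mul_mem (hmem _) (hmem _)) (hmem _)) (hmem _), ?_⟩, fun A => ?_⟩
  · change Matrix.GeneralLinearGroup.det _ = 1
    rw [map_mul, map_mul, map_mul,
      mul_assoc (Matrix.GeneralLinearGroup.det a * Matrix.GeneralLinearGroup.det b), mul_mul_mul_comm, ← map_mul,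
      ← map_mul, ha, hb, hsq, hsq, map_one, mul_one]
  have mv : ∀ p q : Fin t, ∀ x : Fin t, Moves (factorPermGL (m := m) (F := F) (Equiv.swap p q)) x (Equiv.swap p q x) :=
    fun p q x => moves_factorPerm _ x
  have full : ∀ x : Fin t, Moves (a * b * a * b) x
      (Equiv.swap i l (Equiv.swap k l (Equiv.swap i l (Equiv.swap k l x)))) := fun x =>
    (((mv i l _).mul (mv k l _)).mul (mv i l _)).mul (mv k l x)
  have h1 := full i
  have h2 := full k
  have h3 := full l
  simp [Equiv.swap_apply_def, hik, hik.symm, hkl, hkl.symm, hli, hli.symm] at h1 h2 h3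
  exact ⟨h1 A, h2 A, h3 A⟩

variable {M : Subgroup (GL (Fin t → Fin m) F)}

theorem slotRoot_of_isRoot {k : Fin t} {x : GL (Fin t → Fin m) F} (h : IsRoot (glReindex (split m k) x)) :
    SlotRoot k x := by
  obtain ⟨u, φ, hu, hφ, h0, e⟩ := h
  refine ⟨u, φ, hu, hφ, h0, (loc k).injective ?_⟩
  rw [map_add, map_one, loc_slot, ← io_mul_pr, ← e, loc_val]

theorem commute_of_isOuter {k : Fin t} {x : GL (Fin t → Fin m) F} (h : IsOuter (glReindex (split m k) x))
    (A : Matrix (Fin m) (Fin m) F) : Commute (slot k A) (x : W F m t) := by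
  obtain ⟨C, e⟩ := h
  refine (loc k).injective ?_
  rw [map_mul, map_mul, loc_slot, ← loc_val, e]
  exact sl_mul_oc A C

/-- A conjugate of a root is not scalar. -/
theorem not_scalar {g r : GL (Fin t → Fin m) F} {i : Fin t} (hr : SlotRoot i r) (c : F) :
    ((g * r * g⁻¹ : GL (Fin t → Fin m) F) : W F m t) ≠ c • 1 := by
  intro hc
  obtain ⟨u, φ, hu, hφ, h0, e⟩ := hr
  have h1 : (r : W F m t) = c • 1 := by
    have h2 := congrArg (cj g⁻¹) hc
    rwa [← Aschbacher.cj_val, Aschbacher.cj_inv_apply, map_smul, map_one] at h2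
  rw [h1, ← slot_one i, ← slot_smul, ← slot_add] at e
  have h3 : (c - 1) • (1 : Matrix (Fin m) (Fin m) F) = vecMulVec u φ := by
    rw [sub_smul, one_smul, slot_injective i e, add_sub_cancel_left]
  have hsq : vecMulVec u φ * vecMulVec u φ = 0 := by
    rw [vecMulVec_mul_vecMulVec, h0]; simp
  obtain ⟨a, ha⟩ := Function.ne_iff.1 hu
  obtain ⟨b, hb⟩ := Function.ne_iff.1 hφ
  have hc0 : c - 1 = 0 := by
    have := congrFun (congrFun hsq a) a
    rw [← h3] at this
    simpa using this
  rw [hc0, zero_smul] at h3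
  have := congrFun (congrFun h3.symm a) b
  simp [vecMulVec_apply] at this
  exact this.elim ha hb

theorem split_agree (i : Fin t) (x : Fin t → Fin m) :
    (split m i x).1 = x i ∧ ∀ j : {j : Fin t // j ≠ i}, (split m i x).2 j = x j := by
  simp [split]

/-- With two factors the elements commuting with one lie in the other. -/
theorem exists_slot_of_outer {i j : Fin t} (hij : i ≠ j) (htwo : ∀ k, k = i ∨ k = j) {x : GL (Fin t → Fin m) F}
    (h : IsOuter (glReindex (split m i) x)) : ∃ C : Matrix (Fin m) (Fin m) F, (x : W F m t) = slot j C := by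
  obtain ⟨C, e⟩ := h
  refine ⟨Matrix.of fun a b => C (fun _ => a) (fun _ => b), Matrix.ext fun p q => ?_⟩
  have h1 : (x : W F m t) p q =
      ((glReindex (split m i) x : GL (Fin m × Rho m i) F) : Matrix (Fin m × Rho m i) (Fin m × Rho m i) F)
        (split m i p) (split m i q) := by
    rw [loc_val]
    change _ = (x : W F m t) ((split m i).symm (split m i p)) ((split m i).symm (split m i q))
    rw [Equiv.symm_apply_apply, Equiv.symm_apply_apply]
  have hr : ∀ z : Fin t → Fin m, (split m i z).2 = fun _ => z j := fun z => funext fun k => by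
    rw [(split_agree i z).2]
    rcases htwo k with h | h
    · exact absurd h k.2
    · rw [h]
  rw [h1, e, kroneckerMap_apply, Matrix.one_apply, slot_apply, ite_mul, one_mul, zero_mul, (split_agree i p).1,
    (split_agree i q).1, hr, hr, Matrix.of_apply]
  refine if_congr ⟨fun h k hk => ?_, fun h => h i hij⟩ rfl rfl
  rcases htwo k with rfl | rfl
  · exact h
  · exact absurd rfl hk

section Small

variable [Finite F]

/-- A conjugate of a root is a root, in a small overgroup. -/
theorem conj_root (hR : Roots M) (hC : Cycles M) (hm : 3 ≤ m) (ht : 2 ≤ t) (hS : ∀ k, Small (locM M k))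
    {i : Fin t} {g r : GL (Fin t → Fin m) F} (hg : g ∈ M) (hr : SlotRoot i r) :
    ∃ k, SlotRoot k (g * r * g⁻¹) := by
  have : Nonempty (Fin m) := ⟨⟨0, by omega⟩⟩
  set x := g * r * g⁻¹ with hx
  have conjAt : ∀ {k : Fin t} {g r : GL (Fin t → Fin m) F}, g ∈ M → SlotRoot k r →
      Conj (locM M k) (glReindex (split m k) (g * r * g⁻¹)) := by
    intro k g r hg hr
    obtain ⟨u, φ, hu, hφ, h0, e⟩ := hr
    refine ⟨glReindex (split m k) g, Subgroup.mem_map_of_mem _ hg, u, φ, hu, hφ, h0, ?_⟩
    rw [map_mul, map_mul, map_inv, Units.val_mul, Units.val_mul, loc_val k r, e, map_add, map_one, loc_slot,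
      ← io_mul_pr]
  have weakAt : ∀ {k : Fin t}, Conj (locM M k) (glReindex (split m k) x) → Weak (glReindex (split m k) x) := by
    intro k h
    refine conj_weak (hR.over k) (hS k) hm (fun h3 => ?_) h
    rw [Fintype.card_fun, Fintype.card_fin, h3]
    exact Odd.pow ⟨1, rfl⟩
  have scal : ¬ ∀ k, ∀ A, Commute (slot k A) (x : W F m t) := fun hall => by
    obtain ⟨c, hc⟩ := scalar_of_commute hall
    exact not_scalar hr c hc
  rcases Nat.lt_or_ge t 3 with ht3 | ht3
  · -- two factors
    rcases classify hm (conjAt hg hr) (weakAt (conjAt hg hr)) with h | hout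
    · exact ⟨i, slotRoot_of_isRoot h⟩
    have : Nontrivial (Fin t) := Fin.nontrivial_iff_two_le.2 ht
    obtain ⟨j, hji⟩ := exists_ne i
    have htwo : ∀ k, k = i ∨ k = j := fun k => by
      have h1 := i.2; have h2 := j.2; have h3 := k.2
      have h4 : (j : ℕ) ≠ i := fun h => hji (Fin.ext h)
      rcases eq_or_ne (k : ℕ) i with h | h
      · exact Or.inl (Fin.ext h)
      · exact Or.inr (Fin.ext (by omega))
    obtain ⟨C, hC'⟩ := exists_slot_of_outer hji.symm htwo hout
    obtain ⟨a, b, aL, bR, e, hba, haL, hbR⟩ := (conjAt hg hr).data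
    let ε : Fin m × Rho m i ≃ Fin m × Rho m j := (split m i).symm.trans (split m j)
    let η : Rho m i ≃ Rho m j := Fintype.equivOfCardEq (by simp)
    have hw : Weak (glReindex (split m j) x) := ⟨C, 1, isUnit_one, by rw [loc_val, hC', loc_slot]⟩
    have e' : ((glReindex (split m j) x : GL (Fin m × Rho m j) F) : V F m (Rho m j)) =
        1 + Matrix.reindex ε η a * Matrix.reindex η ε b := by
      have h1 : ((glReindex (split m j) x : GL (Fin m × Rho m j) F) : V F m (Rho m j)) =
          Matrix.reindexAlgEquiv F F ε (((glReindex (split m i) x : GL (Fin m × Rho m i) F) : V F m (Rho m i))) := by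
        rw [loc_val, loc_val]
        ext p q
        change (x : W F m t) ((split m j).symm p) ((split m j).symm q) =
          (x : W F m t) ((split m i).symm (ε.symm p)) ((split m i).symm (ε.symm q))
        simp only [ε, Equiv.symm_trans_apply, Equiv.symm_symm, Equiv.symm_apply_apply]
      rw [h1, e, map_add, map_one]
      simp [Matrix.submatrix_mul_equiv]
    rcases classify_data hm (a := Matrix.reindex ε η a) (b := Matrix.reindex η ε b) (aL := Matrix.reindex η ε aL)
        (bR := Matrix.reindex ε η bR) e' (by simp [Matrix.submatrix_mul_equiv, hba])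
        (by simp [Matrix.submatrix_mul_equiv, haL]) (by simp [Matrix.submatrix_mul_equiv, hbR]) hw with h | h
    · exact ⟨j, slotRoot_of_isRoot h⟩
    · refine (scal fun k A => ?_).elim
      rcases htwo k with rfl | rfl
      · exact commute_of_isOuter hout A
      · exact commute_of_isOuter h A
  · -- at least three factors
    by_contra hno
    push Not at hno
    refine scal fun k A => ?_
    obtain ⟨r', g', hg', hr', hx'⟩ : ∃ r' g', g' ∈ M ∧ SlotRoot k r' ∧ x = g' * r' * g'⁻¹ := by
      rcases eq_or_ne i k with rfl | hik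
      · exact ⟨r, g, hg, hr, hx⟩
      obtain ⟨l, hli, hlk⟩ := exists_third ht3 i k
      obtain ⟨w, hw, hwc⟩ := hC i k l hik hlk.symm hli
      refine ⟨w * r * w⁻¹, g * w⁻¹, M.mul_mem hg (M.inv_mem hw), ?_, by rw [hx]; group⟩
      obtain ⟨u, φ, hu, hφ, h0, e⟩ := hr
      refine ⟨u, φ, hu, hφ, h0, ?_⟩
      rw [Units.val_mul, Units.val_mul, e, mul_add, mul_one, (hwc _).1, add_mul, Units.mul_inv, mul_assoc,
        Units.mul_inv, mul_one]
    have hc := conjAt hg' hr'
    rw [← hx'] at hc
    rcases classify hm hc (weakAt hc) with h | h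
    · exact absurd (slotRoot_of_isRoot h) (hno k)
    · exact commute_of_isOuter h A

/-- The matrix units of a factor go into one factor. -/
theorem exists_image (hR : Roots M) (hC : Cycles M) (hm : 3 ≤ m) (ht : 2 ≤ t) (hS : ∀ k, Small (locM M k))
    {g : GL (Fin t → Fin m) F} (hg : g ∈ M) (i : Fin t) :
    ∃ k, ∀ A : Matrix (Fin m) (Fin m) F, ∃ B, cj g (slot i A) = slot k B := by
  have himg : ∀ a b : Fin m, a ≠ b → ∃ k, ∃ B, cj g (eu i a b) = slot k B := by
    intro a b h
    obtain ⟨-, r, -, er⟩ := hR.unit i h (1 : F)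
    have hr : SlotRoot i r := ⟨Pi.single a 1, Pi.single b 1, by simp, by simp, by simp [h], by
      rw [er, Matrix.single_eq_single_vecMulVec_single]⟩
    obtain ⟨k, u, φ, -, -, -, e⟩ := conj_root hR hC hm ht hS hg hr
    refine ⟨k, vecMulVec u φ, ?_⟩
    have h1 : cj g (r : W F m t) = 1 + slot k (vecMulVec u φ) := by rw [Aschbacher.cj_val, e]
    rw [er, map_add, map_one] at h1
    exact add_left_cancel h1
  choose f N hf using himg
  have hcomm : ∀ a b c d (h : a ≠ b) (h' : c ≠ d), f a b h ≠ f c d h' →
      eu (F := F) i a b * eu i c d = eu i c d * eu i a b := by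
    intro a b c d h h' hne
    refine (cj g).injective ?_
    rw [map_mul, map_mul, hf a b h, hf c d h']
    exact (slot_comm hne _ _).eq
  have hne0 : ∀ a b : Fin m, eu (F := F) i a b ≠ 0 := fun a b h => by
    have h1 := slot_injective i (h.trans (slot_zero i).symm)
    simpa using congrFun (congrFun h1 a) b
  have hchain : ∀ a b c (h : a ≠ b) (h' : b ≠ c), f a b h = f b c h' := by
    intro a b c h h'
    by_contra hne
    have h1 := hcomm a b b c h h' hne
    rw [eu_same] at h1
    rcases eq_or_ne c a with rfl | hca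
    · rw [eu_same] at h1
      have := slot_injective i h1
      have := congrFun (congrFun this c) c
      simp [h'] at this
    · rw [eu_ne i hca] at h1
      exact hne0 a c h1
  have : Nonempty (Fin m) := ⟨⟨0, by omega⟩⟩
  choose o ho using fun b : Fin m => exists_third hm b b
  have hh : ∀ a b (h : a ≠ b), f a b h = f b (o b) (ho b).1.symm := fun a b h => hchain a b (o b) h _
  have hh' : ∀ b c (h : b ≠ c), f b c h = f b (o b) (ho b).1.symm := fun b c h =>
    (hchain c b c h.symm h).symm.trans (hh c b h.symm)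
  have hconst : ∀ a b, a ≠ b → f a (o a) (ho a).1.symm = f b (o b) (ho b).1.symm := fun a b h => by
    rw [← hh' a b h, hh a b h]
  let b₀ : Fin m := Classical.arbitrary _
  refine ⟨f b₀ (o b₀) (ho b₀).1.symm, fun A => ?_⟩
  set k := f b₀ (o b₀) (ho b₀).1.symm
  have hoff : ∀ a b, a ≠ b → ∃ B, cj g (eu i a b) = slot k B := fun a b h => by
    refine ⟨N a b h, ?_⟩
    rw [hf a b h]
    congr 1
    rw [hh' a b h]
    rcases eq_or_ne a b₀ with rfl | ha
    · rfl
    · exact hconst a b₀ ha
  have hall : ∀ a b, ∃ B, cj g (eu i a b) = slot k B := fun a b => by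
    rcases eq_or_ne a b with rfl | h
    · obtain ⟨B₁, h1⟩ := hoff a (o a) (ho a).1.symm
      obtain ⟨B₂, h2⟩ := hoff (o a) a (ho a).1
      exact ⟨B₁ * B₂, by rw [← eu_same i a (o a) a, map_mul, h1, h2, slot_mul]⟩
    · exact hoff a b h
  choose B hB using hall
  refine ⟨∑ a, ∑ b, A a b • B a b, ?_⟩
  conv_lhs => rw [Matrix.matrix_eq_sum_single A, ← slotHom_apply, map_sum, map_sum]
  rw [← slotHom_apply, map_sum]
  refine Finset.sum_congr rfl fun a _ => ?_
  rw [map_sum, map_sum, map_sum]
  refine Finset.sum_congr rfl fun b _ => ?_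
  rw [map_smul, slotHom_apply, slotHom_apply, ← hB a b,
    ← mul_one (A a b), ← smul_eq_mul, ← Matrix.smul_single, slot_smul, map_smul, smul_eq_mul, mul_one]
  rfl

theorem pureMat_mul_slot {v : Fin t → GL (Fin m) F} (k : Fin t) (A : Matrix (Fin m) (Fin m) F) :
    ((pureGL v : GL (Fin t → Fin m) F) : W F m t) * slot k A = slot k (cj (v k) A) * (pureGL v : GL (Fin t → Fin m) F) := by
  change pureMat _ * slot k A = slot k _ * pureMat _
  rw [slot, slot, Aschbacher.pureMat_mul, Aschbacher.pureMat_mul]
  congr 1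
  funext j
  rcases eq_or_ne j k with rfl | hj
  · simp [Aschbacher.cj_apply, mul_assoc]
  · simp [Function.update_of_ne hj]

/-- A small overgroup stabilises the decomposition. -/
theorem le_standard (hR : Roots M) (hC : Cycles M) (hm : 3 ≤ m) (ht : 2 ≤ t) (hS : ∀ k, Small (locM M k)) :
    M ≤ tensorWreathStandard m t F := by
  intro g hg
  have : Nonempty (Fin m) := ⟨⟨0, by omega⟩⟩
  choose s B hsB using exists_image hR hC hm ht hS hg
  choose s' B' hsB' using exists_image hR hC hm ht hS (M.inv_mem hg)
  have hinv : ∀ i, s' (s i) = i := by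
    intro i
    by_contra hne
    have h : ∀ A, ∃ B, slot i A = slot (s' (s i)) B := fun A =>
      ⟨B' (s i) (B i A), by rw [← hsB', ← hsB, Aschbacher.cj_inv_apply]⟩
    let a : Fin m := Classical.arbitrary _
    obtain ⟨b, hb, -⟩ := exists_third hm a a
    obtain ⟨C, hC'⟩ := h (Matrix.single a b (1 : F))
    have hc : Commute (eu (F := F) i a b) (eu i b a) := by
      rw [eu, hC']; exact slot_comm hne _ _
    rw [Commute, SemiconjBy, eu_same, eu_same] at hc
    have := congrFun (congrFun (slot_injective i hc) a) a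
    simp [hb] at this
  have hinj : Function.Injective s := fun i j h => by rw [← hinv i, h, hinv j]
  let σ : Equiv.Perm (Fin t) := Equiv.ofBijective s ⟨hinj, Finite.injective_iff_surjective.1 hinj⟩
  have hσ : ∀ i, σ i = s i := fun i => rfl
  have hψ : ∀ i, ∃ u : GL (Fin m) F, ∀ A, cj g (slot i A) = slot (σ i) (cj u A) := by
    intro i
    have hinjσ : Function.Injective (slotHom (F := F) (m := m) (σ i)) := slot_injective _
    let ψ : Matrix (Fin m) (Fin m) F →ₐ[F] Matrix (Fin m) (Fin m) F :=
      AlgHom.ofLinearMap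
        { toFun := B i
          map_add' := fun A A' => hinjσ (by
            rw [map_add, slotHom_apply, slotHom_apply, slotHom_apply, hσ, ← hsB, ← hsB, ← hsB, slot_add, map_add])
          map_smul' := fun c A => hinjσ (by
            rw [RingHom.id_apply, map_smul, slotHom_apply, slotHom_apply, hσ, ← hsB, ← hsB, slot_smul, map_smul]) }
        (hinjσ (by
          change slotHom (σ i) (B i 1) = _
          rw [map_one, slotHom_apply, hσ, ← hsB, slot_one, map_one]))
        (fun A A' => hinjσ (by
          change slotHom (σ i) (B i (A * A')) = slotHom (σ i) (B i A * B i A')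
          rw [map_mul, slotHom_apply, slotHom_apply, slotHom_apply, hσ, ← hsB, ← hsB, ← hsB, ← map_mul, slot_mul]))
    obtain ⟨u, hu⟩ := Aschbacher.skolem_noether ψ
    refine ⟨u, fun A => ?_⟩
    rw [← hu, hsB, hσ]
    rfl
  choose u hu using hψ
  set v : Fin t → GL (Fin m) F := fun j => u (σ.symm j)
  set w : GL (Fin t → Fin m) F := pureGL v * factorPermGL σ with hw
  have hwstd : w ∈ tensorWreathStandard m t F :=
    mul_mem (Subgroup.subset_closure (Or.inl ⟨_, fun x y => rfl⟩)) (Subgroup.subset_closure (Or.inr ⟨σ, fun x y => rfl⟩))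
  have hwact : ∀ i A, cj w (slot i A) = slot (σ i) (cj (u i) A) := by
    intro i A
    rw [Aschbacher.cj_apply]
    have h1 : (w : W F m t) * slot i A = slot (σ i) (cj (u i) A) * (w : W F m t) := by
      rw [hw, Units.val_mul, mul_assoc, moves_factorPerm σ i A, ← mul_assoc, pureMat_mul_slot, mul_assoc]
      simp [v]
    rw [h1, mul_assoc, Units.mul_inv, mul_one]
  set z := w⁻¹ * g with hz
  obtain ⟨c, hc⟩ := scalar_of_commute (X := (z : W F m t)) fun i A => by
    refine ((Aschbacher.cj_eq_self_iff z (slot i A)).1 ?_).symm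
    rw [hz, Aschbacher.cj_mul, hu, ← hwact, Aschbacher.cj_inv_apply]
  have hc0 : c ≠ 0 := fun h => z.ne_zero (by rw [hc, h, zero_smul])
  have hzstd : z ∈ tensorWreathStandard m t F := by
    let i₀ : Fin t := ⟨0, by omega⟩
    have e : z = pureGL (Function.update (fun _ => (1 : GL (Fin m) F)) i₀
        (Units.map (algebraMap F (Matrix (Fin m) (Fin m) F)).toMonoidHom (Units.mk0 c hc0))) := Units.ext (by
      rw [hc, ← slot_one i₀, ← slot_smul, slot]
      change _ = pureMat _
      congr 1
      funext k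
      rcases eq_or_ne k i₀ with rfl | hk
      · simp [Algebra.algebraMap_eq_smul_one]
      · simp [Function.update_of_ne hk])
    rw [e]
    exact Subgroup.subset_closure (Or.inl ⟨_, fun x y => rfl⟩)
  have : g = w * z := by rw [hz, mul_inv_cancel_left]
  rw [this]
  exact mul_mem hwstd hzstd

end Small

/-- The maximality. -/
theorem maximal {ι : Type} [Fintype ι] [DecidableEq ι] [Finite F] (hm : 3 ≤ m) (ht : 2 ≤ t)
    (e : ι ≃ (Fin t → Fin m)) (P : GL ι F) :
    IsMaximalIn (specialLinear ι F) (tensorWreathSubgroup m t e P ⊓ specialLinear ι F) := by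
  refine ⟨lt_of_le_of_ne inf_le_right fun h =>
    Aschbacher.tensorWreathSubgroup_proper e P hm ht (h ▸ inf_le_left), fun N hN hN' => ?_⟩
  let Φ : GL (Fin t → Fin m) F ≃* GL ι F := (glReindex e.symm).trans (MulAut.conj P)
  have hdet : ∀ x, Φ x ∈ specialLinear ι F ↔ x ∈ specialLinear (Fin t → Fin m) F := by
    intro x
    change P * glReindex e.symm x * P⁻¹ ∈ specialLinear ι F ↔ _
    have h1 : (Matrix.GeneralLinearGroup.det (glReindex e.symm x)) = Matrix.GeneralLinearGroup.det x := by
      refine Units.ext ?_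
      rw [Matrix.GeneralLinearGroup.val_det_apply, Matrix.GeneralLinearGroup.val_det_apply]
      exact Matrix.det_reindexAlgEquiv F F e.symm _
    simp [specialLinear, MonoidHom.mem_ker, h1]
  have hstd : ∀ x, Φ x ∈ tensorWreathSubgroup m t e P ↔ x ∈ tensorWreathStandard m t F := by
    intro x
    constructor
    · rintro ⟨-, ⟨y, hy, rfl⟩, h⟩
      have : y = x := (glReindex e.symm).injective ((MulAut.conj P).injective h)
      rwa [← this]
    · intro hx
      exact ⟨_, ⟨x, hx, rfl⟩, rfl⟩
  set M := N.comap Φ.toMonoidHom with hM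
  have hle : tensorWreathStandard m t F ⊓ specialLinear (Fin t → Fin m) F ≤ M := fun x hx =>
    hN ⟨(hstd x).2 hx.1, (hdet x).2 hx.2⟩
  have hsurj : ∀ y ∈ N, ∃ x ∈ M, Φ x = y := fun y hy =>
    ⟨Φ.symm y, by change Φ (Φ.symm y) ∈ N; rwa [MulEquiv.apply_symm_apply], Φ.apply_symm_apply y⟩
  by_cases hS : ∀ k, Small (locM M k)
  · refine Or.inl (le_antisymm (fun y hy => ?_) hN)
    obtain ⟨x, hx, rfl⟩ := hsurj y hy
    exact ⟨(hstd x).2 (le_standard (roots_of_le hle) (cycles_of_le hle) hm ht hS hx), hN' hy⟩
  · obtain ⟨k, hk⟩ := not_forall.1 hS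
    refine Or.inr (le_antisymm hN' fun y hy => ?_)
    obtain ⟨x, rfl⟩ := Φ.surjective y
    exact special_le_of_not_small (roots_of_le hle) (cycles_of_le hle) hm hk ((hdet x).1 hy)

end Cfsg.Agent.H98.TensorWreath.Full
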